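import Cfsg.Agent.Lib.Bender.Q.Full.Singer
import Cfsg.Agent.S0200
import Mathlib.LinearAlgebra.Matrix.GeneralLinearGroup.Card

/-!
A linear group over two elements with a surjective cocycle whose zero set normalises a regular cyclic subgroup is
all of `GL_3(2)`.

Blueprint: `blueprint/bender/Q_VI.md` 4.
-/

set_option autoImplicit false
set_option linter.unusedSectionVars false
set_option linter.style.haveILetI false
set_option linter.deprecated false

universe u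

namespace CfsgLib.Bender.Q.Affine

open Module MulAction

variable {V : Type u} [AddCommGroup V] [Module (ZMod 2) V] [Finite V]

theorem finite_gl : Finite (V ≃ₗ[ZMod 2] V) := Finite.of_injective _ DFunLike.coe_injective

attribute [local instance] finite_gl

/-- The points of the affine action. -/
def Aff (V : Type u) : Type u := V

/-- A vector as a point. -/
def toA {V : Type u} (v : V) : Aff V := v

instance : Finite (Aff V) := ‹Finite V›

theorem add_self' (v : V) : v + v = 0 := by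
  rw [← two_smul (ZMod 2) v, show (2 : ZMod 2) = 0 from rfl, zero_smul]

theorem neg_eq (v : V) : -v = v := neg_eq_iff_add_eq_zero.mpr (add_self' v)

/-- The fixed space of a linear map. -/
def fixSp (g : V ≃ₗ[ZMod 2] V) : Submodule (ZMod 2) V := LinearMap.ker ((g : V →ₗ[ZMod 2] V) + LinearMap.id)

theorem mem_fixSp {g : V ≃ₗ[ZMod 2] V} {v : V} : v ∈ fixSp g ↔ g v = v := by
  rw [fixSp, LinearMap.mem_ker]
  show g v + v = 0 ↔ _
  rw [← eq_neg_iff_add_eq_zero, neg_eq]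

theorem card_fixSp_conj (k g : V ≃ₗ[ZMod 2] V) : Nat.card (fixSp (k * g * k⁻¹)) = Nat.card (fixSp g) := by
  refine Nat.card_congr ((Equiv.subtypeEquiv k.toEquiv fun v => ?_).symm)
  show v ∈ fixSp g ↔ k v ∈ fixSp (k * g * k⁻¹)
  rw [mem_fixSp, mem_fixSp]
  show _ ↔ k (g (k⁻¹ (k v))) = k v
  rw [show k⁻¹ (k v) = v from k.symm_apply_apply v]
  exact ⟨fun e => by rw [e], fun e => k.injective e⟩

/-- An involution whose shift is outside the commutators has a large fixed space. -/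
theorem large_fixSp {t : V ≃ₗ[ZMod 2] V} (h2 : t * t = 1) {d : V} (hd : t d = d)
    (hno : ∀ v, t v + d ≠ v) : Nat.card V < Nat.card (fixSp t) * Nat.card (fixSp t) := by
  set N : V →ₗ[ZMod 2] V := (t : V →ₗ[ZMod 2] V) + LinearMap.id
  have hle : LinearMap.range N ≤ fixSp t := by
    rintro _ ⟨v, rfl⟩
    rw [mem_fixSp]
    show t (t v + v) = t v + v
    rw [map_add, show t (t v) = (t * t) v from rfl, h2]
    exact add_comm _ _
  have hlt : LinearMap.range N < fixSp t := by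
    refine lt_of_le_of_ne hle fun e => ?_
    obtain ⟨v, hv⟩ : d ∈ LinearMap.range N := e ▸ mem_fixSp.mpr hd
    refine hno v ?_
    change t v + v = d at hv
    rw [← hv, ← add_assoc, add_self', zero_add]
  have h1 := N.quotKerEquivRange.toEquiv
  rw [Submodule.card_eq_card_quotient_mul_card (LinearMap.ker N), Nat.card_congr h1]
  refine (Nat.mul_lt_mul_left (a := Nat.card (fixSp t)) Nat.card_pos).mpr ?_
  exact Set.ncard_lt_ncard (show ((LinearMap.range N : Submodule (ZMod 2) V) : Set V) ⊂ fixSp t from hlt)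
    (Set.toFinite _)

theorem exists_common {P R : Submodule (ZMod 2) V} (h : Nat.card V < Nat.card P * Nat.card R) :
    ∃ z : V, z ≠ 0 ∧ z ∈ P ∧ z ∈ R := by
  by_contra hno
  push Not at hno
  refine absurd (Nat.card_le_card_of_injective (fun p : P × R => (p.1 : V) + p.2) ?_) (by rw [Nat.card_prod]; omega)
  rintro ⟨p, r⟩ ⟨p', r'⟩ e
  have h1 : (p : V) + p' = (r : V) + r' := by
    have := congrArg (fun v => v + ((p' : V) + (r : V))) e
    rw [show (p : V) + r + (p' + r) = (p + p') + (r + r) by abel, add_self', add_zero,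
      show (p' : V) + r' + (p' + r) = (r + r') + (p' + p') by abel, add_self', add_zero] at this
    exact this
  have hz : (p : V) + p' = 0 := by
    by_contra hne
    exact hno _ hne (P.add_mem p.2 p'.2) (h1 ▸ R.add_mem r.2 r'.2)
  have hp : p = p' := Subtype.ext (by rwa [← eq_neg_iff_add_eq_zero, neg_eq] at hz)
  subst hp
  exact Prod.ext rfl (Subtype.ext (add_left_cancel e))

variable {X J : Subgroup (V ≃ₗ[ZMod 2] V)} {δ : (V ≃ₗ[ZMod 2] V) → V}

/-- The hypotheses. -/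
structure Data (X J : Subgroup (V ≃ₗ[ZMod 2] V)) (δ : (V ≃ₗ[ZMod 2] V) → V) : Prop where
  two : 2 ≤ finrank (ZMod 2) V
  le : J ≤ X
  cyc : ∃ g ∈ J, ∀ j ∈ J, j ∈ Subgroup.zpowers g
  trans : ∀ v w : V, v ≠ 0 → w ≠ 0 → ∃ j ∈ J, j v = w
  free : ∀ j ∈ J, ∀ v : V, v ≠ 0 → j v = v → j = 1
  zeroJ : ∀ j ∈ J, δ j = 0
  cocycle : ∀ x ∈ X, ∀ y ∈ X, δ (x * y) = δ x + x (δ y)
  surj : ∀ v : V, ∃ x ∈ X, δ x = v
  zero_norm : ∀ x ∈ X, δ x = 0 → ∀ j ∈ J, x * j * x⁻¹ ∈ J

namespace Data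

variable (hD : Data X J δ)
include hD

theorem comm : ∀ a ∈ J, ∀ b ∈ J, a * b = b * a := by
  obtain ⟨g, -, hg⟩ := hD.cyc
  intro a ha b hb
  obtain ⟨i, rfl⟩ := Subgroup.mem_zpowers_iff.mp (hg a ha)
  obtain ⟨k, rfl⟩ := Subgroup.mem_zpowers_iff.mp (hg b hb)
  exact ((Commute.refl g).zpow_zpow i k).eq

theorem nontrivial : Nontrivial V :=
  Module.nontrivial_of_finrank_pos (R := ZMod 2) (by have := hD.two; omega)

theorem delta_one : δ 1 = 0 := by
  have h := hD.cocycle 1 (one_mem _) 1 (one_mem _)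
  rw [mul_one] at h
  change δ 1 = δ 1 + δ 1 at h
  exact h.trans (add_self' _)

/-- The affine action. -/
@[reducible] def act : MulAction X (Aff V) where
  smul x v := toA ((x : V ≃ₗ[ZMod 2] V) (show V from v) + δ x)
  one_smul v := by
    show toA ((show V from v) + δ 1) = v
    rw [hD.delta_one, add_zero]
    rfl
  mul_smul x y (v : V) := by
    show (x : V ≃ₗ[ZMod 2] V) ((y : V ≃ₗ[ZMod 2] V) v) + δ (x * y) =
      (x : V ≃ₗ[ZMod 2] V) ((y : V ≃ₗ[ZMod 2] V) v + δ y) + δ x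
    rw [map_add, hD.cocycle x x.2 y y.2]
    abel

theorem delta_inv_conj {x g : V ≃ₗ[ZMod 2] V} (hx : x ∈ X) (hg : g ∈ X) (v : V) (hv : g v + δ g = v) :
    (x * g * x⁻¹) (x v + δ x) + δ (x * g * x⁻¹) = x v + δ x := by
  letI := hD.act
  have h : (⟨g, hg⟩ : X) • toA v = toA v := hv
  have h2 : ((⟨x, hx⟩ : X) * ⟨g, hg⟩ * (⟨x, hx⟩ : X)⁻¹) • ((⟨x, hx⟩ : X) • toA v) = (⟨x, hx⟩ : X) • toA v := by
    rw [mul_smul, mul_smul, inv_smul_smul, h]
  exact h2

/-- The centraliser of the torus in the group is the torus. -/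
theorem mem_of_commute {x : V ≃ₗ[ZMod 2] V} (h : ∀ j ∈ J, x * j = j * x) : x ∈ J := by
  haveI := hD.nontrivial
  obtain ⟨v, hv⟩ := exists_ne (0 : V)
  obtain ⟨j, hj, hje⟩ := hD.trans v (x v) hv (fun e => hv (x.injective (e.trans (map_zero x).symm)))
  have : x = j := LinearEquiv.ext fun w => by
    by_cases hw : w = 0
    · rw [hw, map_zero, map_zero]
    obtain ⟨k, hk, rfl⟩ := hD.trans v w hv hw
    rw [← LinearEquiv.mul_apply x k, h k hk, ← LinearEquiv.mul_apply j k, hD.comm j hj k hk]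
    show k (x v) = k (j v)
    rw [hje]
  rwa [this]

/-- The commutator of two elements of the zero set lies in the torus. -/
theorem commutator_mem {x y : V ≃ₗ[ZMod 2] V} (hx : x ∈ X) (hy : y ∈ X) (hx0 : δ x = 0) (hy0 : δ y = 0) :
    x * y * x⁻¹ * y⁻¹ ∈ J := by
  obtain ⟨g, hg, hgen⟩ := hD.cyc
  have hinv : ∀ {z : V ≃ₗ[ZMod 2] V}, z ∈ X → δ z = 0 → δ z⁻¹ = 0 := by
    intro z hz hz0
    have h := hD.cocycle z⁻¹ (inv_mem hz) z hz
    rw [inv_mul_cancel, hD.delta_one, hz0, map_zero, add_zero] at h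
    exact h.symm
  obtain ⟨i, hi⟩ := Subgroup.mem_zpowers_iff.mp (hgen _ (hD.zero_norm x hx hx0 g hg))
  obtain ⟨k, hk⟩ := Subgroup.mem_zpowers_iff.mp (hgen _ (hD.zero_norm y hy hy0 g hg))
  have hxg : ∀ n : ℤ, x * g ^ n * x⁻¹ = g ^ (i * n) := fun n => by rw [← conj_zpow, ← hi, ← zpow_mul]
  have hyg : ∀ n : ℤ, y * g ^ n * y⁻¹ = g ^ (k * n) := fun n => by rw [← conj_zpow, ← hk, ← zpow_mul]
  have hxy : x * y * g * (x * y)⁻¹ = y * x * g * (y * x)⁻¹ := by
    calc x * y * g * (x * y)⁻¹ = x * (y * g * y⁻¹) * x⁻¹ := by group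
      _ = y * (x * g * x⁻¹) * y⁻¹ := by rw [← hk, hxg, ← hi, hyg, mul_comm k i]
      _ = y * x * g * (y * x)⁻¹ := by group
  have hc : x * y * x⁻¹ * y⁻¹ * (y * x * g * (y * x)⁻¹) = y * x * g * (y * x)⁻¹ * (x * y * x⁻¹ * y⁻¹) := by
    conv_rhs => rw [← hxy]
    group
  refine hD.mem_of_commute fun j hj => ?_
  obtain ⟨n, hn⟩ := Subgroup.mem_zpowers_iff.mp (hgen _ (hD.zero_norm _ (inv_mem hx) (hinv hx hx0) _
    (hD.zero_norm _ (inv_mem hy) (hinv hy hy0) j hj)))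
  have e : j = (y * x * g * (y * x)⁻¹) ^ n := by
    rw [conj_zpow, hn]
    group
  rw [e]
  exact ((show Commute _ _ from hc).zpow_right n).eq

/-- No non-trivial normal subgroup is a `2`-group. -/
theorem no_two_normal {N : Subgroup X} [N.Normal] (hN : IsPGroup 2 N) {t : X} (ht : t ∈ N) : t = 1 := by
  haveI : Fact (Nat.Prime 2) := ⟨Nat.prime_two⟩
  letI : MulAction N V :=
    { smul := fun n v => ((n : X) : V ≃ₗ[ZMod 2] V) v
      one_smul := fun v => rfl
      mul_smul := fun n m v => rfl }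
  have hcard : 2 ∣ Nat.card V := by
    rw [Module.natCard_eq_pow_finrank (K := ZMod 2), Nat.card_zmod]
    exact dvd_pow_self 2 (by have := hD.two; omega)
  obtain ⟨z, hz, hz0⟩ := hN.exists_fixed_point_of_prime_dvd_card_of_fixed_point V hcard
    (a := (0 : V)) (fun n => map_zero ((n : X) : V ≃ₗ[ZMod 2] V))
  refine Subtype.ext (LinearEquiv.ext fun v => ?_)
  show ((t : X) : V ≃ₗ[ZMod 2] V) v = v
  by_cases hv : v = 0
  · rw [hv, map_zero]
  obtain ⟨j, hj, rfl⟩ := hD.trans z v (Ne.symm hz0) hv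
  have h1 : ((⟨j, hD.le hj⟩ : X)⁻¹ * t * ⟨j, hD.le hj⟩) ∈ N := by
    have := ‹N.Normal›.conj_mem t ht (⟨j, hD.le hj⟩ : X)⁻¹
    rwa [inv_inv] at this
  have h2 : (j⁻¹ * (t : V ≃ₗ[ZMod 2] V) * j) z = z := hz ⟨_, h1⟩
  have h3 := congrArg j h2
  rwa [LinearEquiv.mul_apply, LinearEquiv.mul_apply, ← LinearEquiv.mul_apply j j⁻¹, mul_inv_cancel] at h3

/-- A free involution exists. -/
theorem exists_free : ∃ t ∈ X, t * t = 1 ∧ t ≠ 1 ∧ ∀ v, t v + δ t ≠ v := by
  haveI : Fact (Nat.Prime 2) := ⟨Nat.prime_two⟩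
  letI := hD.act
  haveI := hD.nontrivial
  have htrans : ∀ v : V, ∃ x : X, x • toA (0 : V) = toA v := fun v => by
    obtain ⟨x, hx, rfl⟩ := hD.surj v
    exact ⟨⟨x, hx⟩, by show toA (x 0 + δ x) = toA (δ x); rw [map_zero, zero_add]⟩
  have hcard : Nat.card V = 2 ^ finrank (ZMod 2) V := by
    rw [Module.natCard_eq_pow_finrank (K := ZMod 2), Nat.card_zmod]
  have horb : Nat.card V * Nat.card (stabilizer X (toA (0 : V))) = Nat.card X := by
    rw [Subgroup.card_eq_card_quotient_mul_card_subgroup (stabilizer X (toA (0 : V))),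
      ← Nat.card_congr (orbitEquivQuotientStabilizer X (toA (0 : V)))]
    congr 1
    exact (Nat.card_congr (Equiv.subtypeUnivEquiv (α := Aff V) fun v => htrans v)).symm
  obtain ⟨S⟩ : Nonempty (Sylow 2 X) := inferInstance
  have hS : ∀ v : V, ∃ s ∈ (S : Subgroup X), s • toA (0 : V) = toA v := by
    have h1 : Nat.card S = Nat.card (orbit (S : Subgroup X) (toA (0 : V))) * Nat.card (stabilizer (S : Subgroup X) (toA (0 : V))) := by
      rw [Subgroup.card_eq_card_quotient_mul_card_subgroup (stabilizer (S : Subgroup X) (toA (0 : V))),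
        ← Nat.card_congr (orbitEquivQuotientStabilizer (S : Subgroup X) (toA (0 : V)))]
    obtain ⟨i, hi⟩ := (S.isPGroup'.to_subgroup (stabilizer (S : Subgroup X) (toA (0 : V)))).exists_card_eq
    have h2 : Nat.card (stabilizer (S : Subgroup X) (toA (0 : V))) ∣ Nat.card (stabilizer X (toA (0 : V))) := by
      rw [Nat.card_congr ((stabilizer (S : Subgroup X) (toA (0 : V))).equivMapOfInjective (S : Subgroup X).subtype
        (S : Subgroup X).subtype_injective).toEquiv]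
      refine Subgroup.card_dvd_of_le ?_
      rintro _ ⟨x, hx, rfl⟩
      exact hx
    have hi' : i ≤ (Nat.card (stabilizer X (toA (0 : V)))).factorization 2 :=
      (Nat.prime_two.pow_dvd_iff_le_factorization Nat.card_pos.ne').mp (hi ▸ h2)
    have h3 := S.card_eq_multiplicity
    rw [← horb, Nat.factorization_mul Nat.card_pos.ne' Nat.card_pos.ne', Finsupp.coe_add, Pi.add_apply, hcard,
      Nat.factorization_pow, Finsupp.coe_smul, Pi.smul_apply, Nat.Prime.factorization_self Nat.prime_two,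
      smul_eq_mul, mul_one, h1, hi, pow_add] at h3
    have h4 : Nat.card V ≤ Nat.card (orbit (S : Subgroup X) (toA (0 : V))) := by
      have : 2 ^ finrank (ZMod 2) V * 2 ^ i ≤ Nat.card (orbit (S : Subgroup X) (toA (0 : V))) * 2 ^ i := by
        rw [h3]
        exact Nat.mul_le_mul_left _ (Nat.pow_le_pow_right two_pos hi')
      rw [hcard]
      exact Nat.le_of_mul_le_mul_right this (by positivity)
    intro v
    rw [Nat.card_coe_set_eq, ← Set.ncard_univ] at h4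
    change (Set.univ : Set (Aff V)).ncard ≤ _ at h4
    obtain ⟨⟨s, hs⟩, hse⟩ :=
      (Set.eq_of_subset_of_ncard_le (Set.subset_univ _) h4 (Set.toFinite _)).ge (Set.mem_univ (toA v))
    exact ⟨s, hs, hse⟩
  haveI : Nontrivial S := by
    obtain ⟨v, hv⟩ := exists_ne (0 : V)
    obtain ⟨s, hs, hsv⟩ := hS v
    exact ⟨⟨s, hs⟩, 1, fun e => hv (by
      have : s = 1 := congrArg Subtype.val e
      rw [this, one_smul] at hsv; exact hsv.symm)⟩
  haveI : Nontrivial (Subgroup.center S) := S.isPGroup'.center_nontrivial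
  obtain ⟨n, hn0, hn⟩ := (S.isPGroup'.to_subgroup (Subgroup.center S)).nontrivial_iff_card.mp inferInstance
  obtain ⟨z, hz⟩ := exists_prime_orderOf_dvd_card' (G := Subgroup.center S) 2 (hn ▸ dvd_pow_self 2 (by omega))
  obtain ⟨hz2, hz1⟩ := CfsgLib.Involutions.orderOf_eq_two_iff'.mp hz
  refine ⟨((z : S) : X).1, ((z : S) : X).2, congrArg (fun w : Subgroup.center S => ((w : S) : X).1) hz2,
    fun e => hz1 (Subtype.ext (Subtype.ext (Subtype.ext e))), fun v hv => hz1 ?_⟩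
  have hfix : ∀ w : V, ((z : S) : X) • toA w = toA w := by
    have h0 : ((z : S) : X) • toA v = toA v := hv
    obtain ⟨s0, hs0, hs0v⟩ := hS v
    intro w
    obtain ⟨s, hs, hsw⟩ := hS w
    set k : S := ⟨s, hs⟩ * (⟨s0, hs0⟩ : S)⁻¹
    have hkv : (k : X) • toA v = toA w := by
      show (s * s0⁻¹) • toA v = toA w
      rw [mul_smul, inv_smul_eq_iff.mpr hs0v.symm, hsw]
    have hcz := congrArg Subtype.val (Subgroup.mem_center_iff.mp z.2 k)
    change (k : X) * ((z : S) : X) = ((z : S) : X) * (k : X) at hcz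
    rw [← hkv, ← mul_smul, ← hcz, mul_smul, h0]
  refine Subtype.ext (Subtype.ext (Subtype.ext (LinearEquiv.ext fun w => ?_)))
  have h1 : (((z : S) : X) : V ≃ₗ[ZMod 2] V) 0 + δ ((z : S) : X).1 = 0 := hfix 0
  rw [map_zero, zero_add] at h1
  have h2 : (((z : S) : X) : V ≃ₗ[ZMod 2] V) w + δ ((z : S) : X).1 = w := hfix w
  rwa [h1, add_zero] at h2

/-- An element of odd prime order in the zero set fixes exactly one non-zero vector. -/
theorem exists_galois : ∃ g ∈ X, ∃ p : ℕ, p.Prime ∧ p ≠ 2 ∧ g ^ p = 1 ∧ g ≠ 1 ∧ δ g = 0 ∧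
    (∀ c ∈ J, g * c = c * g → c = 1) := by
  haveI : Fact (Nat.Prime 2) := ⟨Nat.prime_two⟩
  letI := hD.act
  obtain ⟨t, ht, ht2, ht1, htfree⟩ := hD.exists_free
  have htd : t (δ t) = δ t := by
    have h := hD.cocycle t ht t ht
    rw [ht2, hD.delta_one, eq_comm, ← eq_neg_iff_add_eq_zero] at h
    rw [neg_eq] at h
    exact h.symm.trans rfl
  have hbig := large_fixSp ht2 htd htfree
  obtain ⟨h, hh1, hhodd, hhinv⟩ := Cfsg.Agent.S0200.result (⟨t, ht⟩ : X)
    (CfsgLib.Involutions.orderOf_eq_two_iff'.mpr ⟨Subtype.ext ht2, fun e => ht1 (congrArg Subtype.val e)⟩)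
    fun N _ hN htN => ht1 (congrArg Subtype.val (hD.no_two_normal hN htN))
  obtain ⟨p, hp, hpd⟩ := Nat.exists_prime_and_dvd (fun e : orderOf h = 1 => hh1 (orderOf_eq_one_iff.mp e))
  haveI := Fact.mk hp
  have hp2 : p ≠ 2 := fun e => Nat.not_even_iff_odd.mpr hhodd (even_iff_two_dvd.mpr (e ▸ hpd))
  set s : X := h ^ (orderOf h / p) with hs
  have hsord : orderOf s = p := orderOf_pow_orderOf_div (orderOf_pos h).ne' hpd
  have hsinv : (⟨t, ht⟩ : X) * s * (⟨t, ht⟩ : X)⁻¹ = s⁻¹ := by rw [hs, ← conj_pow, hhinv, inv_pow]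
  obtain ⟨n, hn⟩ := CfsgLib.Involutions.exists_sqrt (show Odd (orderOf s) by rw [hsord]; exact hp.odd_of_ne_two hp2)
  -- a common fixed vector
  have hst : (s : V ≃ₗ[ZMod 2] V) * t = (s ^ n : X).1 * t * ((s ^ n : X).1)⁻¹ := by
    have h1 : (⟨t, ht⟩ : X) * (s ^ n) * (⟨t, ht⟩ : X)⁻¹ = (s ^ n)⁻¹ := by rw [← conj_pow, hsinv, inv_pow]
    have h2 : s * ⟨t, ht⟩ = s ^ n * ⟨t, ht⟩ * (s ^ n)⁻¹ := by
      have htt : (⟨t, ht⟩ : X) * ⟨t, ht⟩ = 1 := Subtype.ext ht2
      calc s * ⟨t, ht⟩ = s ^ n * s ^ n * (⟨t, ht⟩ : X) := by rw [hn]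
        _ = s ^ n * ((⟨t, ht⟩ : X) * ⟨t, ht⟩) * s ^ n * (⟨t, ht⟩ : X)⁻¹ := by
            rw [htt, mul_one, inv_eq_of_mul_eq_one_right htt]
        _ = s ^ n * ⟨t, ht⟩ * (s ^ n)⁻¹ := by rw [← h1]; group
    exact congrArg Subtype.val h2
  obtain ⟨z, hz0, hzt, hzs⟩ := exists_common (P := fixSp t) (R := fixSp ((s : V ≃ₗ[ZMod 2] V) * t))
    (by rw [hst, card_fixSp_conj]; exact hbig)
  rw [mem_fixSp] at hzt hzs
  rw [LinearEquiv.mul_apply, hzt] at hzs
  -- an affine fixed point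
  letI : MulAction (Subgroup.zpowers s) (Aff V) := MulAction.compHom (Aff V) (Subgroup.zpowers s).subtype
  have hP : IsPGroup p (Subgroup.zpowers s) := IsPGroup.of_card (n := 1) (by rw [Nat.card_zpowers, hsord, pow_one])
  obtain ⟨v, hv⟩ := hP.nonempty_fixed_point_of_prime_not_dvd_card (Aff V) (by
    show ¬ p ∣ Nat.card V
    rw [Module.natCard_eq_pow_finrank (K := ZMod 2), Nat.card_zmod]
    exact fun hd => hp2 ((Nat.prime_dvd_prime_iff_eq hp Nat.prime_two).mp (hp.dvd_of_dvd_pow hd)))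
  change V at v
  have hsv : (s : V ≃ₗ[ZMod 2] V) v + δ s.1 = v := hv ⟨s, Subgroup.mem_zpowers s⟩
  obtain ⟨x, hx, hxv⟩ := hD.surj v
  set g := x⁻¹ * s.1 * x with hg
  set τ := x⁻¹ * t * x with hτ
  have hgX : g ∈ X := X.mul_mem (X.mul_mem (inv_mem hx) s.2) hx
  have hτX : τ ∈ X := X.mul_mem (X.mul_mem (inv_mem hx) ht) hx
  have hxi : x⁻¹ v + δ x⁻¹ = 0 := by
    have h := hD.cocycle x⁻¹ (inv_mem hx) x hx
    rw [inv_mul_cancel, hD.delta_one, hxv] at h
    rw [h, add_comm]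
  have hg0 : δ g = 0 := by
    have h := hD.delta_inv_conj (inv_mem hx) s.2 v hsv
    rw [inv_inv, hxi, map_zero, zero_add] at h
    exact h
  have hτ0 : δ τ ≠ 0 := fun e => htfree v (by
    have h := hD.delta_inv_conj hx hτX 0 (by rw [map_zero, zero_add, e])
    rwa [map_zero, zero_add, hxv, show x * τ * x⁻¹ = t by rw [hτ]; group] at h)
  have hg1 : g ≠ 1 := fun e => by
    rw [hg] at e
    have : s.1 = 1 := by
      calc s.1 = x * (x⁻¹ * s.1 * x) * x⁻¹ := by group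
        _ = 1 := by rw [e, mul_one, mul_inv_cancel]
    rw [show s = 1 from Subtype.ext this, orderOf_one] at hsord
    exact hp.one_lt.ne hsord
  have hgp : g ^ p = 1 := by
    have : s.1 ^ p = 1 := congrArg Subtype.val (hsord ▸ pow_orderOf_eq_one s)
    rw [hg]
    have h2 := conj_pow (i := p) (a := x⁻¹) (b := s.1)
    rw [inv_inv] at h2
    rw [h2, this, mul_one, inv_mul_cancel]
  have hτg : τ * g * τ⁻¹ = g⁻¹ := by
    have h1 : t * s.1 * t⁻¹ = s.1⁻¹ := congrArg Subtype.val hsinv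
    rw [hg, hτ]
    calc x⁻¹ * t * x * (x⁻¹ * s.1 * x) * (x⁻¹ * t * x)⁻¹ = x⁻¹ * (t * s.1 * t⁻¹) * x := by group
      _ = _ := by rw [h1]; group
  set z' := x⁻¹ z with hz'
  have hz'0 : z' ≠ 0 := fun e => hz0 (x⁻¹.injective (e.trans (map_zero _).symm))
  have hgz' : g z' = z' := by
    rw [hg, hz']
    show x⁻¹ (s.1 (x (x⁻¹ z))) = x⁻¹ z
    rw [show x (x⁻¹ z) = z from x.apply_symm_apply z, hzs]
  -- fixed vectors and commuting torus elements
  have hcomm : ∀ {j : V ≃ₗ[ZMod 2] V}, j ∈ J → ∀ {w : V}, w ≠ 0 → g w = w → g (j w) = j w → g * j = j * g := by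
    intro j hj w hw hgw hgj
    have hc := hD.zero_norm g hgX hg0 j hj
    have he : j⁻¹ * (g * j * g⁻¹) = 1 := hD.free _ (J.mul_mem (inv_mem hj) hc) w hw (by
      show j⁻¹ (g (j (g⁻¹ w))) = w
      rw [show g⁻¹ w = w from g.injective ((g.apply_symm_apply w).trans hgw.symm), hgj]
      exact j.symm_apply_apply w)
    rw [inv_mul_eq_one] at he
    exact (mul_inv_eq_iff_eq_mul.mp he.symm)
  refine ⟨g, hgX, p, hp, hp2, hgp, hg1, hg0, fun c hc hcg => by_contra fun hc1 => ?_⟩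
  -- otherwise the centraliser moves zero
  have hgτ : g (δ τ) = δ τ := by
    have h := hD.delta_inv_conj hτX (inv_mem hgX) 0 (by
      have h2 := hD.cocycle g⁻¹ (inv_mem hgX) g hgX
      rw [inv_mul_cancel, hD.delta_one, hg0, map_zero, add_zero] at h2
      rw [map_zero, zero_add, ← h2])
    rw [map_zero, zero_add, show τ * g⁻¹ * τ⁻¹ = g by rw [← conj_inv, hτg, inv_inv], hg0, add_zero] at h
    exact h
  have hmove : ∃ k ∈ X, g * k = k * g ∧ δ k ≠ 0 := by
    by_contra hno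
    push Not at hno
    have hτc : g * (τ⁻¹ * c * τ) = τ⁻¹ * c * τ * g := by
      have h1 : τ⁻¹ * g * τ = g⁻¹ := by
        calc τ⁻¹ * g * τ = τ⁻¹ * (τ * g * τ⁻¹)⁻¹ * τ := by rw [hτg, inv_inv]
          _ = g⁻¹ := by group
      have hc' : c * g⁻¹ = g⁻¹ * c := ((show Commute g c from hcg).inv_left.eq).symm
      calc g * (τ⁻¹ * c * τ) = (τ⁻¹ * g⁻¹ * τ) * (τ⁻¹ * c * τ) := by
            rw [show τ⁻¹ * g⁻¹ * τ = (τ⁻¹ * g * τ)⁻¹ by group, h1, inv_inv]
        _ = τ⁻¹ * (g⁻¹ * c) * τ := by group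
        _ = τ⁻¹ * c * τ * (τ⁻¹ * g⁻¹ * τ) := by rw [← hc']; group
        _ = _ := by rw [show τ⁻¹ * g⁻¹ * τ = (τ⁻¹ * g * τ)⁻¹ by group, h1, inv_inv]
    have h0 := hno _ (X.mul_mem (X.mul_mem (inv_mem hτX) (hD.le hc)) hτX) hτc
    have h := hD.delta_inv_conj hτX (X.mul_mem (X.mul_mem (inv_mem hτX) (hD.le hc)) hτX) 0
      (by rw [map_zero, zero_add, h0])
    rw [map_zero, zero_add, show τ * (τ⁻¹ * c * τ) * τ⁻¹ = c by group, hD.zeroJ c hc, add_zero] at h
    exact hc1 (hD.free c hc _ hτ0 h)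
  obtain ⟨k, hk, hgk, hk0⟩ := hmove
  have hgdk : g (δ k) = δ k := by
    have h1 := hD.cocycle g hgX k hk
    rw [hgk, hD.cocycle k hk g hgX, hg0, map_zero, add_zero, zero_add] at h1
    exact h1.symm
  obtain ⟨j, hj, hjk⟩ := hD.trans _ _ hk0 hτ0
  have hgj := hcomm hj hk0 hgdk (by rw [hjk, hgτ])
  have hk' : δ (j * k) = δ τ := by rw [hD.cocycle j (hD.le hj) k hk, hD.zeroJ j hj, zero_add, hjk]
  have hmem : (j * k)⁻¹ * τ ∈ X := X.mul_mem (inv_mem (X.mul_mem (hD.le hj) hk)) hτX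
  have hr0 : δ ((j * k)⁻¹ * τ) = 0 := by
    have h := hD.cocycle (j * k) (X.mul_mem (hD.le hj) hk) ((j * k)⁻¹ * τ) hmem
    rw [mul_inv_cancel_left, hk'] at h
    exact (j * k).injective ((left_eq_add.mp h).trans (map_zero _).symm)
  have hgjk : Commute g (j * k) := (show Commute g j from hgj).mul_right hgk
  have hrg : (j * k)⁻¹ * τ * g * ((j * k)⁻¹ * τ)⁻¹ = g⁻¹ := by
    rw [show (j * k)⁻¹ * τ * g * ((j * k)⁻¹ * τ)⁻¹ = (j * k)⁻¹ * (τ * g * τ⁻¹) * (j * k) by group, hτg,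
      mul_assoc, (hgjk.inv_left).eq, inv_mul_cancel_left]
  have hJ2 := hD.commutator_mem hmem hgX hr0 hg0
  rw [hrg] at hJ2
  have hgJ : g ∈ J := (fun h h2 => by obtain ⟨n, hn⟩ := CfsgLib.Involutions.exists_sqrt h; rw [← hn, ← (Commute.refl g).mul_pow]; exact pow_mem h2 n : Odd (orderOf g) → g * g ∈ J → g ∈ J) (by
    rw [orderOf_eq_prime hgp hg1]
    exact hp.odd_of_ne_two hp2) (by
    have := inv_mem hJ2
    rwa [mul_inv_rev, inv_inv] at this)
  exact hg1 (hD.free g hgJ z' hz'0 hgz')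

/-- The dimension is three and the group is the whole linear group. -/
theorem main : finrank (ZMod 2) V = 3 ∧ X = ⊤ := by
  haveI : Fact (Nat.Prime 2) := ⟨Nat.prime_two⟩
  haveI := hD.nontrivial
  letI := hD.act
  obtain ⟨g, hg, p, hp, hp2, hgp, hg1, hg0, hgfree⟩ := hD.exists_galois
  have hl : finrank (ZMod 2) V = p := Singer.finrank_eq_prime hD.comm hD.trans hp hgp hg1
    (hD.zero_norm g hg hg0) hgfree
  have hq : Nat.card V = 2 ^ p := by rw [Module.natCard_eq_pow_finrank (K := ZMod 2), Nat.card_zmod, hl]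
  set D0 := (stabilizer X (toA (0 : V))).map X.subtype with hD0
  have hmem0 : ∀ {x : V ≃ₗ[ZMod 2] V}, x ∈ D0 ↔ x ∈ X ∧ δ x = 0 := by
    intro x
    constructor
    · rintro ⟨y, hy, rfl⟩
      refine ⟨y.2, ?_⟩
      have : (y : V ≃ₗ[ZMod 2] V) 0 + δ y.1 = 0 := hy
      rwa [map_zero, zero_add] at this
    · rintro ⟨hx, hx0⟩
      exact ⟨⟨x, hx⟩, show toA (x 0 + δ x) = toA 0 by rw [map_zero, zero_add, hx0], rfl⟩
  have hcard : Nat.card X = 2 ^ p * Nat.card D0 := by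
    rw [Subgroup.card_eq_card_quotient_mul_card_subgroup (stabilizer X (toA (0 : V))),
      ← Nat.card_congr (orbitEquivQuotientStabilizer X (toA (0 : V))), hD0, ← hq,
      Nat.card_congr ((stabilizer X (toA (0 : V))).equivMapOfInjective X.subtype X.subtype_injective).toEquiv]
    congr 1
    refine Nat.card_congr (Equiv.subtypeUnivEquiv (α := Aff V) fun v => ?_)
    obtain ⟨x, hx, hxv⟩ := hD.surj v
    exact ⟨⟨x, hx⟩, show toA (x 0 + δ x) = v by rw [map_zero, zero_add, hxv]; rfl⟩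
  have hJcard : Nat.card J = 2 ^ p - 1 := by
    obtain ⟨v, hv⟩ := exists_ne (0 : V)
    have hdiff := Set.ncard_diff_singleton_of_mem (s := (Set.univ : Set V)) (Set.mem_univ (0 : V))
    rw [Set.ncard_univ, hq] at hdiff
    rw [← hdiff, ← Nat.card_coe_set_eq]
    refine Nat.card_eq_of_bijective (fun j : J => (⟨(j : V ≃ₗ[ZMod 2] V) v, Set.mem_univ _, fun e => hv
      ((j : V ≃ₗ[ZMod 2] V).injective (e.trans (map_zero _).symm))⟩ : (Set.univ \ {0} : Set V))) ⟨?_, ?_⟩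
    · intro j j' e
      refine Subtype.ext (inv_mul_eq_one.mp (hD.free _ (J.mul_mem (inv_mem j'.2) j.2) v hv ?_)).symm
      show (j' : V ≃ₗ[ZMod 2] V)⁻¹ ((j : V ≃ₗ[ZMod 2] V) v) = v
      rw [show (j : V ≃ₗ[ZMod 2] V) v = (j' : V ≃ₗ[ZMod 2] V) v from congrArg Subtype.val e]
      exact (j' : V ≃ₗ[ZMod 2] V).symm_apply_apply v
    · rintro ⟨w, -, hw⟩
      obtain ⟨j, hj, rfl⟩ := hD.trans v w hv hw
      exact ⟨⟨j, hj⟩, rfl⟩
  have hGL : Nat.card (V ≃ₗ[ZMod 2] V) = ∏ i : Fin p, (2 ^ p - 2 ^ (i : ℕ)) := by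
    have h := Matrix.card_GL_field (𝔽 := ZMod 2) p
    rw [ZMod.card] at h
    rw [← h]
    exact Nat.card_congr ((LinearMap.GeneralLinearGroup.generalLinearEquiv (ZMod 2) V).symm.trans
      (Units.mapEquiv (algEquivMatrix (finBasisOfFinrankEq (ZMod 2) V hl)).toMulEquiv)).toEquiv
  have hJD : J ≤ D0 := fun j hj => hmem0.mpr ⟨hD.le hj, hD.zeroJ j hj⟩
  have hgD : g ∈ D0 := hmem0.mpr ⟨hg, hg0⟩
  rcases Nat.lt_or_ge p 5 with h5 | h5
  · have hp3 : p = 3 := by
      have h2' := hp.two_le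
      interval_cases p
      · omega
      · rfl
      · exact absurd hp (by decide)
    subst hp3
    refine ⟨hl, Subgroup.eq_top_of_le_card X ?_⟩
    have h7 : 7 ∣ Nat.card D0 := (show 7 = Nat.card J by omega) ▸ Subgroup.card_dvd_of_le hJD
    have h3 : 3 ∣ Nat.card D0 := orderOf_eq_prime hgp hg1 ▸ Subgroup.orderOf_dvd_natCard D0 hgD
    have h21 := Nat.le_of_dvd Nat.card_pos (Nat.Coprime.mul_dvd_of_dvd_of_dvd (by norm_num) h7 h3)
    rw [hGL, hcard, Fin.prod_univ_three]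
    simp only [Fin.val_zero, Fin.val_one, Fin.val_two]
    omega
  exfalso
  have hgN : g ∈ Subgroup.normalizer (J : Set (V ≃ₗ[ZMod 2] V)) :=
    Subgroup.mem_normalizer_iff_map_conj_eq.mpr (Subgroup.eq_of_le_of_card_ge (by rintro _ ⟨c, hc, rfl⟩; exact hD.zero_norm g hg hg0 c hc) (Subgroup.card_map_of_injective (MulAut.conj g).injective).ge)
  have hgJ : g ∉ J := fun h => hg1 (hgfree g h rfl)
  rcases CfsgLib.Bender.LinearTrans.le_normalizer_or_top hl hp h5 hD.comm hD.trans hD.le hg hgN hgJ with h | h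
  · obtain ⟨v, hv⟩ := exists_ne (0 : V)
    obtain ⟨x, hx, hxv⟩ := hD.surj v
    obtain ⟨c, hc, hc1⟩ : ∃ c ∈ J, c ≠ 1 := by
      by_contra hno
      push Not at hno
      obtain ⟨c, hc, hce⟩ := hD.trans v v hv hv
      haveI : Subsingleton J := ⟨fun y y' => Subtype.ext ((hno _ y.2).trans (hno _ y'.2).symm)⟩
      have hone : Nat.card J = 1 := Nat.card_eq_one_iff_unique.mpr ⟨inferInstance, ⟨1⟩⟩
      have : 2 ^ 5 ≤ 2 ^ p := Nat.pow_le_pow_right two_pos h5
      omega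
    have hcx := (Subgroup.mem_normalizer_iff.mp (inv_mem (h hx)) c).mp hc
    have h2 := hD.delta_inv_conj hx (hD.le hcx) 0 (by rw [map_zero, zero_add, hD.zeroJ _ hcx])
    rw [map_zero, zero_add, hxv, show x * (x⁻¹ * c * x⁻¹⁻¹) * x⁻¹ = c by group, hD.zeroJ c hc, add_zero] at h2
    exact hc1 (hD.free c hc v hv h2)
  · have hle := Singer.card_le_of_normalizes hD.comm hD.trans (H := D0) fun x hx j hj =>
      hD.zero_norm x (hmem0.mp hx).1 (hmem0.mp hx).2 j hj
    rw [hl] at hle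
    have e : Nat.card X = Nat.card (V ≃ₗ[ZMod 2] V) := by rw [h, Subgroup.card_top]
    rw [hGL, hcard] at e
    have hbound : ∀ i : Fin p, 1 ≤ 2 ^ p - 2 ^ (i : ℕ) := fun i => by
      have := Nat.pow_lt_pow_right (show 1 < 2 by norm_num) i.2
      omega
    let s : Finset (Fin p) := {⟨0, by omega⟩, ⟨1, by omega⟩, ⟨2, by omega⟩}
    have hprod : (2 ^ p - 1) * ((2 ^ p - 2) * (2 ^ p - 4)) ≤ ∏ i : Fin p, (2 ^ p - 2 ^ (i : ℕ)) := by
      refine le_trans (le_of_eq ?_) (Finset.prod_le_prod_of_subset_of_one_le' (Finset.subset_univ s)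
        fun i _ _ => hbound i)
      simp [s, Fin.ext_iff]
    have hlt : 2 ^ p * p < (2 ^ p - 2) * (2 ^ p - 4) := by
      have h1 : p + 6 < 2 ^ p := by
        clear hl hq hgp hcard hJcard hGL hle e hbound s hprod hp
        induction p, h5 using Nat.le_induction with
        | base => norm_num
        | succ n hn ih => rw [pow_succ]; omega
      obtain ⟨k, hk⟩ : ∃ k, 2 ^ p = k + 4 := ⟨2 ^ p - 4, by omega⟩
      rw [hk] at h1 ⊢
      rw [show k + 4 - 4 = k by omega, show k + 4 - 2 = k + 2 by omega]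
      have h3 : p + 3 ≤ k := by omega
      nlinarith
    have h7 : 2 ^ p * Nat.card D0 ≤ 2 ^ p * ((2 ^ p - 1) * p) := Nat.mul_le_mul_left _ hle
    have h8 : (2 ^ p - 1) * (2 ^ p * p) < (2 ^ p - 1) * ((2 ^ p - 2) * (2 ^ p - 4)) :=
      Nat.mul_lt_mul_of_pos_left hlt (Nat.sub_pos_of_lt (Nat.one_lt_two_pow (by omega)))
    have h9 : 2 ^ p * ((2 ^ p - 1) * p) = (2 ^ p - 1) * (2 ^ p * p) := mul_left_comm _ _ _
    exact absurd e (ne_of_lt (lt_of_le_of_lt (h7.trans_eq h9) (h8.trans_le hprod)))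

end Data

end CfsgLib.Bender.Q.Affine
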