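import Cfsg.Agent.Lib.Bender.Q.Full.Transfer
import Cfsg.Agent.Lib.Bender.Q.Full.Affine

/-!
The members at a point with the identity as a space over two elements, and the affine proposition read in the group.

Blueprint: `blueprint/bender/Q_VI.md` 4.
-/

set_option autoImplicit false
set_option linter.unusedSectionVars false
set_option linter.style.haveILetI false
set_option linter.deprecated false

universe u

namespace CfsgLib.Bender.Q

open MulAction Cfsg
open CfsgLib.Bender.TwoClosed (IsInv two mem_two smul_conj)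

variable {G Ω : Type u} [Group G] [MulAction G Ω] {Z : Set G} [Finite G] [FaithfulSMul G Ω]

namespace FCtx

variable (hF : FCtx G Ω Z)

instance eGrpCommGroup (a : Ω) : CommGroup (hF.eGrp a) :=
  { (inferInstance : Group (hF.eGrp a)) with
    mul_comm := fun x y => Subtype.ext (hF.eGrp_comm x.2 y.2) }

/-- The space of the members at a point. -/
abbrev EVec (a : Ω) : Type u := Additive (hF.eGrp a)

instance eVecModule (a : Ω) : Module (ZMod 2) (hF.EVec a) :=
  AddCommGroup.zmodModule (n := 2) fun x => by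
    rw [two_nsmul]
    exact congrArg Additive.ofMul (Subtype.ext (hF.eGrp_sq (Additive.toMul x).2))

/-- The element of the group behind a vector. -/
def val {a : Ω} (x : hF.EVec a) : G := (Additive.toMul x : hF.eGrp a)

/-- The vector of an element. -/
def vec {a : Ω} (x : G) (hx : x ∈ hF.eGrp a) : hF.EVec a := Additive.ofMul ⟨x, hx⟩

theorem val_mem {a : Ω} (x : hF.EVec a) : hF.val x ∈ hF.eGrp a := (Additive.toMul x).2

theorem val_vec {a : Ω} (x : G) (hx : x ∈ hF.eGrp a) : hF.val (hF.vec x hx) = x := rfl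

theorem val_add {a : Ω} (x y : hF.EVec a) : hF.val (x + y) = hF.val x * hF.val y := rfl

theorem val_zero {a : Ω} : hF.val (0 : hF.EVec a) = 1 := rfl

theorem val_inj {a : Ω} {x y : hF.EVec a} (h : hF.val x = hF.val y) : x = y :=
  congrArg Additive.ofMul (Subtype.ext h : (Additive.toMul x : hF.eGrp a) = Additive.toMul y)

/-- Conjugation by an element fixing the point. -/
noncomputable def conjLin {a : Ω} (g : G) (hg : g • a = a) : hF.EVec a ≃ₗ[ZMod 2] hF.EVec a :=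
  let f : hF.EVec a →+ hF.EVec a :=
    { toFun := fun x => hF.vec (g * hF.val x * g⁻¹) (by
        have h := hF.eGrp_conj (g := g) (hF.val_mem x)
        rwa [hg] at h)
      map_zero' := hF.val_inj (show g * (1 : G) * g⁻¹ = 1 by rw [mul_one, mul_inv_cancel])
      map_add' := fun x y => hF.val_inj
        (show g * (hF.val x * hF.val y) * g⁻¹ = g * hF.val x * g⁻¹ * (g * hF.val y * g⁻¹) by group) }
  LinearEquiv.ofBijective (f.toZModLinearMap 2) ((Finite.injective_iff_bijective).mp fun x y h =>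
    hF.val_inj (mul_left_cancel (mul_right_cancel (congrArg hF.val h :))))

theorem val_conjLin {a : Ω} (g : G) (hg : g • a = a) (x : hF.EVec a) :
    hF.val (hF.conjLin g hg x) = g * hF.val x * g⁻¹ := rfl

variable {hF} {u : G} {a b : Ω} {T : Subgroup G} (h : hF.Std u a b T)
include h

/-- The affine proposition in the group: `P g c m` says that `g` induces the affine map with linear part conjugation
by `c` and shift `m`. -/
theorem Std.affine {N : Subgroup G} (hJN : jGrp Z a b ≤ N) (P : G → G → G → Prop)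
    (hex : ∀ g ∈ N, ∃ c m, P g c m) (hP : ∀ g c m, P g c m → c • a = a ∧ m ∈ hF.eGrp a)
    (hmul : ∀ g c m g' c' m', g ∈ N → g' ∈ N → P g c m → P g' c' m' →
      P (g' * g) (c' * c) (m' * (c' * m * c'⁻¹)))
    (huniq : ∀ g c m c' m', g ∈ N → P g c m → P g c' m' →
      m = m' ∧ ∀ x ∈ hF.eGrp a, c * x * c⁻¹ = c' * x * c'⁻¹)
    (hJ : ∀ j ∈ jGrp Z a b, P j j 1)
    (hinj : ∀ g c m, g ∈ N → P g c m → (∀ x ∈ hF.eGrp a, c * x * c⁻¹ = x) → m = 1)
    (hsurj : ∀ y ∈ hF.eGrp a, ∃ g ∈ N, ∃ c, P g c y)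
    (hzero : ∀ g c, g ∈ N → P g c 1 → ∃ k ∈ (two a b : Subgroup G), ∀ x ∈ hF.eGrp a, c * x * c⁻¹ = k * x * k⁻¹) :
    Nat.card (hF.eGrp a) = 8 ∧ ∀ L : hF.EVec a ≃ₗ[ZMod 2] hF.EVec a,
      ∃ g ∈ N, ∃ c m, P g c m ∧ ∀ x, hF.val (L x) = c * hF.val x * c⁻¹ := by
  classical
  choose C M hCM using hex
  have hCa : ∀ g (hg : g ∈ N), C g hg • a = a := fun g hg => (hP _ _ _ (hCM g hg)).1
  have hρmul : ∀ g g' (hg : g ∈ N) (hg' : g' ∈ N) (x : hF.EVec a),
      hF.conjLin (C (g' * g) (N.mul_mem hg' hg)) (hCa _ _) x =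
        hF.conjLin (C g' hg') (hCa _ _) (hF.conjLin (C g hg) (hCa _ _) x) := by
    intro g g' hg hg' x
    refine hF.val_inj ?_
    rw [val_conjLin, val_conjLin, val_conjLin]
    have h1 := (huniq _ _ _ _ _ (N.mul_mem hg' hg) (hCM _ (N.mul_mem hg' hg))
      (hmul _ _ _ _ _ _ hg hg' (hCM g hg) (hCM g' hg'))).2 _ (hF.val_mem x)
    rw [h1]
    group
  let ρ : N →* (hF.EVec a ≃ₗ[ZMod 2] hF.EVec a) := MonoidHom.mk'
    (fun g => hF.conjLin (C g g.2) (hCa g g.2)) fun g' g => LinearEquiv.ext fun x => hρmul g g' g.2 g'.2 x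
  have hρ : ∀ (g : N) (x : hF.EVec a), hF.val (ρ g x) = C g g.2 * hF.val x * (C g g.2)⁻¹ := fun g x => rfl
  let D : N → hF.EVec a := fun g => hF.vec (M g g.2) (hP _ _ _ (hCM g g.2)).2
  have hDmul : ∀ g' g : N, D (g' * g) = D g' + ρ g' (D g) := fun g' g => hF.val_inj
    (huniq _ _ _ _ _ (g' * g).2 (hCM _ (g' * g).2) (hmul _ _ _ _ _ _ g.2 g'.2 (hCM g g.2) (hCM g' g'.2))).1
  have hDker : ∀ g : N, ρ g = 1 → D g = 0 := fun g hg => hF.val_inj (hinj _ _ _ g.2 (hCM g g.2) fun x hx => by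
    have := hρ g (hF.vec x hx)
    rw [hg] at this
    exact this.symm)
  have hDinv : ∀ g g' : N, ρ g = ρ g' → D g = D g' := by
    intro g g' he
    have h0 := hDker (g'⁻¹ * g) (by rw [map_mul, map_inv, he, inv_mul_cancel])
    have h1 := hDmul g' (g'⁻¹ * g)
    rwa [mul_inv_cancel_left, h0, map_zero, add_zero] at h1
  let δ : (hF.EVec a ≃ₗ[ZMod 2] hF.EVec a) → hF.EVec a := fun L => if hL : L ∈ ρ.range then D hL.choose else 0
  have hδ : ∀ g : N, δ (ρ g) = D g := fun g => by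
    have hg : ρ g ∈ ρ.range := ⟨g, rfl⟩
    simp only [δ, dif_pos hg]
    exact hDinv _ _ hg.choose_spec
  have hρJ : ∀ (j : G) (hj : j ∈ jGrp Z a b) (x : hF.EVec a),
      hF.val (ρ ⟨j, hJN hj⟩ x) = j * hF.val x * j⁻¹ ∧ D ⟨j, hJN hj⟩ = 0 := fun j hj x => by
    have h1 := huniq _ _ _ _ _ (hJN hj) (hCM j (hJN hj)) (hJ j hj)
    exact ⟨(hρ _ x).trans (h1.2 _ (hF.val_mem x)), hF.val_inj h1.1⟩
  let J : Subgroup (hF.EVec a ≃ₗ[ZMod 2] hF.EVec a) := ((jGrp Z a b).subgroupOf N).map ρ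
  have hJmem : ∀ {j : G} (hj : j ∈ jGrp Z a b), ρ ⟨j, hJN hj⟩ ∈ J := fun {j} hj => ⟨⟨j, hJN hj⟩, hj, rfl⟩
  obtain ⟨e0, he0, he01⟩ := hF.exists_mem_eGrp_ne_one a
  haveI : Finite (hF.EVec a) := inferInstanceAs (Finite (hF.eGrp a))
  have hdata : Affine.Data ρ.range J δ := by
    refine ⟨?_, Subgroup.map_le_range _ _, ?_, ?_, ?_, ?_, ?_, ?_, ?_⟩
    · have h4 := hF.four_le_card a
      have hc : Nat.card (hF.EVec a) = 2 ^ Module.finrank (ZMod 2) (hF.EVec a) := by
        rw [Module.natCard_eq_pow_finrank (K := ZMod 2), Nat.card_zmod]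
      rw [show Nat.card (hF.EVec a) = Nat.card (hF.eGrp a) from rfl] at hc
      by_contra hlt
      have := Nat.pow_le_pow_right (show 1 ≤ 2 by norm_num) (show Module.finrank (ZMod 2) (hF.EVec a) ≤ 1 by omega)
      omega
    · obtain ⟨c, hc, hca, -⟩ := exists_swap hF.ctx.hyp h.ne.symm
      obtain ⟨hcW, Q, hS, -, h4, -⟩ := hF.exists_setup h.isB h.fix_a h.fix_b h.ne hc hca
      obtain ⟨Cy, hCy, hCc, -⟩ := Cfsg.Agent.S1131.result hS h4
      haveI := hCc
      have hmem : ∀ j : jGrp Z a b,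
          img hF.ctx.hyp _ ⟨j, hF.jGrp_le_wGrp h.ne h.isB h.fix_a h.fix_b j.2⟩ ∈ Cy := fun j => by
        rw [← SetLike.mem_coe, hCy]
        obtain ⟨h1, h2⟩ := hF.jGrp_fix h.ne j.2
        refine ⟨Subgroup.mem_inf.mpr ⟨Subtype.ext h1, Subtype.ext ?_⟩, ?_⟩
        · show (j : G) • c • a = c • a
          rw [hca, h2]
        · rw [← map_inv, ← map_inv, ← map_mul, ← map_mul]
          refine congrArg _ (Subtype.ext ?_)
          show c * (j : G) * c⁻¹ = (j : G)⁻¹
          rw [(hF.ctx.hyp.inv c hc).inv, hF.jGrp_inverted h.ne hc hca j.2]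
      let F : jGrp Z a b →* Cy := MonoidHom.mk'
        (fun j => ⟨_, hmem j⟩) fun j k => Subtype.ext
          (by
            refine Eq.trans ?_ (map_mul (img hF.ctx.hyp (wGrp Z u)) _ _)
            exact congrArg (img hF.ctx.hyp (wGrp Z u)) (Subtype.ext rfl))
      haveI : IsCyclic (jGrp Z a b) := isCyclic_of_injective F fun j k hjk => by
        have h1 := (hF.img_eq_iff h.isB).mp (congrArg Subtype.val hjk)
        refine Subtype.ext (hF.jGrp_conj_inj h.ne j.2 k.2 he0 he01 ?_)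
        obtain ⟨b', hb', hub'⟩ := hF.exists_other h.isB a
        refine hF.eGrp_eq_of_agree h.isB (h.conj_eGrp j.2 he0) (h.conj_eGrp k.2 he0) ?_
        have hk : u * (k : G) = k * u := hF.commute_jGrp h.ne h.isB h.fix_a h.fix_b k.2
        have he : u * e0 = e0 * u := hF.commute_eGrp h.isB.1 h.fix_a he0
        exact ((h1.mul (Agree.refl u e0) he).mul (h1.inv hk)
          (show Commute u (k : G)⁻¹ from (show Commute u (k : G) from hk).inv_right).eq)
      obtain ⟨g, hg⟩ := IsCyclic.exists_generator (α := jGrp Z a b)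
      refine ⟨_, hJmem g.2, ?_⟩
      rintro _ ⟨⟨j, hjN⟩, hj, rfl⟩
      obtain ⟨n, hn⟩ := Subgroup.mem_zpowers_iff.mp (hg ⟨j, hj⟩)
      refine Subgroup.mem_zpowers_iff.mpr ⟨n, ?_⟩
      rw [← map_zpow]
      refine congrArg ρ (Subtype.ext ?_)
      rw [SubgroupClass.coe_zpow]
      exact (SubgroupClass.coe_zpow g n).symm.trans (congrArg Subtype.val hn)
    · intro v w hv hw
      obtain ⟨j, hj, hjv⟩ := hF.exists_jGrp_eq h.ne (hF.val_mem v) (fun e => hv (hF.val_inj e))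
        (hF.val_mem w) (fun e => hw (hF.val_inj e))
      exact ⟨_, hJmem hj, hF.val_inj ((hρJ j hj v).1.trans hjv)⟩
    · rintro _ ⟨⟨j, hjN⟩, hj, rfl⟩ v hv hjv
      have h1 := (hρJ j hj v).1.symm.trans (congrArg hF.val hjv)
      have hj1 := hF.jGrp_free h.ne hj (hF.val_mem v) (fun e => hv (hF.val_inj e)) (mul_inv_eq_iff_eq_mul.mp h1)
      subst hj1
      exact map_one ρ
    · rintro _ ⟨⟨j, hjN⟩, hj, rfl⟩
      exact (hδ _).trans (hρJ j hj 0).2
    · rintro _ ⟨g, rfl⟩ _ ⟨g', rfl⟩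
      rw [← map_mul, hδ, hδ, hδ, hDmul]
    · intro v
      obtain ⟨g, hg, c, hc⟩ := hsurj _ (hF.val_mem v)
      exact ⟨_, ⟨⟨g, hg⟩, rfl⟩, (hδ _).trans (hF.val_inj (huniq _ _ _ _ _ hg (hCM g hg) hc).1)⟩
    · rintro _ ⟨g, rfl⟩ hg0 _ ⟨⟨j, hjN⟩, hj, rfl⟩
      rw [hδ] at hg0
      have hM : M g g.2 = 1 := congrArg hF.val hg0
      obtain ⟨k, hk, hkc⟩ := hzero _ _ g.2 (hM ▸ hCM g g.2)
      have hk' := hF.jGrp_normal hk hj
      have he : ρ g * ρ ⟨j, hjN⟩ = ρ ⟨_, hJN hk'⟩ * ρ g := LinearEquiv.ext fun x => hF.val_inj (by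
        show hF.val (ρ g (ρ ⟨j, hjN⟩ x)) = hF.val (ρ ⟨_, hJN hk'⟩ (ρ g x))
        rw [hρ g, hkc _ (hF.val_mem _), (hρJ j hj x).1, (hρJ _ hk' (ρ g x)).1, hρ g, hkc _ (hF.val_mem x),
          Subgroup.subtype_apply]
        group)
      rw [mul_inv_eq_iff_eq_mul.mpr he]
      exact hJmem hk'
  obtain ⟨h3, htop⟩ := hdata.main
  refine ⟨?_, fun L => ?_⟩
  · show Nat.card (hF.EVec a) = 8
    rw [Module.natCard_eq_pow_finrank (K := ZMod 2), Nat.card_zmod, h3]
    rfl
  · obtain ⟨g, rfl⟩ : L ∈ ρ.range := htop ▸ Subgroup.mem_top L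
    exact ⟨g, g.2, _, _, hCM g g.2, hρ g⟩

end FCtx

end CfsgLib.Bender.Q
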