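import Cfsg.Agent.Lib.Bender.Q.Full.Standing
import Cfsg.Agent.Lib.Bender.Q.Full.Vec
import Mathlib.GroupTheory.SpecificGroups.Cyclic

/-!
A Sylow subgroup of the two points is commutative when the kernel of the full involution has order two: on the
members it induces field automorphisms.

Blueprint: `blueprint/bender/Q_VI.md` 5.
-/

set_option autoImplicit false
set_option linter.unusedSectionVars false
set_option linter.style.haveILetI false
set_option linter.deprecated false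

universe u

namespace CfsgLib.Bender.Q

open MulAction Cfsg
open CfsgLib.Bender.TwoClosed (IsInv two mem_two smul_conj MaxP exists_maxP mem_normalizer_of_conj
  conj_mem_of_normalizer)

variable {G Ω : Type u} [Group G] [MulAction G Ω] {Z : Set G} [Finite G] [FaithfulSMul G Ω]

namespace FCtx

variable {hF : FCtx G Ω Z} {u : G} {a b : Ω} {T : Subgroup G} (h : hF.Std u a b T)
include h

theorem Std.sylow_comm_of_two (hA : ∀ v ∈ hF.uKer u a, v = 1 ∨ v = u) {S : Subgroup G} (hS : MaxP 2 (stabilizer G a) S) (hTS : T ≤ S) {t t' : G} (ht : t ∈ T)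
    (ht' : t' ∈ T) : t * t' = t' * t := by
  haveI : Fact (Nat.Prime 2) := ⟨Nat.prime_two⟩
  have hEa : hF.eGrp a ≤ S := by
    have hp : IsPGroup 2 ↥(S ⊔ hF.eGrp a) :=
      IsPGroup.to_sup_of_normal_right' hS.isPGroup (hF.isPGroup_eGrp a) fun s hs =>
        mem_normalizer_of_conj fun x hx => by
          have h1 := hF.eGrp_conj (g := s) hx
          rwa [mem_stabilizer_iff.mp (hS.le hs)] at h1
    exact le_sup_right.trans (hS.eq_of_le hp (sup_le hS.le fun x hx =>
      mem_stabilizer_iff.mpr (hF.eGrp_fix hx)) le_sup_left).le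
  haveI : Group.IsNilpotent S := hS.isPGroup.isNilpotent
  haveI : ((hF.eGrp a).subgroupOf S).Normal := ⟨fun x hx s => by
    have h1 := hF.eGrp_conj (g := (s : G)) hx
    rwa [mem_stabilizer_iff.mp (hS.le s.2)] at h1⟩
  obtain ⟨e1, he1, he11⟩ := hF.exists_mem_eGrp_ne_one a
  obtain ⟨z, hz, hz1⟩ := (Subgroup.ne_bot_iff_exists_ne_one.mp (CfsgLib.inf_center_ne_bot_of_nilpotent
    (N := (hF.eGrp a).subgroupOf S) fun e => he11 (by
      have h1 : (⟨e1, hEa he1⟩ : S) ∈ (hF.eGrp a).subgroupOf S := he1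
      rw [e, Subgroup.mem_bot] at h1
      exact congrArg Subtype.val h1))).imp fun z hz => (⟨z.2, hz⟩ : _ ∧ _)
  have hza : ∀ x : T, (x : G) • a = a := fun x => (mem_two.mp (h.maxP.le x.2)).1
  let ρ : T →* (hF.EVec a ≃ₗ[ZMod 2] hF.EVec a) := MonoidHom.mk' (fun x => hF.conjLin x (hza x))
    fun x y => LinearEquiv.ext fun v => hF.val_inj (by
      show (x * y : G) * hF.val v * (x * y : G)⁻¹ = x * ((y : G) * hF.val v * (y : G)⁻¹) * (x : G)⁻¹
      group)
  have hjc : ∀ j : jGrp Z a b, (j : G) • a = a := fun j => (hF.jGrp_fix h.ne j.2).1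
  let σ : jGrp Z a b →* (hF.EVec a ≃ₗ[ZMod 2] hF.EVec a) := MonoidHom.mk' (fun x => hF.conjLin x (hjc x))
    fun x y => LinearEquiv.ext fun v => hF.val_inj (by
      show (x * y : G) * hF.val v * (x * y : G)⁻¹ = x * ((y : G) * hF.val v * (y : G)⁻¹) * (x : G)⁻¹
      group)
  haveI : Finite (hF.EVec a) := inferInstanceAs (Finite (hF.eGrp a))
  haveI : Nontrivial (hF.EVec a) := ⟨⟨hF.vec e1 he1, 0, fun e => he11 (congrArg hF.val e :)⟩⟩
  obtain ⟨hcyc, -⟩ := Singer.cyclic_of_fix (C := σ.range)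
    (by rintro _ ⟨x, rfl⟩ _ ⟨y, rfl⟩; rw [← map_mul, ← map_mul]
        exact congrArg σ (Subtype.ext (hF.jGrp_comm h.ne x.2 y.2)))
    (fun v w hv hw => by
      obtain ⟨j, hj, hjv⟩ := hF.exists_jGrp_eq h.ne (hF.val_mem v) (fun e => hv (hF.val_inj e))
        (hF.val_mem w) (fun e => hw (hF.val_inj e))
      exact ⟨_, ⟨⟨j, hj⟩, rfl⟩, hF.val_inj hjv⟩)
    (H := ρ.range)
    (by
      rintro _ ⟨x, rfl⟩ _ ⟨j, rfl⟩
      refine ⟨⟨_, hF.jGrp_normal (h.maxP.le x.2) j.2⟩, ?_⟩
      rw [eq_mul_inv_iff_mul_eq]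
      refine LinearEquiv.ext fun v => hF.val_inj ?_
      show (x * j * (x : G)⁻¹ : G) * ((x : G) * hF.val v * (x : G)⁻¹) * (x * j * (x : G)⁻¹ : G)⁻¹ =
        x * ((j : G) * hF.val v * (j : G)⁻¹) * (x : G)⁻¹
      group)
    (v₀ := hF.vec ((z.1 : S) : G) hz.1) (fun e => hz1 (Subtype.ext (Subtype.ext (congrArg hF.val e :))))
    (by
      rintro _ ⟨x, rfl⟩
      refine hF.val_inj ?_
      show (x : G) * ((z.1 : S) : G) * (x : G)⁻¹ = ((z.1 : S) : G)
      rw [mul_inv_eq_iff_eq_mul]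
      exact congrArg Subtype.val (Subgroup.mem_center_iff.mp z.2.2 ⟨x, hTS x.2⟩))
  haveI := hcyc
  have hker : ρ.rangeRestrict.ker ≤ Subgroup.center T := by
    rw [MonoidHom.ker_rangeRestrict]
    intro x hx
    have hxK : (x : G) ∈ hF.kGrp a := hF.mem_kGrp.mpr ⟨hza x, fun e he => by
      have h1 := congrArg (fun L : hF.EVec a ≃ₗ[ZMod 2] hF.EVec a => hF.val (L (hF.vec e he)))
        (MonoidHom.mem_ker.mp hx)
      exact (mul_inv_eq_iff_eq_mul.mp h1).symm⟩
    have hxA : (x : G) ∈ hF.uKer u a := h.uKer_eq ▸ Subgroup.mem_inf.mpr ⟨x.2, hxK⟩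
    refine Subgroup.mem_center_iff.mpr fun y => Subtype.ext ?_
    rcases hA _ hxA with e | e
    · show (y : G) * x = x * y
      rw [e, mul_one, one_mul]
    · show (y : G) * x = x * y
      rw [e]
      exact (h.central y y.2).symm
  exact congrArg Subtype.val (commutative_of_cyclic_center_quotient ρ.rangeRestrict hker ⟨t, ht⟩ ⟨t', ht'⟩)

end FCtx

end CfsgLib.Bender.Q
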