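import Cfsg.Agent.Lib.Bender.Q.Full.Trans
import Mathlib.GroupTheory.Transfer

/-!
The transfer into an abelian group: a Sylow subgroup of a point stabiliser has no homomorphism killing the members
and taking one non-trivial value of square one on the full involutions.

Blueprint: `blueprint/bender/Q_VI.md` 5.
-/

set_option autoImplicit false
set_option linter.unusedSectionVars false
set_option linter.style.haveILetI false

universe u

namespace CfsgLib.Bender.Q

open MulAction Cfsg
open CfsgLib.Bender.TwoClosed (IsInv two mem_two smul_conj MaxP)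

variable {G Ω : Type u} [Group G] [MulAction G Ω] {Z : Set G} [Finite G] [FaithfulSMul G Ω]

/-- The transfer at an element of square one with constant value on its conjugates. -/
theorem transfer_eq_of_const {H : Subgroup G} {A : Type u} [CommGroup A] (φ : H →* A) {x : G} (hx : x * x = 1)
    {w : A} (hw : w * w = 1) (hconst : ∀ y : H, (∃ k : G, k⁻¹ * x * k = y) → φ y = w) :
    MonoidHom.transfer φ x = w ^ H.index := by
  classical
  haveI : Fintype (Quotient (orbitRel (Subgroup.zpowers x) (G ⧸ H))) := Fintype.ofFinite _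
  have hperiod : ∀ q : Quotient (orbitRel (Subgroup.zpowers x) (G ⧸ H)),
      Function.minimalPeriod (x • ·) q.out = 1 ∨ Function.minimalPeriod (x • ·) q.out = 2 := fun q => by
    refine (Nat.dvd_prime Nat.prime_two).mp ?_
    refine Function.IsPeriodicPt.minimalPeriod_dvd ?_
    show (x • ·)^[2] q.out = q.out
    simp [Function.iterate_succ, ← mul_smul, hx]
  have hidx : H.index = ∑ q : Quotient (orbitRel (Subgroup.zpowers x) (G ⧸ H)),
      Function.minimalPeriod (x • ·) q.out := by
    show Nat.card (G ⧸ H) = _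
    rw [Nat.card_congr (Subgroup.quotientEquivSigmaZMod H x), Nat.card_sigma]
    exact Finset.sum_congr rfl fun q _ => Nat.card_zmod _
  rw [hidx, ← Finset.prod_pow_eq_pow_sum, MonoidHom.transfer_eq_prod_quotient_orbitRel_zpowers_quot]
  refine Finset.prod_congr rfl fun q _ => ?_
  rcases hperiod q with h | h
  · conv_rhs => rw [h, pow_one]
    exact hconst _ ⟨q.out.out, by simp only [h, pow_one]⟩
  · conv_rhs => rw [h, pow_two, hw]
    refine (congrArg φ (Subtype.ext ?_)).trans (map_one φ)
    simp only [h, pow_two, hx, mul_one, inv_mul_cancel, OneMemClass.coe_one]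

namespace FCtx

variable {hF : FCtx G Ω Z} {u : G} {a b : Ω} {T : Subgroup G} (h : hF.Std u a b T)
include h

theorem Std.false_of_hom {S : Subgroup G} (hS : MaxP 2 (stabilizer G a) S) {A : Type u} [CommGroup A]
    (φ : S →* A) (hE : ∀ x : S, (x : G) ∈ Z → φ x = 1) {w : A} (hw1 : w ≠ 1) (hw2 : w * w = 1)
    (hB : ∀ x : S, IsB Ω (x : G) → φ x = w) : False := by
  haveI : Fact (Nat.Prime 2) := ⟨Nat.prime_two⟩
  haveI := finite_points hF.ctx.hyp
  haveI := pretransitive hF.ctx.hyp
  have hn1 : Odd (Nat.card Ω) := by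
    obtain ⟨i, hi, hdvd⟩ := h.exists_qf_dvd
    have hi0 : i ≠ 0 := fun e => by
      rw [e, pow_zero] at hi
      have h4 := hF.four_le_card a
      have := Nat.eq_one_of_mul_eq_one_right hi.symm
      omega
    have h2 : 2 ∣ Nat.card Ω - 1 := (dvd_pow_self 2 hi0).trans hdvd
    haveI := hF.ctx.hyp.nontriv
    have := Finite.one_lt_card (α := Ω)
    rw [Nat.odd_iff]
    omega
  have hidx : Odd S.index := by
    rw [← Subgroup.relIndex_mul_index hS.le, MulAction.index_stabilizer_of_transitive]
    refine Odd.mul ?_ hn1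
    obtain ⟨P, hP⟩ := hS.sylow
    rw [Subgroup.relIndex, ← hP, Nat.odd_iff, ← Nat.two_dvd_ne_zero]
    exact P.not_dvd_index
  have hzero : ∀ z ∈ Z, MonoidHom.transfer φ z = 1 := fun z hz => by
    rw [transfer_eq_of_const φ (hF.ctx.hyp.inv z hz).2 (w := 1) (one_mul _) ?_, one_pow]
    rintro y ⟨k, hk⟩
    refine hE y (hk ▸ ?_)
    have h2 := hF.ctx.hyp.conj z hz k⁻¹
    rwa [inv_inv] at h2
  have hker : (⊤ : Subgroup G) ≤ (MonoidHom.transfer φ).ker :=
    hF.ctx.gen ▸ (Subgroup.closure_le _).mpr fun z hz => hzero z hz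
  have hu : MonoidHom.transfer φ u = w := by
    rw [transfer_eq_of_const φ h.isB.1.2 hw2 (fun y ⟨k, hk⟩ => hB y (hk ▸ by
      have h2 := h.isB.conj k⁻¹
      rwa [inv_inv] at h2))]
    obtain ⟨m, hm⟩ := hidx
    rw [hm, pow_succ, pow_mul, pow_two, hw2, one_pow, one_mul]
  exact hw1 (hu ▸ hker (Subgroup.mem_top u))

end FCtx

end CfsgLib.Bender.Q
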