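import Cfsg.Agent.Lib.Bender.Q.Full.Linear
import Cfsg.Agent.Lib.Bender.Q.Full.Transfer
import Cfsg.Agent.Lib.Bender.Q.Full.Vec
import Cfsg.Agent.Lib.Bender.Q.Full.Cyclic
import Mathlib.LinearAlgebra.Determinant
import Mathlib.GroupTheory.SpecificGroups.Cyclic

/-!
The end of the case `f = q`: either the kernel on the members shifts the classes of full involutions by every
member, and then a Sylow subgroup has an abelian quotient seeing them, or `q = 8`, and the determinant over the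
integers modulo four does.

Blueprint: `blueprint/bender/Q_VI.md` 5.
-/

set_option autoImplicit false
set_option linter.unusedSectionVars false
set_option linter.style.haveILetI false
set_option linter.deprecated false

universe u

namespace CfsgLib.Bender.Q

open MulAction Cfsg
open CfsgLib.Bender.TwoClosed (IsInv two mem_two smul_conj MaxP exists_maxP mem_normalizer_of_conj
  conj_mem_of_normalizer)

variable {G Ω : Type u} [Group G] [MulAction G Ω] {Z : Set G} [Finite G] [FaithfulSMul G Ω]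

namespace FCtx

/-- The square of the commutator with the involution. -/
def shift (u g : G) : G := u * (g * u * g⁻¹) * (u * (g * u * g⁻¹))

/-- The normaliser of the translation group at the point. -/
def mGrp (hF : FCtx G Ω Z) (u : G) (a : Ω) : Subgroup G :=
  stabilizer G a ⊓ Subgroup.normalizer (hF.tGrp u a : Set G)

variable {hF : FCtx G Ω Z} {u : G} {a b : Ω} {T : Subgroup G} (h : hF.Std u a b T)
include h

theorem Std.mem_mGrp {g : G} :
    g ∈ hF.mGrp u a ↔ g • a = a ∧ g ∈ Subgroup.normalizer (hF.tGrp u a : Set G) :=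
  Iff.trans Subgroup.mem_inf (and_congr mem_stabilizer_iff Iff.rfl)

theorem Std.nGrp_le_mGrp : hF.nGrp u a ≤ hF.mGrp u a := fun _ hg =>
  h.mem_mGrp.mpr ⟨(hF.mem_nGrp.mp hg).1, h.nGrp_le_normalizer hg⟩

theorem Std.tGrp_le_mGrp : hF.tGrp u a ≤ hF.mGrp u a := fun _ hg => h.nGrp_le_mGrp ((h.mem_tGrp.mp hg).1).1

section Linear

variable (hq : fixCard Ω u = Nat.card (hF.eGrp a) + 1)
include hq

theorem Std.u_mem_tGrp : u ∈ hF.tGrp u a := h.uGrp_le_tGrp (hF.uKer_le (hF.self_mem_uKer h.isB h.fix_a))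

theorem Std.mul_self_mem {g : G} (hg : g ∈ hF.mGrp u a) : u * (g * u * g⁻¹) ∈ hF.rGrp u a :=
  h.mul_mem_rGrp hq (h.u_mem_tGrp hq) (conj_mem_of_normalizer (h.mem_mGrp.mp hg).2 (h.u_mem_tGrp hq)) h.isB
    (h.isB.conj g)

theorem Std.shift_mem {g : G} (hg : g ∈ hF.mGrp u a) : shift u g ∈ hF.eGrp a :=
  h.tGrp_sq_mem hq ((h.mem_rGrp hq).mp (h.mul_self_mem hq hg)).1

theorem Std.conj_rGrp {g x : G} (hg : g ∈ hF.mGrp u a) (hx : x ∈ hF.rGrp u a) : g * x * g⁻¹ ∈ hF.rGrp u a := by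
  obtain ⟨hxt, hxB⟩ := (h.mem_rGrp hq).mp hx
  refine (h.mem_rGrp hq).mpr ⟨conj_mem_of_normalizer (h.mem_mGrp.mp hg).2 hxt, fun hB => hxB ?_⟩
  have h1 := hB.conj g⁻¹
  rwa [show g⁻¹ * (g * x * g⁻¹) * g⁻¹⁻¹ = x by group] at h1

theorem Std.shift_mul {g g' : G} (hg : g ∈ hF.mGrp u a) (hg' : g' ∈ hF.mGrp u a) :
    shift u (g' * g) = shift u g' * (g' * shift u g * g'⁻¹) := by
  have hr : u * (g' * g * u * (g' * g)⁻¹) = u * (g' * u * g'⁻¹) * (g' * (u * (g * u * g⁻¹)) * g'⁻¹) := by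
    rw [show u * (g' * u * g'⁻¹) * (g' * (u * (g * u * g⁻¹)) * g'⁻¹) = u * (g' * (u * u) * (g * u * g⁻¹) * g'⁻¹) by
      group, h.isB.1.2]
    group
  have hc := h.rGrp_comm hq (h.conj_rGrp hq hg' (h.mul_self_mem hq hg)) (h.mul_self_mem hq hg')
  have key : ∀ x y : G, y * x = x * y → x * y * (x * y) = x * x * (y * y) := fun x y hxy => by
    rw [show x * y * (x * y) = x * (y * x) * y by group, hxy]
    group
  rw [shift, hr, key _ _ hc, shift, shift, conj_mul]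

theorem Std.shift_one : shift u (1 : G) = 1 := by
  rw [shift, one_mul, inv_one, mul_one, h.isB.1.2, mul_one]

theorem Std.shift_of_comm {g : G} (hg : u * g = g * u) : shift u g = 1 := by
  rw [shift, ← hg, mul_inv_cancel_right, h.isB.1.2, mul_one]

theorem Std.mem_nGrp_of_shift {g : G} (hg : g ∈ hF.mGrp u a) (h1 : shift u g = 1) : g ∈ hF.nGrp u a := by
  refine h.mem_nGrp_of_conj (h.mem_mGrp.mp hg).1 (hF.self_mem_uKer h.isB h.fix_a) h.isB.1.1 ?_
  have h2 := Subgroup.mul_mem _ (hF.uKer_le (hF.self_mem_uKer h.isB h.fix_a))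
    (hF.eGrp_le_uGrp h.isB h.fix_a (h.mem_eGrp_of_sq hq (h.mul_self_mem hq hg) h1))
  rwa [← mul_assoc, h.isB.1.2, one_mul] at h2

theorem Std.shift_of_nGrp {g : G} (hg : g ∈ hF.nGrp u a) : shift u g = 1 :=
  h.uGrp_sq_one hq (Subgroup.mul_mem _ (hF.uKer_le (hF.self_mem_uKer h.isB h.fix_a))
    (conj_mem_of_normalizer (hF.mem_nGrp.mp hg).2 (hF.uKer_le (hF.self_mem_uKer h.isB h.fix_a))))

theorem Std.shift_conj_jGrp {j g : G} (hj : j ∈ jGrp Z a b) (hg : g ∈ hF.mGrp u a) :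
    shift u (j * g * j⁻¹) = j * shift u g * j⁻¹ := by
  have hjm := h.nGrp_le_mGrp (h.jGrp_le_nGrp hj)
  rw [h.shift_mul hq (inv_mem hjm) (Subgroup.mul_mem _ hjm hg), h.shift_mul hq hg hjm,
    h.shift_of_nGrp hq (h.jGrp_le_nGrp hj), h.shift_of_nGrp hq (h.jGrp_le_nGrp (inv_mem hj)), one_mul, mul_one,
    mul_inv_cancel, mul_one]

theorem Std.sylow_le_mGrp {S : Subgroup G} (hS : MaxP 2 (stabilizer G a) S) (hle : hF.tGrp u a ≤ S) :
    S ≤ hF.mGrp u a := fun s hs => by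
  refine h.mem_mGrp.mpr ⟨mem_stabilizer_iff.mp (hS.le hs), mem_normalizer_of_conj fun x hx => ?_⟩
  have hfull : ∀ f ∈ hF.tGrp u a, IsB Ω f → s * f * s⁻¹ ∈ hF.tGrp u a := fun f hf hB =>
    h.full_mem hq hS hle (Subgroup.mul_mem _ (Subgroup.mul_mem _ hs (hle hf)) (inv_mem hs)) (hB.conj s)
  by_cases hR : x ∈ hF.rGrp u a
  · have hux : u * x ∉ hF.rGrp u a := fun h1 => by
      have h2 := Subgroup.mul_mem _ h1 (inv_mem hR)
      rw [mul_inv_cancel_right] at h2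
      exact ((h.mem_rGrp hq).mp h2).2 h.isB
    have hu := h.u_mem_tGrp hq
    have h1 := Subgroup.mul_mem _ (hfull u hu h.isB)
      (hfull (u * x) (Subgroup.mul_mem _ hu hx) (h.isB_of_not_mem hq (Subgroup.mul_mem _ hu hx) hux))
    rwa [conj_mul, show u * (u * x) = x by rw [← mul_assoc, h.isB.1.2, one_mul]] at h1
  · exact hfull x hx (h.isB_of_not_mem hq hx hR)

/-- An element normalising the centraliser is a translation times an element fixing both points. -/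
theorem Std.nGrp_dec {g : G} (hg : g ∈ hF.nGrp u a) :
    ∃ k ∈ hF.tGrp u a, ∃ y ∈ (two a b : Subgroup G), g = k * y := by
  obtain ⟨z, ⟨hz, hgz⟩, -⟩ := h.exists_maps hg (one_mem (hF.eGrp a))
  obtain ⟨t, ht, htm⟩ := h.all_translations hq z hz
  have h1 := htm 1 (one_mem _)
  rw [mul_one] at h1
  obtain ⟨x, hx, y, hd, hy, -, -⟩ := h.exists_mul_two (Subgroup.mul_mem _ (inv_mem ((h.mem_tGrp.mp ht).1).1) hg)
    (hgz.mul h1.inv)
  exact ⟨t * x, Subgroup.mul_mem _ ht (h.uGrp_le_tGrp hx), y, hy, by rw [mul_assoc, ← hd, mul_inv_cancel_left]⟩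

theorem Std.kGrp_sq {k : G} (hk : k ∈ hF.mGrp u a) (hkK : k ∈ hF.kGrp a) : k * k ∈ hF.rGrp u a := by
  have hkk : k * k ∈ hF.tGrp u a := by
    rw [h.tGrp_eq]
    refine ⟨h.mem_nGrp_of_shift hq (Subgroup.mul_mem _ hk hk) ?_, Subgroup.mul_mem _ hkK hkK⟩
    rw [h.shift_mul hq hk hk, mul_inv_eq_iff_eq_mul.mpr ((hF.mem_kGrp.mp hkK).2 _ (h.shift_mem hq hk)).symm,
      hF.eGrp_sq (h.shift_mem hq hk)]
  by_contra hR
  have hB : IsB Ω (k * k) := h.isB_of_not_mem hq hkk hR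
  have hr : u * (k * k) ∈ hF.rGrp u a := (h.tGrp_cases hq hkk).resolve_left hR
  set x := u * (k * k) with hx
  have hkx : x⁻¹ * (k * x * k⁻¹) ∈ hF.eGrp a := by
    refine h.mem_eGrp_of_sq hq (Subgroup.mul_mem _ (inv_mem hr) (h.conj_rGrp hq hk hr)) ?_
    have hc := h.rGrp_comm hq (h.conj_rGrp hq hk hr) (inv_mem hr)
    rw [show x⁻¹ * (k * x * k⁻¹) * (x⁻¹ * (k * x * k⁻¹)) = x⁻¹ * ((k * x * k⁻¹) * x⁻¹) * (k * x * k⁻¹) by group,
      hc, show x⁻¹ * (x⁻¹ * (k * x * k⁻¹)) * (k * x * k⁻¹) = (x * x)⁻¹ * (k * (x * x) * k⁻¹) by group,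
      mul_inv_eq_iff_eq_mul.mpr ((hF.mem_kGrp.mp hkK).2 _ (h.tGrp_sq_mem hq ((h.mem_rGrp hq).mp hr).1)).symm,
      inv_mul_cancel]
  have hku : k * u * k⁻¹ = u * (x⁻¹ * (k * x * k⁻¹))⁻¹ := by
    have hux : u * x = k * k := by rw [hx, ← mul_assoc, h.isB.1.2, one_mul]
    calc k * u * k⁻¹ = (k * (u * x) * k⁻¹) * (k * x * k⁻¹)⁻¹ := by group
      _ = u * x * (k * x * k⁻¹)⁻¹ := by rw [hux]; group
      _ = _ := by
        rw [mul_assoc u x, h.rGrp_comm hq hr (inv_mem (h.conj_rGrp hq hk hr))]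
        group
  have hkn : k ∈ hF.nGrp u a := by
    refine h.mem_nGrp_of_conj (h.mem_mGrp.mp hk).1 (hF.self_mem_uKer h.isB h.fix_a) h.isB.1.1 ?_
    rw [hku]
    exact Subgroup.mul_mem _ (hF.uKer_le (hF.self_mem_uKer h.isB h.fix_a))
      (hF.eGrp_le_uGrp h.isB h.fix_a (inv_mem hkx))
  refine hR (h.eGrp_le_rGrp hq (h.tGrp_sq_mem hq ?_))
  rw [h.tGrp_eq]
  exact ⟨hkn, hkK⟩

theorem Std.sylow_two {S : Subgroup G} (hS : MaxP 2 (stabilizer G a) S) (hTS : T ≤ S) {y : G} (hy : y ∈ S)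
    (hy2 : y ∈ (two a b : Subgroup G)) : y ∈ T :=
  (h.maxP.eq_of_le (hS.isPGroup.to_le inf_le_left) inf_le_right (le_inf hTS h.maxP.le)).le
    (Subgroup.mem_inf.mpr ⟨hy, hy2⟩)

theorem Std.sylow_comm {S : Subgroup G} (hS : MaxP 2 (stabilizer G a) S) (hTS : T ≤ S) {t t' : G} (ht : t ∈ T)
    (ht' : t' ∈ T) : t * t' = t' * t :=
  h.sylow_comm_of_two (h.kernel_two hq).1 hS hTS ht ht'

/-- The kernel shifting by every member leaves an abelian quotient of a Sylow subgroup. -/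
theorem Std.false_of_shifts (hA : ∀ m ∈ hF.eGrp a, ∃ k ∈ hF.mGrp u a ⊓ hF.kGrp a, shift u k = m) : False := by
  classical
  haveI : Fact (Nat.Prime 2) := ⟨Nat.prime_two⟩
  obtain ⟨S, hS, hTS, htS⟩ := h.exists_sylow
  have hSM := h.sylow_le_mGrp hq hS htS
  set K0 := hF.mGrp u a ⊓ hF.kGrp a with hK0
  have hKn : ∀ g ∈ hF.mGrp u a, ∀ k ∈ K0, g * k * g⁻¹ ∈ K0 := fun g hg k hk =>
    ⟨Subgroup.mul_mem _ (Subgroup.mul_mem _ hg hk.1) (inv_mem hg), hF.kGrp_normal (h.mem_mGrp.mp hg).1 hk.2⟩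
  have htK : hF.tGrp u a ≤ K0 := fun x hx => ⟨h.tGrp_le_mGrp hx, ((h.mem_tGrp.mp hx).1).2⟩
  -- it is a 2-group inside `S`
  have hK2 : IsPGroup 2 K0 := fun k => by
    obtain ⟨i, hi⟩ := h.isPGroup_tGrp ⟨_, ((h.mem_rGrp hq).mp (h.kGrp_sq hq k.2.1 k.2.2)).1⟩
    refine ⟨i + 1, Subtype.ext ?_⟩
    rw [pow_succ', pow_mul, pow_two]
    have h2 := congrArg (fun z : hF.tGrp u a => (z : G)) hi
    simpa using h2
  have hKS : K0 ≤ S := le_sup_right.trans (hS.eq_of_le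
    (IsPGroup.to_sup_of_normal_right' hS.isPGroup hK2 fun s hs => mem_normalizer_of_conj fun k hk =>
      hKn s (hSM hs) k hk)
    (sup_le hS.le fun k hk => mem_stabilizer_iff.mpr (hF.mem_kGrp.mp hk.2).1) le_sup_left).le
  -- the quotient of exponent two
  let R' : Subgroup K0 := (hF.rGrp u a).subgroupOf K0
  haveI : R'.Normal := ⟨fun x hx k => h.conj_rGrp hq k.2.1 hx⟩
  have hsq : ∀ x : K0 ⧸ R', x * x = 1 := fun x => by
    induction x using QuotientGroup.induction_on with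
    | _ k => exact (QuotientGroup.eq_one_iff _).mpr (h.kGrp_sq hq k.2.1 k.2.2)
  letI : CommGroup (K0 ⧸ R') :=
    { (inferInstance : Group (K0 ⧸ R')) with
      mul_comm := fun x y => by
        rw [← inv_eq_of_mul_eq_one_right (hsq (x * y)), mul_inv_rev, inv_eq_of_mul_eq_one_right (hsq x),
          inv_eq_of_mul_eq_one_right (hsq y)] }
  haveI := Fintype.ofFinite (jGrp Z a b)
  have hjm : ∀ j : jGrp Z a b, (j : G) ∈ hF.mGrp u a := fun j => h.nGrp_le_mGrp (h.jGrp_le_nGrp j.2)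
  let α : ∀ g : G, g ∈ hF.mGrp u a → (K0 ⧸ R') →* (K0 ⧸ R') := fun g hg =>
    QuotientGroup.map R' R' (MonoidHom.mk' (fun k => ⟨g * k * g⁻¹, hKn g hg k k.2⟩)
      fun k k' => Subtype.ext (by show g * (k * k' : G) * g⁻¹ = g * k * g⁻¹ * (g * k' * g⁻¹); group))
      fun k hk => h.conj_rGrp hq hg hk
  let ψ : K0 →* (K0 ⧸ R') := MonoidHom.mk' (fun k => ∏ j : jGrp Z a b, α j (hjm j) k) fun k k' => by
    rw [← Finset.prod_mul_distrib]
    exact Finset.prod_congr rfl fun j _ => by rw [← map_mul]; rfl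
  have hψc : ∀ g (hg : g ∈ hF.mGrp u a) (e : jGrp Z a b ≃ jGrp Z a b),
      (∀ j : jGrp Z a b, g * (j : G) = (e j : G) * g) →
      ∀ k : K0, ψ ⟨g * k * g⁻¹, hKn g hg k k.2⟩ = α g hg (ψ k) := by
    intro g hg e he k
    show (∏ j : jGrp Z a b, α j (hjm j) _) = α g hg (∏ j : jGrp Z a b, α j (hjm j) k)
    rw [map_prod, ← Equiv.prod_comp e]
    refine Finset.prod_congr rfl fun j _ => congrArg QuotientGroup.mk (Subtype.ext ?_)
    show (e j : G) * (g * k * g⁻¹) * (e j : G)⁻¹ = g * ((j : G) * k * (j : G)⁻¹) * g⁻¹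
    rw [show g * ((j : G) * k * (j : G)⁻¹) * g⁻¹ = g * (j : G) * k * (g * (j : G))⁻¹ by group, he j]
    group
  have huK : u ∈ K0 := htK (h.u_mem_tGrp hq)
  have hu1 : (QuotientGroup.mk ⟨u, huK⟩ : K0 ⧸ R') ≠ 1 := fun e =>
    ((h.mem_rGrp hq).mp ((QuotientGroup.eq_one_iff (N := R') _).mp e : u ∈ hF.rGrp u a)).2 h.isB
  have hψu : ψ ⟨u, huK⟩ = QuotientGroup.mk ⟨u, huK⟩ := by
    show (∏ j : jGrp Z a b, α j (hjm j) _) = _
    refine (Finset.prod_congr rfl (g := fun _ : jGrp Z a b => (QuotientGroup.mk ⟨u, huK⟩ : K0 ⧸ R'))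
      fun j _ => ?_).trans ?_
    · refine congrArg QuotientGroup.mk (Subtype.ext ?_)
      show (j : G) * u * (j : G)⁻¹ = u
      rw [← hF.commute_jGrp h.ne h.isB h.fix_a h.fix_b j.2, mul_inv_cancel_right]
    rw [Finset.prod_const, Finset.card_univ, ← Nat.card_eq_fintype_card]
    obtain ⟨m, hm⟩ := hF.odd_card_jGrp (a := a) (b := b) h.ne
    rw [hm, pow_succ, pow_mul, pow_two, hsq, one_pow, one_mul]
  have hψval : ∀ k, ψ k = 1 ∨ ψ k = QuotientGroup.mk ⟨u, huK⟩ := by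
    intro k
    obtain ⟨k1, hk1⟩ := QuotientGroup.mk_surjective (ψ k)
    obtain ⟨e0, he0, he01⟩ := hF.exists_mem_eGrp_ne_one a
    obtain ⟨e', he', he'0⟩ : ∃ e' : hF.eGrp a, (e' : G) ≠ 1 ∧ (e' : G) ≠ e0 := by
      by_contra hno
      push Not at hno
      have h4 := hF.four_le_card a
      have h5 := Nat.card_le_card_of_surjective (fun c : Bool => cond c (⟨e0, he0⟩ : hF.eGrp a) 1) fun x => by
        by_cases hx : (x : G) = 1
        · exact ⟨false, Subtype.ext hx.symm⟩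
        · exact ⟨true, Subtype.ext (hno x hx).symm⟩
      rw [show Nat.card Bool = 2 by simp] at h5
      omega
    obtain ⟨i, hi, hie⟩ := hF.exists_jGrp_eq h.ne he0 he01 e'.2 he'
    have hi1 : i ≠ 1 := fun e => he'0 (by rw [← hie, e, inv_one, mul_one, one_mul])
    have hfix : α i (hjm ⟨i, hi⟩) (ψ k) = ψ k := by
      show α i (hjm ⟨i, hi⟩) (∏ j : jGrp Z a b, α j (hjm j) k) = ∏ j : jGrp Z a b, α j (hjm j) k
      rw [map_prod]
      conv_rhs => rw [← Equiv.prod_comp (Equiv.mulLeft (⟨i, hi⟩ : jGrp Z a b))]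
      refine Finset.prod_congr rfl fun j _ => congrArg QuotientGroup.mk (Subtype.ext ?_)
      show i * ((j : G) * k * (j : G)⁻¹) * i⁻¹ = (i * j) * k * (i * j)⁻¹
      group
    rw [← hk1] at hfix
    have hx : (k1 : G)⁻¹ * (i * k1 * i⁻¹) ∈ hF.rGrp u a :=
      (QuotientGroup.eq (s := R') (a := k1) (b := ⟨i * k1 * i⁻¹, hKn i (hjm ⟨i, hi⟩) k1 k1.2⟩)).mp hfix.symm
    have hxt := ((h.mem_rGrp hq).mp hx).1
    have h1 : shift u (i * k1 * i⁻¹) = shift u (k1 : G) := by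
      conv_lhs => rw [show i * (k1 : G) * i⁻¹ = k1 * ((k1 : G)⁻¹ * (i * k1 * i⁻¹)) by group]
      rw [h.shift_mul hq (h.tGrp_le_mGrp hxt) k1.2.1, h.shift_of_nGrp hq ((h.mem_tGrp.mp hxt).1).1, mul_one,
        mul_inv_cancel, mul_one]
    rw [h.shift_conj_jGrp hq hi k1.2.1] at h1
    have hs : shift u (k1 : G) = 1 := by
      by_contra hs
      exact hi1 (hF.jGrp_free h.ne hi (h.shift_mem hq k1.2.1) hs (mul_inv_eq_iff_eq_mul.mp h1))
    have hk1t : (k1 : G) ∈ hF.tGrp u a := by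
      rw [h.tGrp_eq]
      exact ⟨h.mem_nGrp_of_shift hq k1.2.1 hs, k1.2.2⟩
    rw [← hk1]
    rcases h.tGrp_cases hq hk1t with h2 | h2
    · exact Or.inl ((QuotientGroup.eq_one_iff _).mpr h2)
    · refine Or.inr (QuotientGroup.eq.mpr ?_)
      show (k1 : G)⁻¹ * u ∈ hF.rGrp u a
      have h3 := inv_mem h2
      rwa [mul_inv_rev, inv_eq_of_mul_eq_one_right h.isB.1.2] at h3
  -- its kernel in `S`
  let N : Subgroup S := ψ.ker.map (Subgroup.inclusion hKS)
  have hdec : ∀ s ∈ S, ∃ k : K0, ∃ y ∈ T, s = k * y := by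
    intro s hs
    obtain ⟨k, hk, hks⟩ := hA _ (h.shift_mem hq (hSM hs))
    have hn : k⁻¹ * s ∈ hF.nGrp u a := h.mem_nGrp_of_shift hq (Subgroup.mul_mem _ (inv_mem hk.1) (hSM hs)) (by
      have h1 := h.shift_mul hq hk.1 (inv_mem hk.1)
      rw [inv_mul_cancel, h.shift_one hq, hks] at h1
      rw [h.shift_mul hq (hSM hs) (inv_mem hk.1), ← h1])
    obtain ⟨t, ht, y, hy, hd⟩ := h.nGrp_dec hq hn
    have hks' : k * t ∈ K0 := Subgroup.mul_mem _ hk (htK ht)
    refine ⟨⟨k * t, hks'⟩, y, h.sylow_two hq hS hTS ?_ hy, ?_⟩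
    · have h1 := Subgroup.mul_mem _ (inv_mem (hKS hks')) hs
      rwa [mul_inv_rev, mul_assoc, hd, inv_mul_cancel_left] at h1
    · show s = k * t * y
      rw [mul_assoc, ← hd, mul_inv_cancel_left]
  haveI hN : N.Normal := ⟨by
    rintro _ ⟨c, hc, rfl⟩ s
    obtain ⟨k, y, hy, hsd⟩ := hdec s s.2
    have hym : y ∈ hF.mGrp u a := hSM (hTS hy)
    refine ⟨k * ⟨y * c * y⁻¹, hKn y hym c c.2⟩ * k⁻¹, ?_, Subtype.ext ?_⟩
    · refine MonoidHom.mem_ker.mpr ?_
      have hye : ∀ x ∈ jGrp Z a b, y * x * y⁻¹ ∈ jGrp Z a b := fun x hx => hF.jGrp_normal (h.maxP.le hy) hx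
      let e : jGrp Z a b ≃ jGrp Z a b := Equiv.ofBijective (fun j => ⟨y * j * y⁻¹, hye j j.2⟩)
        (Finite.injective_iff_bijective.mp fun j j' e => Subtype.ext
          (mul_left_cancel (mul_right_cancel (congrArg Subtype.val e :))))
      rw [map_mul, map_mul, hψc y hym e (fun j => by show y * (j : G) = y * j * y⁻¹ * y; group),
        MonoidHom.mem_ker.mp hc, map_one, mul_one, ← map_mul, mul_inv_cancel, map_one]
    · show (k : G) * (y * c * y⁻¹) * (k : G)⁻¹ = (s : G) * c * (s : G)⁻¹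
      rw [hsd]; group⟩
  have huS : u ∈ S := hTS h.mem
  have hrep : ∀ x : S ⧸ N, ∃ y, ∃ hy : y ∈ T, x = QuotientGroup.mk ⟨y, hTS hy⟩ := by
    intro x
    induction x using QuotientGroup.induction_on with
    | _ s =>
      obtain ⟨k, y, hy, hsd⟩ := hdec s s.2
      rcases hψval k with hk | hk
      · refine ⟨y, hy, (QuotientGroup.eq.mpr ?_).symm⟩
        refine ⟨⟨y⁻¹ * k * y, by
          have := hKn y⁻¹ (inv_mem (hSM (hTS hy))) k k.2
          rwa [inv_inv] at this⟩, ?_, Subtype.ext ?_⟩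
        · have h1 := hN.conj_mem ⟨k, hKS k.2⟩ ⟨k, hk, rfl⟩ ⟨y, hTS hy⟩⁻¹
          obtain ⟨c, hc, hce⟩ := h1
          convert hc using 1
          refine Subtype.ext ?_
          have := congrArg Subtype.val hce
          simpa using this.symm
        · show y⁻¹ * k * y = y⁻¹ * (s : G)
          rw [hsd, mul_assoc]
      · refine ⟨u * y, mul_mem h.mem hy, (QuotientGroup.eq.mpr ?_).symm⟩
        have h0 : (⟨u, huK⟩ : K0) * k ∈ ψ.ker := MonoidHom.mem_ker.mpr (by rw [map_mul, hψu, hk, hsq])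
        have h1 := hN.conj_mem _ ⟨_, h0, rfl⟩ (⟨y, hTS hy⟩⁻¹ : S)
        refine Eq.mp (congrArg (· ∈ N) (Subtype.ext ?_)) h1
        show y⁻¹ * (u * (k : G)) * y⁻¹⁻¹ = (u * y)⁻¹ * (s : G)
        rw [hsd, mul_inv_rev, inv_eq_of_mul_eq_one_right h.isB.1.2]
        group
  letI : CommGroup (S ⧸ N) :=
    { (inferInstance : Group (S ⧸ N)) with
      mul_comm := fun x x' => by
        obtain ⟨y, hy, rfl⟩ := hrep x
        obtain ⟨y', hy', rfl⟩ := hrep x'
        exact congrArg QuotientGroup.mk (Subtype.ext (h.sylow_comm hq hS hTS hy hy')) }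
  have hcases : ∀ x : S, (hx : (x : G) ∈ hF.rGrp u a) → x ∈ N := fun x hx => by
    refine ⟨⟨(x : G), htK ((h.mem_rGrp hq).mp hx).1⟩, MonoidHom.mem_ker.mpr ?_, rfl⟩
    refine Finset.prod_eq_one fun j _ => (QuotientGroup.eq_one_iff _).mpr ?_
    exact h.conj_rGrp hq (hjm j) hx
  refine h.false_of_hom hS (QuotientGroup.mk' N) (fun x hx => (QuotientGroup.eq_one_iff _).mpr (hcases x
    (h.eGrp_le_rGrp hq (hF.mem_eGrp_of hx (mem_stabilizer_iff.mp (hS.le x.2))))))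
    (w := QuotientGroup.mk ⟨u, huS⟩) (fun e => ?_) ?_ fun x hxB => ?_
  · obtain ⟨c, hc, hce⟩ := (QuotientGroup.eq_one_iff _).mp e
    obtain rfl : c = ⟨u, huK⟩ := Subtype.ext (congrArg Subtype.val hce :)
    exact hu1 (hψu ▸ MonoidHom.mem_ker.mp hc)
  · exact congrArg QuotientGroup.mk (Subtype.ext h.isB.1.2 : (⟨u, huS⟩ * ⟨u, huS⟩ : S) = 1)
  · refine QuotientGroup.eq.mpr (hcases _ ?_)
    show (x : G)⁻¹ * u ∈ hF.rGrp u a
    rw [inv_eq_of_mul_eq_one_right hxB.1.2]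
    exact h.mul_mem_rGrp hq (h.full_mem hq hS htS x.2 hxB) (h.u_mem_tGrp hq) hxB h.isB

/-- Without shifts from the kernel, `q = 8`. -/
theorem Std.card_eight (hN : ∀ k ∈ hF.mGrp u a ⊓ hF.kGrp a, shift u k = 1) : Nat.card (hF.eGrp a) = 8 := by
  obtain ⟨S, hS, hTS, htS⟩ := h.exists_sylow
  have hSM := h.sylow_le_mGrp hq hS htS
  refine (h.affine (N := hF.mGrp u a) (fun j hj => h.nGrp_le_mGrp (h.jGrp_le_nGrp hj))
    (fun g c m => g ∈ hF.mGrp u a ∧ c = g ∧ m = shift u g) (fun g hg => ⟨g, _, hg, rfl, rfl⟩)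
    ?_ ?_ ?_ ?_ ?_ ?_ ?_).1
  · rintro g c m ⟨hg, rfl, rfl⟩
    exact ⟨(h.mem_mGrp.mp hg).1, h.shift_mem hq hg⟩
  · rintro g c m g' c' m' - - ⟨hg, rfl, rfl⟩ ⟨hg', rfl, rfl⟩
    exact ⟨Subgroup.mul_mem _ hg' hg, rfl, (h.shift_mul hq hg hg').symm⟩
  · rintro g c m c' m' - ⟨-, rfl, rfl⟩ ⟨-, rfl, rfl⟩
    exact ⟨rfl, fun _ _ => rfl⟩
  · exact fun j hj => ⟨h.nGrp_le_mGrp (h.jGrp_le_nGrp hj), rfl, (h.shift_of_nGrp hq (h.jGrp_le_nGrp hj)).symm⟩
  · rintro g c m - ⟨hg, rfl, rfl⟩ hc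
    exact hN c ⟨hg, hF.mem_kGrp.mpr ⟨(h.mem_mGrp.mp hg).1, fun e he => (mul_inv_eq_iff_eq_mul.mp (hc e he)).symm⟩⟩
  · intro y hy
    obtain ⟨x, hx, rfl⟩ := h.exists_sqrt_rGrp hq hy
    obtain ⟨hxt, -⟩ := (h.mem_rGrp hq).mp hx
    have hu := h.u_mem_tGrp hq
    have hf : IsB Ω (u * x) := h.isB_of_not_mem hq (Subgroup.mul_mem _ hu hxt) fun h1 => by
      have h2 := Subgroup.mul_mem _ h1 (inv_mem hx)
      rw [mul_inv_cancel_right] at h2
      exact ((h.mem_rGrp hq).mp h2).2 h.isB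
    obtain ⟨c, hca, hc⟩ := hF.exists_other hf a
    obtain ⟨s, hs, hsb⟩ := h.exists_trans hq hS hca
    have he : s * u * s⁻¹ = u * x := h.full_unique hq hS.isPGroup hS.le
      (Subgroup.mul_mem _ (Subgroup.mul_mem _ hs (hTS h.mem)) (inv_mem hs)) (htS (Subgroup.mul_mem _ hu hxt))
      (h.isB.conj s) hf hca (hsb ▸ smul_conj h.fix_b) hc
    refine ⟨s, hSM hs, s, hSM hs, rfl, ?_⟩
    rw [shift, he, ← mul_assoc u u, h.isB.1.2, one_mul]
  · rintro g c - ⟨hg, rfl, h1⟩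
    obtain ⟨k, hk, y, hy, rfl⟩ := h.nGrp_dec hq (h.mem_nGrp_of_shift hq hg h1.symm)
    refine ⟨y, hy, fun x hx => ?_⟩
    have hx' : y * x * y⁻¹ ∈ hF.eGrp a := by
      have := hF.eGrp_conj (g := y) hx
      rwa [(mem_two.mp hy).1] at this
    rw [show k * y * x * (k * y)⁻¹ = k * (y * x * y⁻¹) * k⁻¹ by group, mul_inv_eq_iff_eq_mul]
    exact ((hF.mem_kGrp.mp ((h.mem_tGrp.mp hk).1).2).2 _ hx').symm

/-- The determinant over the integers modulo four sees the involution when `q = 8`. -/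
theorem Std.false_of_eight (h8 : Nat.card (hF.eGrp a) = 8) : False := by
  classical
  haveI : Fact (Nat.Prime 2) := ⟨Nat.prime_two⟩
  obtain ⟨S, hS, hTS, htS⟩ := h.exists_sylow
  have hSM := h.sylow_le_mGrp hq hS htS
  letI : CommGroup (hF.rGrp u a) :=
    { (inferInstance : Group (hF.rGrp u a)) with
      mul_comm := fun x y => Subtype.ext (h.rGrp_comm hq x.2 y.2) }
  have hpow4 : ∀ x : hF.rGrp u a, x ^ 4 = 1 := fun x => Subtype.ext (show (x : G) ^ 4 = 1 by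
    rw [show (4 : ℕ) = 2 * 2 from rfl, pow_mul, pow_two, pow_two]
    exact hF.eGrp_sq (h.tGrp_sq_mem hq ((h.mem_rGrp hq).mp x.2).1))
  letI : Module (ZMod 4) (Additive (hF.rGrp u a)) := AddCommGroup.zmodModule (n := 4) fun x =>
    Additive.toMul.injective (hpow4 (Additive.toMul x))
  haveI : Fact (1 < 4) := ⟨by norm_num⟩
  -- the members are a space of dimension three
  have h3 : Module.finrank (ZMod 2) (hF.EVec a) = 3 := by
    haveI : Finite (hF.EVec a) := inferInstanceAs (Finite (hF.eGrp a))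
    have hc : Nat.card (hF.EVec a) = 2 ^ Module.finrank (ZMod 2) (hF.EVec a) := by
      rw [Module.natCard_eq_pow_finrank (K := ZMod 2), Nat.card_zmod]
    rw [show Nat.card (hF.EVec a) = Nat.card (hF.eGrp a) from rfl, h8, show 8 = 2 ^ 3 from rfl] at hc
    exact (Nat.pow_right_injective le_rfl hc).symm
  haveI : Finite (hF.EVec a) := inferInstanceAs (Finite (hF.eGrp a))
  haveI : Module.Finite (ZMod 2) (hF.EVec a) := Module.Finite.of_finite
  let B := Module.finBasisOfFinrankEq (ZMod 2) (hF.EVec a) h3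
  choose x hx hx2 using fun i => h.exists_sqrt_rGrp hq (hF.val_mem (B i))
  let X : Fin 3 → Additive (hF.rGrp u a) := fun i => Additive.ofMul ⟨x i, hx i⟩
  let L : (Fin 3 → ZMod 4) →ₗ[ZMod 4] Additive (hF.rGrp u a) := (Pi.basisFun (ZMod 4) (Fin 3)).constr ℕ X
  have hLX : ∀ i, X i ∈ LinearMap.range L := fun i => ⟨Pi.basisFun (ZMod 4) (Fin 3) i, Module.Basis.constr_basis _ _ _ _⟩
  let ι : hF.EVec a →+ Additive (hF.rGrp u a) :=
    { toFun := fun v => Additive.ofMul ⟨hF.val v, h.eGrp_le_rGrp hq (hF.val_mem v)⟩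
      map_zero' := rfl
      map_add' := fun v w => rfl }
  let W : AddSubgroup (hF.EVec a) :=
    { carrier := {v | ∃ y ∈ LinearMap.range L, y + y = ι v}
      add_mem' := by
        rintro v w ⟨y, hy, hyv⟩ ⟨z, hz, hzw⟩
        exact ⟨y + z, add_mem hy hz, by rw [map_add, ← hyv, ← hzw]; abel⟩
      zero_mem' := ⟨0, zero_mem _, by rw [add_zero, map_zero]⟩
      neg_mem' := by
        rintro v ⟨y, hy, hyv⟩
        exact ⟨-y, neg_mem hy, by rw [map_neg, ← hyv]; abel⟩ }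
  have hW : ∀ v, v ∈ W := by
    have hle : Submodule.span (ZMod 2) (Set.range B) ≤ AddSubgroup.toZModSubmodule 2 W :=
      Submodule.span_le.mpr (by
        rintro _ ⟨i, rfl⟩
        exact ⟨X i, hLX i, Additive.toMul.injective (Subtype.ext (hx2 i))⟩)
    exact fun v => hle (B.span_eq.symm ▸ Submodule.mem_top)
  have hE : ∀ v, ι v ∈ LinearMap.range L := fun v => by
    obtain ⟨y, hy, hyv⟩ := hW v
    exact hyv ▸ add_mem hy hy
  have hsurj : Function.Surjective L := by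
    intro p
    obtain ⟨y, hy, hyv⟩ := hW (hF.vec _ (h.tGrp_sq_mem hq ((h.mem_rGrp hq).mp (Additive.toMul p).2).1))
    have hd : p - y + (p - y) = 0 := by
      have h2 : p + p = y + y := hyv.symm
      rw [show p - y + (p - y) = (p + p) - (y + y) by abel, h2, sub_self]
    have hm := h.mem_eGrp_of_sq hq (Additive.toMul (p - y)).2
      (congrArg (fun z : Additive (hF.rGrp u a) => ((Additive.toMul z : hF.rGrp u a) : G)) hd :)
    have h2 : p - y ∈ LinearMap.range L := by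
      have := hE (hF.vec _ hm)
      exact this
    obtain ⟨z, hz⟩ := add_mem h2 hy
    exact ⟨z, by rw [hz, sub_add_cancel]⟩
  have hbij : Function.Bijective L := (Nat.bijective_iff_surjective_and_card L).mpr ⟨hsurj, by
    rw [Nat.card_fun, Nat.card_zmod, show Nat.card (Additive (hF.rGrp u a)) = Nat.card (hF.rGrp u a) from rfl,
      (h.rGrp_spec hq).2, h8]
    simp⟩
  let eL : (Fin 3 → ZMod 4) ≃ₗ[ZMod 4] Additive (hF.rGrp u a) := LinearEquiv.ofBijective L hbij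
  haveI : Module.Free (ZMod 4) (Additive (hF.rGrp u a)) := Module.Free.of_equiv eL
  have hrank : Module.finrank (ZMod 4) (Additive (hF.rGrp u a)) = 3 := by
    rw [← eL.finrank_eq, Module.finrank_fintype_fun_eq_card, Fintype.card_fin]
  -- conjugation
  have hcinj : ∀ (s : S) (v w : hF.rGrp u a), (s : G) * v * (s : G)⁻¹ = (s : G) * w * (s : G)⁻¹ → v = w :=
    fun s v w e => Subtype.ext (mul_left_cancel (mul_right_cancel e))
  let c : S → (Additive (hF.rGrp u a) ≃ₗ[ZMod 4] Additive (hF.rGrp u a)) := fun s =>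
    LinearEquiv.ofBijective (AddMonoidHom.toZModLinearMap 4
      ({ toFun := fun v => Additive.ofMul ⟨(s : G) * (Additive.toMul v : hF.rGrp u a) * (s : G)⁻¹,
           h.conj_rGrp hq (hSM s.2) (Additive.toMul v).2⟩
         map_zero' := Additive.toMul.injective (Subtype.ext (show (s : G) * (1 : G) * (s : G)⁻¹ = 1 by group))
         map_add' := fun v w => Additive.toMul.injective (Subtype.ext (show (s : G) *
           ((Additive.toMul v : hF.rGrp u a) * (Additive.toMul w : hF.rGrp u a) : G) * (s : G)⁻¹ =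
           (s : G) * (Additive.toMul v : hF.rGrp u a) * (s : G)⁻¹ *
             ((s : G) * (Additive.toMul w : hF.rGrp u a) * (s : G)⁻¹) by group)) } :
        Additive (hF.rGrp u a) →+ Additive (hF.rGrp u a)))
      ((Finite.injective_iff_bijective).mp fun v w e => Additive.toMul.injective (hcinj s _ _
        (congrArg (fun z : Additive (hF.rGrp u a) => ((Additive.toMul z : hF.rGrp u a) : G)) e :)))
  let C : S →* (Additive (hF.rGrp u a) ≃ₗ[ZMod 4] Additive (hF.rGrp u a)) := MonoidHom.mk' c fun s t =>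
    LinearEquiv.ext fun v => Additive.toMul.injective (Subtype.ext (show (s * t : G) *
      (Additive.toMul v : hF.rGrp u a) * (s * t : G)⁻¹ =
      (s : G) * ((t : G) * (Additive.toMul v : hF.rGrp u a) * (t : G)⁻¹) * (s : G)⁻¹ by group))
  let φ : S →* ULift.{u} (ZMod 4)ˣ :=
    MulEquiv.ulift.symm.toMonoidHom.comp (LinearEquiv.det.comp C)
  have hR1 : ∀ x : S, (x : G) ∈ hF.rGrp u a → φ x = 1 := fun x hx => by
    have h1 : C x = 1 := LinearEquiv.ext fun v => Additive.toMul.injective (Subtype.ext (show (x : G) *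
      (Additive.toMul v : hF.rGrp u a) * (x : G)⁻¹ = (Additive.toMul v : hF.rGrp u a) by
        rw [h.rGrp_comm hq hx (Additive.toMul v).2, mul_inv_cancel_right]))
    show MulEquiv.ulift.symm (LinearEquiv.det (C x)) = 1
    rw [h1, map_one, map_one]
  have huS : u ∈ S := hTS h.mem
  have hu : φ ⟨u, huS⟩ = ULift.up (-1) := by
    refine congrArg ULift.up (Units.ext ?_)
    show ((LinearEquiv.det (C ⟨u, huS⟩) : (ZMod 4)ˣ) : ZMod 4) = -1
    rw [LinearEquiv.coe_det, show ((C ⟨u, huS⟩ : Additive (hF.rGrp u a) ≃ₗ[ZMod 4] Additive (hF.rGrp u a)) :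
        Additive (hF.rGrp u a) →ₗ[ZMod 4] Additive (hF.rGrp u a)) = (-1 : ZMod 4) • LinearMap.id from
      LinearMap.ext fun v => ?_, LinearMap.det_smul, LinearMap.det_id, hrank, mul_one]
    · decide
    · show C ⟨u, huS⟩ v = (-1 : ZMod 4) • v
      rw [neg_one_smul]
      refine Additive.toMul.injective (Subtype.ext ?_)
      show u * (Additive.toMul v : hF.rGrp u a) * u⁻¹ = ((Additive.toMul v : hF.rGrp u a) : G)⁻¹
      rw [inv_eq_of_mul_eq_one_right h.isB.1.2, h.rGrp_inverted hq (Additive.toMul v).2]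
  refine h.false_of_hom hS φ (fun x hx => hR1 x
    (h.eGrp_le_rGrp hq (hF.mem_eGrp_of hx (mem_stabilizer_iff.mp (hS.le x.2)))))
    (w := ULift.up (-1)) (fun e => absurd (congrArg ULift.down e) (show (-1 : (ZMod 4)ˣ) ≠ 1 by decide))
    (congrArg ULift.up (show (-1 : (ZMod 4)ˣ) * -1 = 1 by decide)) fun x hxB => ?_
  have h1 := hR1 (x * ⟨u, huS⟩) (h.mul_mem_rGrp hq (h.full_mem hq hS htS x.2 hxB) (h.u_mem_tGrp hq) hxB h.isB)
  rw [map_mul, hu] at h1
  exact (eq_inv_of_mul_eq_one_left h1).trans (congrArg ULift.up (show (-1 : (ZMod 4)ˣ)⁻¹ = -1 by decide))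

/-- There is no full case with `f = q`. -/
theorem Std.false_linear : False := by
  by_cases hN : ∀ k ∈ hF.mGrp u a ⊓ hF.kGrp a, shift u k = 1
  · exact h.false_of_eight hq (h.card_eight hq hN)
  push Not at hN
  obtain ⟨k, hk, hk1⟩ := hN
  refine h.false_of_shifts hq fun m hm => ?_
  by_cases hm1 : m = 1
  · exact ⟨1, one_mem _, by rw [hm1, h.shift_one hq]⟩
  obtain ⟨j, hj, hjm⟩ := hF.exists_jGrp_eq h.ne (h.shift_mem hq hk.1) hk1 hm hm1
  have hjM := h.nGrp_le_mGrp (h.jGrp_le_nGrp hj)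
  exact ⟨j * k * j⁻¹, ⟨Subgroup.mul_mem _ (Subgroup.mul_mem _ hjM hk.1) (inv_mem hjM),
    hF.kGrp_normal (hF.jGrp_fix h.ne hj).1 hk.2⟩, by rw [h.shift_conj_jGrp hq hj hk.1, hjm]⟩

end Linear

end FCtx

end CfsgLib.Bender.Q
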