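import Cfsg.Agent.Lib.Bender.Q.Full.SuzukiNorm
import Cfsg.Agent.Lib.Bender.Q.Full.Cyclic
import Cfsg.Agent.Lib.Bender.Q.Full.Transfer
import Mathlib.GroupTheory.Transfer

/-!
The case `f = q ^ 2`, the end: modulo the members the translation group is a Sylow subgroup of the kernel at the point
and has a normal complement of odd order, inverted by every full involution.  So the product over the torus takes each
full involution to the class of the one, and the transfer gives an abelian quotient.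

Blueprint: `blueprint/bender/Q_VI.md` 6.
-/

set_option autoImplicit false
set_option linter.unusedSectionVars false
set_option linter.style.haveILetI false
set_option linter.deprecated false

universe u

namespace CfsgLib.Bender.Q

open MulAction Cfsg
open CfsgLib.Bender.TwoClosed (IsInv two mem_two smul_conj MaxP exists_maxP mem_normalizer_of_conj
  conj_mem_of_normalizer)

variable {G Ω : Type u} [Group G] [MulAction G Ω] {Z : Set G} [Finite G] [FaithfulSMul G Ω]

namespace FCtx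

variable {hF : FCtx G Ω Z} {u : G} {a b : Ω} {T : Subgroup G} (h : hF.Std u a b T)
  (hq : fixCard Ω u = Nat.card (hF.eGrp a) ^ 2 + 1)
include h hq

/-- There is no full case with `f = q ^ 2`. -/
theorem Std.false_suzuki : False := by
  classical
  haveI : Fact (Nat.Prime 2) := ⟨Nat.prime_two⟩
  obtain ⟨S, hS, hTS, htS⟩ := h.exists_sylow
  set U := hF.tGrp u a with hU
  set K := hF.kGrp a with hK
  have htK : U ≤ K := fun x hx => (h.mem_tGrp.mp hx).1.2
  have hSK : S ⊓ K = U := h.sylow_inf_kGrp hq hS htS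
  have hUe : hF.eGrp a ≤ U := (hF.eGrp_le_uGrp h.isB h.fix_a).trans h.uGrp_le_tGrp
  have hut : u ∈ U := h.uGrp_le_tGrp (hF.uKer_le (hF.self_mem_uKer h.isB h.fix_a))
  set L := stabilizer G a ⊓ Subgroup.normalizer (U : Set G) with hL
  have hJL : jGrp Z a b ≤ L := fun j hj =>
    ⟨mem_stabilizer_iff.mpr (hF.jGrp_fix h.ne hj).1, h.nGrp_le_normalizer (h.jGrp_le_nGrp hj)⟩
  have hSL : S ≤ L := fun s hs => ⟨hS.le hs, mem_normalizer_of_conj fun k hk => by
    rw [← hSK] at hk ⊢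
    exact ⟨Subgroup.mul_mem _ (Subgroup.mul_mem _ hs hk.1) (inv_mem hs),
      hF.kGrp_normal (mem_stabilizer_iff.mp (hS.le hs)) hk.2⟩⟩
  -- the two quotients by the members
  set E' := (hF.eGrp a).subgroupOf U with hE'
  haveI : E'.Normal := ⟨fun x hx k => by
    have hx' : (x : G) ∈ hF.eGrp a := hx
    show (k : G) * x * (k : G)⁻¹ ∈ hF.eGrp a
    rw [← (hF.mem_kGrp.mp (htK k.2)).2 _ hx', mul_inv_cancel_right]
    exact hx'⟩
  set EK := (hF.eGrp a).subgroupOf K with hEK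
  haveI : EK.Normal := ⟨fun x hx k => by
    have hx' : (x : G) ∈ hF.eGrp a := hx
    show (k : G) * x * (k : G)⁻¹ ∈ hF.eGrp a
    rw [← (hF.mem_kGrp.mp k.2).2 _ hx', mul_inv_cancel_right]
    exact hx'⟩
  have hsq : ∀ x : U ⧸ E', x * x = 1 := fun x => by
    induction x using QuotientGroup.induction_on with
    | _ k => exact (QuotientGroup.eq_one_iff _).mpr (h.tGrp_sq_suz hq k.2)
  letI : CommGroup (U ⧸ E') :=
    { (inferInstance : Group (U ⧸ E')) with
      mul_comm := fun x y => by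
        rw [← inv_eq_of_mul_eq_one_right (hsq (x * y)), mul_inv_rev, inv_eq_of_mul_eq_one_right (hsq x),
          inv_eq_of_mul_eq_one_right (hsq y)] }
  let ι : (U ⧸ E') →* (K ⧸ EK) := QuotientGroup.map E' EK (Subgroup.inclusion htK) fun x hx => hx
  -- the normal complement
  have hUidx : ¬ 2 ∣ (U.subgroupOf K).index :=
    Nat.two_dvd_ne_zero.mpr (Nat.odd_iff.mp (h.odd_index_suz hq))
  let P0 : Sylow 2 K := (IsPGroup.comap_subtype h.isPGroup_tGrp : IsPGroup 2 (U.subgroupOf K)).toSylow hUidx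
  let P : Sylow 2 (K ⧸ EK) := P0.mapSurjective (QuotientGroup.mk'_surjective EK)
  have hPmem : ∀ g : K, (QuotientGroup.mk g : K ⧸ EK) ∈ (P : Subgroup (K ⧸ EK)) ↔ (g : G) ∈ U := fun g => by
    constructor
    · rintro ⟨k, hk, hkg⟩
      have hkU : (k : G) ∈ U := hk
      have hkg' := QuotientGroup.eq.mp (show (QuotientGroup.mk k : K ⧸ EK) = QuotientGroup.mk g from hkg)
      have h1 : (k : G)⁻¹ * g ∈ hF.eGrp a := hkg'
      have h2 := U.mul_mem hkU (hUe h1)
      rwa [mul_inv_cancel_left] at h2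
    · exact fun hg => ⟨g, hg, rfl⟩
  have hNC : Subgroup.normalizer ((P : Subgroup (K ⧸ EK)) : Set (K ⧸ EK)) ≤
      Subgroup.centralizer ((P : Subgroup (K ⧸ EK)) : Set (K ⧸ EK)) := by
    intro x hx
    induction x using QuotientGroup.induction_on with
    | _ g =>
      have hgU : (g : G) ∈ U := h.normalizer_tGrp_suz hq g.2 (mem_normalizer_of_conj fun y hy => by
        have h1 := (Subgroup.mem_normalizer_iff.mp hx (QuotientGroup.mk ⟨y, htK hy⟩)).mp ((hPmem _).mpr hy)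
        rw [← QuotientGroup.mk_mul, ← QuotientGroup.mk_inv, ← QuotientGroup.mk_mul] at h1
        exact (hPmem _).mp h1)
      refine Subgroup.mem_centralizer_iff.mpr fun y hy => ?_
      induction y using QuotientGroup.induction_on with
      | _ k =>
        have hk : (k : G) ∈ U := (hPmem k).mp hy
        exact congrArg ι (mul_comm (QuotientGroup.mk (⟨k, hk⟩ : U) : U ⧸ E') (QuotientGroup.mk (⟨g, hgU⟩ : U)))
          |> fun e => by rwa [map_mul, map_mul] at e
  obtain ⟨O, hOn, hc⟩ : ∃ O : Subgroup (K ⧸ EK), O.Normal ∧ Subgroup.IsComplement' O (P : Subgroup (K ⧸ EK)) :=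
    ⟨_, MonoidHom.normal_ker _, MonoidHom.ker_transferSylow_isComplement' P hNC⟩
  have hOodd : Odd (Nat.card O) := by
    rw [← hc.index_eq_card, Nat.odd_iff, ← Nat.two_dvd_ne_zero]
    exact P.not_dvd_index
  have hO1 : O ≠ ⊥ := fun e => h.kGrp_ne_tGrp hq <| le_antisymm (fun g hg => by
    have h1 : (P : Subgroup (K ⧸ EK)) = ⊤ := Subgroup.isComplement'_bot_left.mp (e ▸ hc)
    exact (hPmem ⟨g, hg⟩).mp (h1 ▸ Subgroup.mem_top _)) htK
  -- the full involutions invert it
  have hinv : ∀ f (hf : f ∈ U), IsB Ω f → ∀ x ∈ O,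
      ι (QuotientGroup.mk ⟨f, hf⟩) * x * ι (QuotientGroup.mk ⟨f, hf⟩) = x⁻¹ := by
    intro f hf hfB x hx
    have hw : ι (QuotientGroup.mk ⟨f, hf⟩) * ι (QuotientGroup.mk ⟨f, hf⟩) = 1 := by rw [← map_mul, hsq, map_one]
    refine inv_of_free hw (fun y hy => ?_) (fun y hy hcomm => ?_) hx
    · have h1 := hOn.conj_mem y hy (ι (QuotientGroup.mk ⟨f, hf⟩))
      rwa [inv_eq_of_mul_eq_one_right hw] at h1
    induction y using QuotientGroup.induction_on with
    | _ g =>
      have hfa : f • a = a := (hF.mem_kGrp.mp (htK hf)).1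
      have he' := QuotientGroup.eq.mp (show (QuotientGroup.mk (g * ⟨f, htK hf⟩) : K ⧸ EK) =
        QuotientGroup.mk (⟨f, htK hf⟩ * g) from hcomm.symm)
      have hd : ((g : G) * f)⁻¹ * (f * g) ∈ hF.eGrp a := he'
      set d := ((g : G) * f)⁻¹ * (f * g) with hd'
      have h1 : (g : G)⁻¹ * f * g = f * d := by rw [hd']; group
      have h2 : f * ((g : G) * g) = (g : G) * g * f := by
        have h3 : (g : G)⁻¹ * d * g = d := by
          rw [mul_assoc, (hF.mem_kGrp.mp g.2).2 _ hd, inv_mul_cancel_left]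
        calc f * ((g : G) * g) = (g : G) * ((g : G)⁻¹ * f * g) * g := by group
          _ = (g : G) * (f * d) * g := by rw [h1]
          _ = (g : G) * g * (((g : G)⁻¹ * f * g) * ((g : G)⁻¹ * d * g)) := by group
          _ = (g : G) * g * f := by rw [h1, h3, mul_assoc f, hF.eGrp_sq hd, mul_one]
      obtain ⟨n, hn⟩ := hF.isPGroup_uGrp hfB hfa h.small
        ⟨(g : G) * g, hF.mem_uGrp.mpr ⟨K.mul_mem g.2 g.2, h2⟩⟩
      have hg : g ^ 2 ^ (n + 1) = 1 := Subtype.ext (by
        rw [pow_succ', pow_mul, pow_two, SubgroupClass.coe_pow]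
        exact congrArg Subtype.val hn)
      have h4 : orderOf (QuotientGroup.mk g : K ⧸ EK) ∣ 2 ^ (n + 1) := orderOf_dvd_of_pow_eq_one (by
        rw [← QuotientGroup.mk_pow, hg]
        rfl)
      exact orderOf_eq_one_iff.mp (Nat.eq_one_of_dvd_coprimes
        ((Nat.coprime_two_left.mpr hOodd).pow_left (n + 1)) h4 (Subgroup.orderOf_dvd_natCard _ hy))
  -- the product over the torus
  haveI := Fintype.ofFinite (jGrp Z a b)
  let α : ∀ g : G, g ∈ L → (U ⧸ E') →* (U ⧸ E') := fun g hg =>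
    QuotientGroup.map E' E' (MonoidHom.mk' (fun k => ⟨g * k * g⁻¹, conj_mem_of_normalizer hg.2 k.2⟩)
      fun k k' => Subtype.ext (by
        show g * (k * k' : G) * g⁻¹ = g * k * g⁻¹ * (g * k' * g⁻¹)
        group))
      fun k hk => by
        show g * k * g⁻¹ ∈ hF.eGrp a
        have h1 := hF.eGrp_conj (g := g) hk
        rwa [mem_stabilizer_iff.mp hg.1] at h1
  let ψ : U →* (U ⧸ E') := MonoidHom.mk' (fun k => ∏ j : jGrp Z a b, α j (hJL j.2) k) fun k k' => by
    rw [← Finset.prod_mul_distrib]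
    exact Finset.prod_congr rfl fun j _ => by rw [← map_mul]; rfl
  have hψc : ∀ g (hg : g ∈ L) (e : jGrp Z a b ≃ jGrp Z a b),
      (∀ j : jGrp Z a b, g * (j : G) = (e j : G) * g) →
      ∀ k : U, ψ ⟨g * k * g⁻¹, conj_mem_of_normalizer hg.2 k.2⟩ = α g hg (ψ k) := by
    intro g hg e he k
    show (∏ j : jGrp Z a b, α j (hJL j.2) _) = α g hg (∏ j : jGrp Z a b, α j (hJL j.2) k)
    rw [map_prod, ← Equiv.prod_comp e]
    refine Finset.prod_congr rfl fun j _ => congrArg QuotientGroup.mk (Subtype.ext ?_)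
    show (e j : G) * (g * k * g⁻¹) * (e j : G)⁻¹ = g * ((j : G) * k * (j : G)⁻¹) * g⁻¹
    rw [show g * ((j : G) * k * (j : G)⁻¹) * g⁻¹ = g * (j : G) * k * (g * (j : G))⁻¹ by group, he j]
    group
  haveI : Nontrivial (jGrp Z a b) := Finite.one_lt_card_iff_nontrivial.mp (by
    have h4 := hF.four_le_card a
    have := hF.card_jGrp (a := a) (b := b) h.ne
    omega)
  obtain ⟨j1, hj1⟩ := exists_ne (1 : jGrp Z a b)
  have hψval : ∀ k, ψ k = 1 ∨ ψ k = QuotientGroup.mk ⟨u, hut⟩ := by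
    intro k
    obtain ⟨x, hx⟩ := QuotientGroup.mk_surjective (ψ k)
    have h0 : α j1 (hJL j1.2) (ψ k) = ψ k := by
      show α j1 (hJL j1.2) (∏ j : jGrp Z a b, α j (hJL j.2) k) = ∏ j : jGrp Z a b, α j (hJL j.2) k
      rw [map_prod]
      conv_rhs => rw [← Equiv.prod_comp (Equiv.mulLeft j1)]
      refine Finset.prod_congr rfl fun j _ => congrArg QuotientGroup.mk (Subtype.ext ?_)
      show (j1 : G) * ((j : G) * k * (j : G)⁻¹) * (j1 : G)⁻¹ = (j1 * j : G) * k * (j1 * j : G)⁻¹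
      group
    rw [← hx] at h0
    have h1 := QuotientGroup.eq.mp h0.symm
    have h1' : (x : G)⁻¹ * ((j1 : G) * x * (j1 : G)⁻¹) ∈ hF.eGrp a := h1
    rw [← hx]
    rcases h.fixed_suz hq x.2 j1.2 (fun e => hj1 (Subtype.ext e)) h1' with h2 | h2
    · exact Or.inl ((QuotientGroup.eq_one_iff _).mpr h2)
    · refine Or.inr (QuotientGroup.eq.mpr ?_)
      show (x : G)⁻¹ * u ∈ hF.eGrp a
      rw [show (x : G)⁻¹ * u = ((x : G) * x)⁻¹ * ((x : G) * u) by group]
      exact mul_mem (inv_mem (h.tGrp_sq_suz hq x.2)) h2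
  have hψfull : ∀ f : U, IsB Ω (f : G) → ψ f = QuotientGroup.mk ⟨u, hut⟩ := by
    intro f hfB
    refine (hψval f).resolve_left fun he => hO1 ((Subgroup.eq_bot_iff_forall O).mpr fun x hx => ?_)
    have key : ∀ (s : Finset (jGrp Z a b)), ∀ x ∈ O, ι (∏ j ∈ s, α j (hJL j.2) f) * x *
        (ι (∏ j ∈ s, α j (hJL j.2) f))⁻¹ = if Even s.card then x else x⁻¹ := by
      intro s
      induction s using Finset.induction_on with
      | empty => intro x _; simp
      | insert j s hj ih =>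
        intro x hx
        have hi : ∀ y ∈ O, ι (α j (hJL j.2) f) * y * (ι (α j (hJL j.2) f))⁻¹ = y⁻¹ := fun y hy => by
          rw [inv_eq_of_mul_eq_one_right (show ι (α j (hJL j.2) f) * ι (α j (hJL j.2) f) = 1 by
            rw [← map_mul, hsq, map_one])]
          exact hinv _ _ (hfB.conj (j : G)) y hy
        rw [Finset.prod_insert hj, map_mul, mul_inv_rev, Finset.card_insert_of_notMem hj]
        set c := ι (∏ j ∈ s, α j (hJL j.2) f) with hc
        rw [show ι (α j (hJL j.2) f) * c * x * (c⁻¹ * (ι (α j (hJL j.2) f))⁻¹) =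
          ι (α j (hJL j.2) f) * (c * x * c⁻¹) * (ι (α j (hJL j.2) f))⁻¹ by group, ih x hx]
        by_cases hs : Even s.card
        · rw [if_pos hs, if_neg (fun e => (Nat.even_add_one.mp e) hs), hi x hx]
        · rw [if_neg hs, if_pos (Nat.even_add_one.mpr hs), hi _ (inv_mem hx), inv_inv]
    have h1 := key Finset.univ x hx
    rw [show (∏ j : jGrp Z a b, α j (hJL j.2) f) = 1 from he, map_one, inv_one, one_mul, mul_one,
      if_neg (Nat.not_even_iff_odd.mpr (by
        rw [Finset.card_univ, ← Nat.card_eq_fintype_card]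
        exact hF.odd_card_jGrp h.ne))] at h1
    have h2 : (⟨x, hx⟩ : O) ^ 2 = 1 := Subtype.ext (by
      rw [pow_two]
      exact eq_inv_iff_mul_eq_one.mp h1)
    exact congrArg Subtype.val
      (CfsgLib.Bender.TwoClosed.eq_one_of_two_odd h2 (hOodd.of_dvd_nat (orderOf_dvd_natCard _)))
  have hu1 : (QuotientGroup.mk ⟨u, hut⟩ : U ⧸ E') ≠ 1 := fun e => by
    have h1 : u ∈ hF.eGrp a := (QuotientGroup.eq_one_iff (N := E') _).mp e
    exact hF.not_isB_eGrp h1 h.isB
  -- its kernel in `S`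
  let N : Subgroup S := ψ.ker.map (Subgroup.inclusion htS)
  haveI hN : N.Normal := ⟨by
    rintro _ ⟨c, hc, rfl⟩ s
    obtain ⟨k, hk, hkT⟩ := h.sylow_dec_suz hq hS hTS htS s.2
    set y := k⁻¹ * (s : G) with hy
    have hyL : y ∈ L := hSL (hTS hkT)
    refine ⟨⟨k, hk⟩ * ⟨y * c * y⁻¹, conj_mem_of_normalizer hyL.2 c.2⟩ * ⟨k, hk⟩⁻¹, ?_, Subtype.ext ?_⟩
    · refine MonoidHom.mem_ker.mpr ?_
      have hye : ∀ x ∈ jGrp Z a b, y * x * y⁻¹ ∈ jGrp Z a b := fun x hx =>
        hF.jGrp_normal (h.maxP.le hkT) hx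
      let e : jGrp Z a b ≃ jGrp Z a b := Equiv.ofBijective (fun j => ⟨y * j * y⁻¹, hye j j.2⟩)
        (Finite.injective_iff_bijective.mp fun j j' e => Subtype.ext
          (mul_left_cancel (mul_right_cancel (congrArg Subtype.val e :))))
      rw [map_mul, map_mul, hψc y hyL e (fun j => by show y * (j : G) = y * j * y⁻¹ * y; group),
        MonoidHom.mem_ker.mp hc, map_one, mul_one, ← map_mul, mul_inv_cancel, map_one]
    · show k * (y * c * y⁻¹) * k⁻¹ = (s : G) * c * (s : G)⁻¹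
      rw [hy]; group⟩
  have hψu := hψfull ⟨u, hut⟩ h.isB
  have hrep : ∀ x : S ⧸ N, ∃ y, ∃ hy : y ∈ T, x = QuotientGroup.mk ⟨y, hTS hy⟩ := by
    intro x
    induction x using QuotientGroup.induction_on with
    | _ s =>
      obtain ⟨k, hk, hkT⟩ := h.sylow_dec_suz hq hS hTS htS s.2
      set y := k⁻¹ * (s : G) with hy
      rcases hψval ⟨k, hk⟩ with hk1 | hk1
      · refine ⟨y, hkT, (QuotientGroup.eq.mpr ?_).symm⟩
        have h1 := hN.conj_mem _ ⟨⟨k, hk⟩, MonoidHom.mem_ker.mpr hk1, rfl⟩ (⟨y, hTS hkT⟩⁻¹ : S)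
        refine Eq.mp (congrArg (· ∈ N) (Subtype.ext ?_)) h1
        show y⁻¹ * k * y⁻¹⁻¹ = y⁻¹ * (s : G)
        rw [hy]; group
      · refine ⟨u * y, mul_mem h.mem hkT, (QuotientGroup.eq.mpr ?_).symm⟩
        have h0 : (⟨u, hut⟩ : U) * ⟨k, hk⟩ ∈ ψ.ker :=
          MonoidHom.mem_ker.mpr (by rw [map_mul, hψu, hk1, hsq])
        have h1 := hN.conj_mem _ ⟨_, h0, rfl⟩ (⟨y, hTS hkT⟩⁻¹ : S)
        refine Eq.mp (congrArg (· ∈ N) (Subtype.ext ?_)) h1
        show y⁻¹ * (u * k) * y⁻¹⁻¹ = (u * y)⁻¹ * (s : G)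
        rw [show (u * y)⁻¹ = y⁻¹ * u by rw [mul_inv_rev, inv_eq_of_mul_eq_one_right h.isB.1.2], hy]
        group
  letI : CommGroup (S ⧸ N) :=
    { (inferInstance : Group (S ⧸ N)) with
      mul_comm := fun x x' => by
        obtain ⟨y, hy, rfl⟩ := hrep x
        obtain ⟨y', hy', rfl⟩ := hrep x'
        exact congrArg QuotientGroup.mk
          (Subtype.ext (h.sylow_comm_of_two (h.uKer_two_suz hq) hS hTS hy hy')) }
  refine h.false_of_hom hS (QuotientGroup.mk' N) (fun x hx => (QuotientGroup.eq_one_iff _).mpr ?_)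
    (w := QuotientGroup.mk ⟨u, hTS h.mem⟩) (fun e => ?_) ?_ fun x hxB => ?_
  · have hxe := hF.mem_eGrp_of hx (mem_stabilizer_iff.mp (hS.le x.2))
    exact ⟨⟨(x : G), hUe hxe⟩, MonoidHom.mem_ker.mpr (Finset.prod_eq_one fun j _ =>
      (QuotientGroup.eq_one_iff _).mpr (h.conj_eGrp j.2 hxe)), rfl⟩
  · obtain ⟨c, hc, hce⟩ := (QuotientGroup.eq_one_iff _).mp e
    obtain rfl : c = ⟨u, hut⟩ := Subtype.ext (congrArg Subtype.val hce :)
    exact hu1 (hψu ▸ MonoidHom.mem_ker.mp hc)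
  · exact congrArg QuotientGroup.mk (Subtype.ext h.isB.1.2 : (⟨u, hTS h.mem⟩ * ⟨u, hTS h.mem⟩ : S) = 1)
  · have hxU : (x : G) ∈ U := hSK ▸ Subgroup.mem_inf.mpr
      ⟨x.2, hF.isB_mem_kGrp hxB (mem_stabilizer_iff.mp (hS.le x.2))⟩
    refine QuotientGroup.eq.mpr ⟨(⟨(x : G), hxU⟩ : U)⁻¹ * ⟨u, hut⟩, ?_, rfl⟩
    exact MonoidHom.mem_ker.mpr (by rw [map_mul, map_inv, hψfull ⟨(x : G), hxU⟩ hxB, hψu, inv_mul_cancel])

end FCtx

end CfsgLib.Bender.Q
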