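import Cfsg.Agent.Lib.Bender.Q.Full.Unitary
import Cfsg.Agent.Lib.Bender.Q.Full.LinearEnd
import Cfsg.Agent.Lib.Bender.Q.Full.SuzukiEnd

/-!
The full case of theorem Q is impossible.

Blueprint: `blueprint/bender/Q_VI.md`.
-/

set_option autoImplicit false
set_option linter.unusedSectionVars false
set_option linter.style.haveILetI false

universe u

namespace CfsgLib.Bender.Q

open MulAction Cfsg

variable {G Ω : Type u} [Group G] [MulAction G Ω] {Z : Set G} [Finite G] [FaithfulSMul G Ω]

namespace FCtx

/-- There is no full case. -/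
theorem false_full (hF : FCtx G Ω Z) : False := by
  obtain ⟨w, hw⟩ := hF.exists_isB
  obtain ⟨-, a, b, hab, -, -⟩ := hw
  obtain ⟨u, T, h⟩ := hF.exists_std hF.small (Ne.symm hab)
  rcases hF.small_cases hF.small h.isB h.fix_a with hq | hq
  · exact h.false_linear hq
  · exact h.false_suzuki hq

end FCtx

end CfsgLib.Bender.Q
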