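import Cfsg.Agent.Lib.Bender.Q.TwoTrans

/-!
The full case of theorem Q: the standing hypotheses, the group of the members at a point, the full involutions, and
the unique swapper of a moved point centralised by a full involution.

Blueprint: `blueprint/bender/Q_VI.md` 0 and 1.1.
-/

set_option autoImplicit false
set_option linter.unusedSectionVars false
set_option linter.style.haveILetI false

universe u

namespace CfsgLib.Bender.Q

open MulAction
open CfsgLib.Bender.TwoClosed (IsInv two mem_two smul_conj)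

/-- The full case: every involution with two fixed points centralises the members at each of them, and members at
a point commute. -/
structure FCtx (G Ω : Type u) [Group G] [MulAction G Ω] (Z : Set G) : Prop where
  ctx : Ctx G Ω Z
  comm : ∀ y ∈ Z, ∀ z ∈ Z, ∀ c : Ω, y • c = c → z • c = c → y * z = z * y
  full : ∀ u : G, IsB Ω u → Full Ω Z u
  exists_isB : ∃ u : G, IsB Ω u

variable {G Ω : Type u} [Group G] [MulAction G Ω] [Finite G] [FaithfulSMul G Ω] {Z : Set G}

namespace FCtx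

/-- The members at `a` with the identity. -/
def eGrp (hF : FCtx G Ω Z) (a : Ω) : Subgroup G where
  carrier := {x | x = 1 ∨ (x ∈ Z ∧ x • a = a)}
  one_mem' := Or.inl rfl
  mul_mem' := by
    rintro x y (rfl | ⟨hx, hxa⟩) (rfl | ⟨hy, hya⟩)
    · exact Or.inl (one_mul 1)
    · exact Or.inr ⟨by rwa [one_mul], by rwa [one_mul]⟩
    · exact Or.inr ⟨by rwa [mul_one], by rwa [mul_one]⟩
    · by_cases e : x = y
      · exact Or.inl (by rw [e]; exact (hF.ctx.hyp.inv y hy).2)
      · exact Or.inr ⟨prod_mem hF.ctx.hyp hx hy e (hF.comm x hx y hy a hxa hya), by rw [mul_smul, hya, hxa]⟩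
  inv_mem' := by
    rintro x (rfl | ⟨hx, hxa⟩)
    · exact Or.inl inv_one
    · exact Or.inr ⟨by rwa [(hF.ctx.hyp.inv x hx).inv], by rwa [(hF.ctx.hyp.inv x hx).inv]⟩

variable (hF : FCtx G Ω Z)
include hF

theorem mem_eGrp {a : Ω} {x : G} : x ∈ hF.eGrp a ↔ x = 1 ∨ (x ∈ Z ∧ x • a = a) := Iff.rfl

theorem mem_eGrp_of {a : Ω} {x : G} (hx : x ∈ Z) (hxa : x • a = a) : x ∈ hF.eGrp a := Or.inr ⟨hx, hxa⟩

theorem mem_of_mem_eGrp {a : Ω} {x : G} (hx : x ∈ hF.eGrp a) (h1 : x ≠ 1) : x ∈ Z ∧ x • a = a :=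
  (hF.mem_eGrp.mp hx).resolve_left h1

theorem eGrp_fix {a : Ω} {x : G} (hx : x ∈ hF.eGrp a) : x • a = a := by
  rcases hx with rfl | ⟨-, h⟩
  · exact one_smul G a
  · exact h

theorem eGrp_sq {a : Ω} {x : G} (hx : x ∈ hF.eGrp a) : x * x = 1 := by
  rcases hx with rfl | ⟨h, -⟩
  · exact one_mul 1
  · exact (hF.ctx.hyp.inv x h).2

theorem eGrp_comm {a : Ω} {x y : G} (hx : x ∈ hF.eGrp a) (hy : y ∈ hF.eGrp a) : x * y = y * x := by
  rcases hx with rfl | ⟨hx, hxa⟩
  · rw [one_mul, mul_one]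
  rcases hy with rfl | ⟨hy, hya⟩
  · rw [one_mul, mul_one]
  exact hF.comm x hx y hy a hxa hya

theorem eGrp_conj {a : Ω} {g x : G} (hx : x ∈ hF.eGrp a) : g * x * g⁻¹ ∈ hF.eGrp (g • a) := by
  rcases hx with rfl | ⟨hx, hxa⟩
  · exact Or.inl (by group)
  · exact Or.inr ⟨hF.ctx.hyp.conj x hx g, smul_conj hxa⟩

theorem eGrp_semiregular {a : Ω} {x : G} (hx : x ∈ hF.eGrp a) {d : Ω} (hd : x • d = d) (hne : d ≠ a) : x = 1 := by
  by_contra h
  obtain ⟨hxZ, hxa⟩ := hF.mem_of_mem_eGrp hx h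
  exact hne (eq_of_fix hF.ctx.hyp hxZ hd hxa)

theorem card_eGrp (a : Ω) : Nat.card (hF.eGrp a) = Nat.card (MemAt Z a) + 1 := by
  classical
  haveI : Fintype (MemAt Z a) := Fintype.ofFinite _
  rw [Nat.card_eq_fintype_card (α := MemAt Z a), ← Fintype.card_option, ← Nat.card_eq_fintype_card]
  refine Nat.card_congr
    { toFun := fun x => if h : (x : G) = 1 then none else some ⟨x, hF.mem_of_mem_eGrp x.2 h⟩
      invFun := fun o => o.elim 1 fun z => ⟨z.1, hF.mem_eGrp_of z.2.1 z.2.2⟩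
      left_inv := fun x => ?_
      right_inv := fun o => ?_ }
  · by_cases h : (x : G) = 1
    · simp only [dif_pos h, Option.elim]
      exact Subtype.ext h.symm
    · simp only [dif_neg h, Option.elim]
  · cases o with
    | none => simp
    | some z => simp [(hF.ctx.hyp.inv z.1 z.2.1).1]

theorem four_le_card (a : Ω) : 4 ≤ Nat.card (hF.eGrp a) := by
  have h := hF.ctx.two_le_memAt a
  rw [hF.card_eGrp a]
  obtain ⟨k, hk⟩ := odd_memAt hF.ctx.hyp a
  omega

theorem isPGroup_eGrp (a : Ω) : IsPGroup 2 (hF.eGrp a) := fun x => ⟨1, Subtype.ext (by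
  rw [pow_one, pow_two]; exact hF.eGrp_sq x.2)⟩

theorem isB_of_fix_two {x : G} (hx : IsInv x) {c d : Ω} (hne : c ≠ d) (hc : x • c = c) (hd : x • d = d) :
    IsB Ω x := ⟨hx, c, d, hne, hc, hd⟩

theorem isB_or_mem {x : G} (hx : IsInv x) {a : Ω} (hxa : x • a = a) : x ∈ Z ∨ IsB Ω x := by
  by_cases h : ∀ d : Ω, x • d = d → d = a
  · exact Or.inl (mem_of_unique_fix hF.ctx.hyp hx hxa h)
  · push Not at h
    obtain ⟨d, hd, hne⟩ := h
    exact Or.inr (hF.isB_of_fix_two hx (Ne.symm hne) hxa hd)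

theorem isB_not_mem {u : G} (hu : IsB Ω u) : u ∉ Z := fun h => by
  obtain ⟨-, a, b, hab, ha, hb⟩ := hu
  exact hab (eq_of_fix hF.ctx.hyp h ha hb)

/-- An involution fixing a point centralises the members there. -/
theorem commute_eGrp {x : G} (hx : IsInv x) {a : Ω} (hxa : x • a = a) {e : G} (he : e ∈ hF.eGrp a) :
    x * e = e * x := by
  rcases he with rfl | ⟨he, hea⟩
  · rw [one_mul, mul_one]
  rcases hF.isB_or_mem hx hxa with h | h
  · exact hF.comm x h e he a hxa hea
  · exact hF.full x h a hxa e he hea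

theorem exists_isB_fix {a b : Ω} (hb : b ≠ a) : ∃ u : G, IsB Ω u ∧ u • a = a ∧ u • b = b := by
  obtain ⟨u, hu⟩ := hF.exists_isB
  obtain ⟨-, c, d, hne, hc, hd⟩ := id hu
  obtain ⟨g, hg1, hg2⟩ := hF.ctx.two_trans (Ne.symm hne) hb
  exact ⟨g * u * g⁻¹, hu.conj g, hg1 ▸ smul_conj hc, hg2 ▸ smul_conj hd⟩

/-- A member centralised by a full element has a fixed point of it as centre, and only such members are centralised. -/
theorem cent_iff {u : G} (hu : IsB Ω u) {d : G} (hd : d ∈ Z) {p : Ω} (hp : d • p = p) :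
    u * d = d * u ↔ u • p = p :=
  ⟨fun h => commute_fix hF.ctx.hyp hd hp h, fun h => hF.full u hu p h d hd hp⟩

/-- The product of a full element with a member at one of its fixed points is full. -/
theorem isB_mul_eGrp {u : G} (hu : IsB Ω u) {a : Ω} (hua : u • a = a) {e : G} (he : e ∈ hF.eGrp a) :
    IsB Ω (u * e) := by
  have hcomm := hF.commute_eGrp hu.1 hua he
  have hea := hF.eGrp_fix he
  have hinv : IsInv (u * e) := ⟨fun h => hF.isB_not_mem hu ?_, by
    calc u * e * (u * e) = u * (e * u) * e := by group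
      _ = (u * u) * (e * e) := by rw [← hcomm]; group
      _ = 1 := by rw [hu.1.2, hF.eGrp_sq he, one_mul]⟩
  · refine (hF.isB_or_mem hinv (by rw [mul_smul, hea, hua])).resolve_left fun h => hF.isB_not_mem hu ?_
    have h1 : u * e ∈ hF.eGrp a := hF.mem_eGrp_of h (by rw [mul_smul, hea, hua])
    have h2 : u ∈ hF.eGrp a := by simpa using mul_mem h1 (inv_mem he)
    exact (hF.mem_of_mem_eGrp h2 hu.1.1).1
  · have h2 : u ∈ hF.eGrp a := by
      rw [mul_eq_one_iff_eq_inv] at h
      exact h ▸ inv_mem he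
    exact (hF.mem_of_mem_eGrp h2 hu.1.1).1

/-- The product of a full element with a centralised member is full. -/
theorem isB_mul {u : G} (hu : IsB Ω u) {d : G} (hd : d ∈ Z) (hdu : u * d = d * u) : IsB Ω (u * d) := by
  obtain ⟨p, hp⟩ := exists_fix hF.ctx.hyp hd
  exact hF.isB_mul_eGrp hu ((hF.cent_iff hu hd hp).mp hdu) (hF.mem_eGrp_of hd hp)

/-- A moved point of a full element has a unique swapper centralised by it. -/
theorem existsUnique_swap {u : G} (hu : IsB Ω u) {g : Ω} (hg : u • g ≠ g) :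
    ∃! d : G, d ∈ Z ∧ u * d = d * u ∧ d • g = u • g := by
  obtain ⟨d, hd, hdu, hdg⟩ := exists_cent_swap hF.ctx.hyp hu.1 hg
  refine ⟨d, ⟨hd, hdu, hdg⟩, ?_⟩
  rintro d' ⟨hd', hdu', hdg'⟩
  by_contra hne
  have hB : IsB Ω (u * d') := hF.isB_mul hu hd' hdu'
  have hfix : (u * d') • g = g := by rw [mul_smul, hdg', hu.1.smul_twice]
  -- both swappers commute with `u * d'`, hence with each other
  have hsw : ∀ z ∈ Z, z • g = g → (u * d') * z = z * (u * d') := fun z hz hzg => hF.full _ hB g hfix z hz hzg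
  obtain ⟨i, hi, hig⟩ := hF.ctx.hyp.exists_at g
  have hne' : g ≠ u • g := fun e => hg e.symm
  have hconj : (u * d') * d * (u * d')⁻¹ = d := by
    refine swap_unique hF.ctx.hyp hi hig hne' hd (hF.ctx.hyp.conj d hd _) ?_ ?_
    · rw [mul_smul, mul_smul, (hF.ctx.hyp.inv d hd).swap_back hdg, hig, hdg]
    · have hdid : d * i * d ∈ Z := conj_member hF.ctx.hyp hd hi
      have hfix2 : (u * d') • (u • g) = u • g := by
        rw [mul_smul, (hF.ctx.hyp.inv d' hd').swap_back hdg']
      have h1 : (u * d') * i = i * (u * d') := hsw i hi hig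
      have h2 : (u * d') * (d * i * d) = (d * i * d) * (u * d') :=
        hF.full _ hB _ hfix2 _ hdid (by rw [mul_smul, mul_smul, (hF.ctx.hyp.inv d hd).swap_back hdg, hig, hdg])
      calc (u * d') * d * (u * d')⁻¹ * i * ((u * d') * d * (u * d')⁻¹)
          = (u * d') * d * ((u * d')⁻¹ * i * (u * d')) * d * (u * d')⁻¹ := by group
        _ = (u * d') * (d * i * d) * (u * d')⁻¹ := by rw [mul_assoc (u * d')⁻¹, ← h1]; group
        _ = d * i * d := by rw [h2, mul_inv_cancel_right]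
  have hdd : d' * d = d * d' := by
    have h1 := mul_inv_eq_iff_eq_mul.mp hconj
    rw [mul_assoc, ← mul_assoc d u, ← hdu, mul_assoc] at h1
    exact mul_left_cancel h1
  have hdc : IsInv d := hF.ctx.hyp.inv d hd
  have hm : d' * d ∈ Z := prod_mem hF.ctx.hyp hd' hd hne hdd
  have hmg : (d' * d) • g = g := by
    rw [mul_smul, hdg, ← hdg', (hF.ctx.hyp.inv d' hd').smul_twice]
  obtain ⟨p, hp⟩ := exists_fix hF.ctx.hyp hd
  have h := eq_point_of_commute hF.ctx.hyp hd hm (by rw [← mul_assoc, ← hdd]) hp hmg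
  exact hg (by rw [← hdg, ← h, hp, h])

end FCtx

end CfsgLib.Bender.Q
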