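import Cfsg.Agent.Lib.Bender.Q.Full.Torus

/-!
The count: all full involutions fix the same number `f + 1` of points, `f` is `q`, `q ^ 2` or `q ^ 3`, and there are
`1 + f * (f * (q - 1) + q)` points.  The kernel on the members centralises the torus.

Blueprint: `blueprint/bender/Q_VI.md` 1.
-/

set_option autoImplicit false
set_option linter.unusedSectionVars false
set_option linter.style.haveILetI false

universe u

namespace CfsgLib.Bender.Q

open MulAction Cfsg
open CfsgLib.Bender.TwoClosed (IsInv two mem_two smul_conj)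

variable {G Ω : Type u} [Group G] [MulAction G Ω] {Z : Set G}

/-- The number of fixed points. -/
noncomputable def fixCard (Ω : Type u) [MulAction G Ω] (u : G) : ℕ := {c : Ω | u • c = c}.ncard

theorem fixCard_conj (g u : G) : fixCard Ω (g * u * g⁻¹) = fixCard Ω u := by
  rw [fixCard, fixCard, ← Set.ncard_image_of_injective {c : Ω | u • c = c} (MulAction.injective g)]
  congr 1
  ext c
  constructor
  · intro hc
    refine ⟨g⁻¹ • c, ?_, smul_inv_smul g c⟩
    simp only [Set.mem_setOf_eq, mul_smul] at hc ⊢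
    calc u • g⁻¹ • c = g⁻¹ • g • u • g⁻¹ • c := (inv_smul_smul g _).symm
      _ = g⁻¹ • c := by rw [hc]
  · rintro ⟨d, hd, rfl⟩
    exact smul_conj hd

variable [Finite G] [FaithfulSMul G Ω]

namespace FCtx

variable (hF : FCtx G Ω Z)
include hF

theorem card_eGrp_eq (a b : Ω) : Nat.card (hF.eGrp a) = Nat.card (hF.eGrp b) := by
  rw [hF.card_eGrp a, hF.card_eGrp b, card_memAt_eq hF.ctx.hyp a b]

theorem fixCard_cases {u : G} (hu : IsB Ω u) {a : Ω} (ha : u • a = a) :
    fixCard Ω u = Nat.card (hF.eGrp a) + 1 ∨ fixCard Ω u = Nat.card (hF.eGrp a) ^ 2 + 1 ∨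
      fixCard Ω u = Nat.card (hF.eGrp a) ^ 3 + 1 := by
  rw [← hF.eAt_eq_card hu ha]
  exact (card_fix_cases hF.ctx hu (hF.four_cent hu) ha).2

theorem two_le_fixCard {u : G} (hu : IsB Ω u) : 2 ≤ fixCard Ω u := by
  haveI := finite_points hF.ctx.hyp
  obtain ⟨-, a, b, hab, ha, hb⟩ := id hu
  exact (Set.one_lt_ncard (Set.toFinite _)).mpr ⟨a, ha, b, hb, hab⟩

/-- The points are the fixed points of `u` and, off them, those of the products with the members commuting with it. -/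
theorem card_points {u : G} (hu : IsB Ω u) {a : Ω} (ha : u • a = a) {e : G} (he : e ∈ hF.eGrp a) (he1 : e ≠ 1) :
    Nat.card Ω = fixCard Ω u + fixCard Ω u * Nat.card (MemAt Z a) * (fixCard Ω (u * e) - 1) := by
  classical
  haveI := finite_points hF.ctx.hyp
  have hQ := hF.ctx.hyp
  let D := {d : G // d ∈ Z ∧ u * d = d * u}
  let M := {g : Ω // u • g ≠ g}
  have hex : ∀ g : M, ∃! d : G, d ∈ Z ∧ u * d = d * u ∧ d • g.1 = u • g.1 := fun g => hF.existsUnique_swap hu g.2
  let Φ : M → D := fun g => ⟨(hex g).exists.choose, (hex g).exists.choose_spec.1, (hex g).exists.choose_spec.2.1⟩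
  have hΦ : ∀ (g : M) (d : D), Φ g = d ↔ (u * d.1) • g.1 = g.1 := by
    intro g d
    have hs := (hex g).exists.choose_spec
    constructor
    · rintro rfl
      rw [mul_smul, hs.2.2, hu.1.smul_twice]
    · intro h
      refine Subtype.ext ((hex g).unique hs ⟨d.2.1, d.2.2, ?_⟩)
      conv_rhs => rw [← h, mul_smul, hu.1.smul_twice]
  have hfib : ∀ d : D, Nat.card {g : M // Φ g = d} = fixCard Ω (u * e) - 1 := by
    intro d
    obtain ⟨p, hp⟩ := exists_fix hQ d.2.1
    have hpu := (hF.cent_iff hu d.2.1 hp).mp d.2.2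
    have hpd : (u * d.1) • p = p := by rw [mul_smul, hp, hpu]
    obtain ⟨heZ, hea⟩ := hF.mem_of_mem_eGrp he he1
    obtain ⟨-, x, y, hxy, hx, hy⟩ := id hu
    obtain ⟨g, hgu, hge⟩ := exists_conj_cent hQ hu.1 hxy hx hy heZ ((hF.cent_iff hu heZ hea).mpr ha) d.2.1 d.2.2
    have hcard : fixCard Ω (u * d.1) = fixCard Ω (u * e) := by
      rw [← fixCard_conj g (u * e)]
      congr 1
      calc u * d.1 = (g * u * g⁻¹) * (g * e * g⁻¹) := by rw [hge, ← hgu, mul_inv_cancel_right]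
        _ = g * (u * e) * g⁻¹ := conj_mul
    rw [← hcard, fixCard, ← Set.ncard_diff_singleton_of_mem (s := {c : Ω | (u * d.1) • c = c}) hpd,
      ← Nat.card_coe_set_eq]
    refine Nat.card_congr
      { toFun := fun g => ⟨g.1.1, (hΦ g.1 d).mp g.2, fun e' => g.1.2 (by
          rw [show g.1.1 = p from e', hpu])⟩
        invFun := fun g => ⟨⟨g.1, fun e' => g.2.2 ?_⟩, (hΦ _ d).mpr g.2.1⟩
        left_inv := fun g => rfl
        right_inv := fun g => rfl }
    have h : (u * d.1) • (g : Ω) = g := g.2.1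
    exact eq_of_fix hQ d.2.1 (smul_left_cancel u ((mul_smul u d.1 (g : Ω)).symm.trans (h.trans e'.symm))) hp
  have hM : Nat.card M = Nat.card D * (fixCard Ω (u * e) - 1) := by
    haveI := Fintype.ofFinite D
    rw [← Nat.card_congr (Equiv.sigmaFiberEquiv Φ), Nat.card_sigma, Finset.sum_congr rfl (fun d _ => hfib d),
      Finset.sum_const, Finset.card_univ, smul_eq_mul, Nat.card_eq_fintype_card]
  have hD : Nat.card D = fixCard Ω u * Nat.card (MemAt Z a) := by
    let S := {c : Ω // u • c = c}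
    haveI := Fintype.ofFinite S
    have e1 : D ≃ (Σ p : S, MemAt Z p.1) :=
      { toFun := fun d => ⟨⟨(exists_fix hQ d.2.1).choose,
          (hF.cent_iff hu d.2.1 (exists_fix hQ d.2.1).choose_spec).mp d.2.2⟩,
          d.1, d.2.1, (exists_fix hQ d.2.1).choose_spec⟩
        invFun := fun x => ⟨x.2.1, x.2.2.1, (hF.cent_iff hu x.2.2.1 x.2.2.2).mpr x.1.2⟩
        left_inv := fun d => rfl
        right_inv := fun ⟨⟨p, hpu⟩, ⟨d, hd, hdp⟩⟩ => by
          obtain rfl : (exists_fix hQ hd).choose = p := eq_of_fix hQ hd (exists_fix hQ hd).choose_spec hdp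
          rfl }
    rw [Nat.card_congr e1, Nat.card_sigma, Finset.sum_congr rfl (fun p _ => card_memAt_eq hQ p.1 a),
      Finset.sum_const, Finset.card_univ, smul_eq_mul, ← Nat.card_eq_fintype_card]
    rfl
  rw [← hD, ← hM, ← Set.ncard_add_ncard_compl {c : Ω | u • c = c}]
  rfl

theorem exists_mem_eGrp_ne_one (a : Ω) : ∃ e ∈ hF.eGrp a, e ≠ 1 := by
  obtain ⟨i, hi, hia⟩ := hF.ctx.hyp.exists_at a
  exact ⟨i, hF.mem_eGrp_of hi hia, (hF.ctx.hyp.inv i hi).1⟩

theorem card_points_self {u : G} (hu : IsB Ω u) {a : Ω} (ha : u • a = a) :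
    Nat.card Ω = fixCard Ω u + fixCard Ω u * Nat.card (MemAt Z a) * (fixCard Ω u - 1) := by
  obtain ⟨e, he, he1⟩ := hF.exists_mem_eGrp_ne_one a
  have hB := hF.isB_mul_eGrp hu ha he
  have hBa : (u * e) • a = a := by rw [mul_smul, hF.eGrp_fix he, ha]
  have h1 := hF.card_points hu ha he he1
  have h2 := hF.card_points hB hBa he he1
  rw [mul_assoc u, hF.eGrp_sq he, mul_one] at h2
  have hm := hF.ctx.two_le_memAt a
  have hA := hF.two_le_fixCard hu
  have hB' := hF.two_le_fixCard hB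
  revert h1 h2 hA hB'
  generalize fixCard Ω u = A
  generalize fixCard Ω (u * e) = B
  generalize Nat.card (MemAt Z a) = m at hm ⊢
  intro h1 h2 hA hB'
  suffices hAB : A = B by rw [← hAB] at h1; exact h1
  obtain ⟨A', rfl⟩ : ∃ k, A = k + 1 := ⟨A - 1, by omega⟩
  obtain ⟨B', rfl⟩ : ∃ k, B = k + 1 := ⟨B - 1, by omega⟩
  rw [Nat.add_sub_cancel] at h1 h2
  have h : (A' : ℤ) + 1 + (A' + 1) * m * B' = B' + 1 + (B' + 1) * m * A' := by exact_mod_cast h1.symm.trans h2
  have hz : ((A' : ℤ) - B') * (1 - m) = 0 := by linear_combination h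
  rcases mul_eq_zero.mp hz with h3 | h3 <;> omega

/-- All full involutions fix the same number of points. -/
theorem fixCard_eq {u v : G} (hu : IsB Ω u) (hv : IsB Ω v) : fixCard Ω u = fixCard Ω v := by
  obtain ⟨-, a, -, -, ha, -⟩ := id hu
  obtain ⟨-, b, -, -, hb, -⟩ := id hv
  have h1 := hF.card_points_self hu ha
  have h2 := hF.card_points_self hv hb
  rw [card_memAt_eq hF.ctx.hyp b a] at h2
  have hm := hF.ctx.two_le_memAt a
  have hA := hF.two_le_fixCard hu
  have hB := hF.two_le_fixCard hv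
  by_contra hne
  rcases lt_or_gt_of_ne hne with h | h
  · have : fixCard Ω u * Nat.card (MemAt Z a) * (fixCard Ω u - 1) ≤
        fixCard Ω v * Nat.card (MemAt Z a) * (fixCard Ω v - 1) :=
      Nat.mul_le_mul (Nat.mul_le_mul h.le le_rfl) (by omega)
    omega
  · have : fixCard Ω v * Nat.card (MemAt Z a) * (fixCard Ω v - 1) ≤
        fixCard Ω u * Nat.card (MemAt Z a) * (fixCard Ω u - 1) :=
      Nat.mul_le_mul (Nat.mul_le_mul h.le le_rfl) (by omega)
    omega

/-- The number `f` and the number of points. -/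
theorem exists_f (a : Ω) : ∃ f : ℕ, (f = Nat.card (hF.eGrp a) ∨ f = Nat.card (hF.eGrp a) ^ 2 ∨
      f = Nat.card (hF.eGrp a) ^ 3) ∧ (∀ u : G, IsB Ω u → fixCard Ω u = f + 1) ∧
      Nat.card Ω = f * (f * (Nat.card (hF.eGrp a) - 1) + Nat.card (hF.eGrp a)) + 1 := by
  obtain ⟨b, hb⟩ := exists_ne_point hF.ctx.hyp a
  obtain ⟨u, hu, hua, -⟩ := hF.exists_isB_fix hb
  refine ⟨fixCard Ω u - 1, ?_, fun v hv => ?_, ?_⟩
  · rcases hF.fixCard_cases hu hua with h | h | h <;> rw [h, Nat.add_sub_cancel]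
    · exact Or.inl rfl
    · exact Or.inr (Or.inl rfl)
    · exact Or.inr (Or.inr rfl)
  · have := hF.two_le_fixCard hu
    have := hF.fixCard_eq hu hv
    omega
  · have h := hF.card_points_self hu hua
    obtain ⟨k, hk⟩ : ∃ k, fixCard Ω u = k + 1 := ⟨_, (Nat.sub_add_cancel (by
      have := hF.two_le_fixCard hu; omega : 1 ≤ fixCard Ω u)).symm⟩
    rw [h, hk, hF.card_eGrp a, Nat.add_sub_cancel, Nat.add_sub_cancel]
    ring

/-- A fixed point of a full involution and of its product with a member there is that point. -/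
theorem eq_of_fix_both {u : G} {a : Ω} {e : G} (he : e ∈ hF.eGrp a) (he1 : e ≠ 1) {g : Ω} (h : u • g = g)
    (h' : (u * e) • g = g) : g = a := by
  by_contra hne
  refine he1 (hF.eGrp_semiregular he ?_ hne)
  rw [mul_smul] at h'
  exact smul_left_cancel u (h'.trans h.symm)

/-- The elements fixing `a` and centralising the members there. -/
def kGrp (a : Ω) : Subgroup G := stabilizer G a ⊓ Subgroup.centralizer (hF.eGrp a : Set G)

theorem mem_kGrp {a : Ω} {x : G} : x ∈ hF.kGrp a ↔ x • a = a ∧ ∀ e ∈ hF.eGrp a, e * x = x * e :=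
  Iff.trans Subgroup.mem_inf (and_congr mem_stabilizer_iff Subgroup.mem_centralizer_iff)

theorem kGrp_normal {a : Ω} {g x : G} (hg : g • a = a) (hx : x ∈ hF.kGrp a) : g * x * g⁻¹ ∈ hF.kGrp a := by
  obtain ⟨hxa, hxe⟩ := hF.mem_kGrp.mp hx
  refine hF.mem_kGrp.mpr ⟨by rw [mul_smul, mul_smul, inv_smul_eq_iff.mpr hg.symm, hxa, hg], fun e he => ?_⟩
  have h1 := hF.eGrp_conj (g := g⁻¹) he
  rw [inv_smul_eq_iff.mpr hg.symm] at h1
  calc e * (g * x * g⁻¹) = g * ((g⁻¹ * e * g⁻¹⁻¹) * x) * g⁻¹ := by group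
    _ = g * (x * (g⁻¹ * e * g⁻¹⁻¹)) * g⁻¹ := by rw [hxe _ h1]
    _ = g * x * g⁻¹ * e := by group

theorem isB_mem_kGrp {u : G} (hu : IsB Ω u) {a : Ω} (ha : u • a = a) : u ∈ hF.kGrp a :=
  hF.mem_kGrp.mpr ⟨ha, fun _ he => (hF.commute_eGrp hu.1 ha he).symm⟩

theorem eGrp_le_kGrp (a : Ω) : hF.eGrp a ≤ hF.kGrp a := fun _ hx =>
  hF.mem_kGrp.mpr ⟨hF.eGrp_fix hx, fun _ he => hF.eGrp_comm he hx⟩

/-- The kernel on the members centralises the torus. -/
theorem commute_kGrp_jGrp {a b : Ω} (hba : b ≠ a) {x : G} (hx : x ∈ hF.kGrp a) (hxb : x • b = b) {j : G}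
    (hj : j ∈ jGrp Z a b) : x * j = j * x := by
  obtain ⟨hxa, hxe⟩ := hF.mem_kGrp.mp hx
  obtain ⟨hja, hjb⟩ := hF.jGrp_fix hba hj
  have hmem : x * j * x⁻¹ * j⁻¹ ∈ jGrp Z a b :=
    Subgroup.mul_mem _ (hF.jGrp_normal (mem_two.mpr ⟨hxa, hxb⟩) hj) (inv_mem hj)
  obtain ⟨e, he, he1⟩ := hF.exists_mem_eGrp_ne_one a
  have hK : x * j * x⁻¹ * j⁻¹ ∈ hF.kGrp a := by
    rw [show x * j * x⁻¹ * j⁻¹ = x * (j * x⁻¹ * j⁻¹) by group]
    exact Subgroup.mul_mem _ hx (hF.kGrp_normal hja (inv_mem hx))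
  have h := hF.jGrp_free hba hmem he he1 ((hF.mem_kGrp.mp hK).2 e he).symm
  rwa [mul_inv_eq_one, mul_inv_eq_iff_eq_mul] at h

end FCtx

end CfsgLib.Bender.Q
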