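import Cfsg.Agent.Lib.Bender.Q.Full.Scalar

/-!
The kernel at the point acts on the kernels by translations: by none or by all of them, and a translation moves
every element of the kernel of the full involution by its match.

Blueprint: `blueprint/bender/Q_VI.md` 3.1, 3.3.
-/

set_option autoImplicit false
set_option linter.unusedSectionVars false
set_option linter.style.haveILetI false

universe u

namespace CfsgLib.Bender.Q

open MulAction Cfsg
open CfsgLib.Bender.TwoClosed (IsInv two mem_two smul_conj MaxP mem_normalizer_of_conj conj_mem_of_normalizer)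

variable {G Ω : Type u} [Group G] [MulAction G Ω] {Z : Set G} [Finite G] [FaithfulSMul G Ω]

namespace FCtx

variable {hF : FCtx G Ω Z} {u : G} {a b : Ω} {T : Subgroup G} (h : hF.Std u a b T)
include h

/-- An element of the torus other than the identity gives every member as a commutator. -/
theorem Std.exists_jGrp_comm {j d : G} (hj : j ∈ jGrp Z a b) (hj1 : j ≠ 1) (hd : d ∈ hF.eGrp a) :
    ∃ x ∈ hF.eGrp a, j * x * j⁻¹ * x = d := by
  obtain ⟨⟨x, hx⟩, he⟩ := (Finite.injective_iff_surjective (f := fun x : hF.eGrp a =>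
    (⟨j * x * j⁻¹ * x, mul_mem (h.conj_eGrp hj x.2) x.2⟩ : hF.eGrp a))).mp (fun x y hxy => by
      by_contra hne
      have h1 : j * x * j⁻¹ * x = j * y * j⁻¹ * y := congrArg Subtype.val hxy
      have hne1 : (x : G) * y ≠ 1 := fun e' => hne (Subtype.ext (by
        rw [mul_eq_one_iff_eq_inv.mp e', inv_eq_of_mul_eq_one_right (hF.eGrp_sq y.2)]))
      have hJy := h.conj_eGrp hj y.2
      refine hj1 (hF.jGrp_free h.ne hj (mul_mem x.2 y.2) hne1 (mul_inv_eq_iff_eq_mul.mp ?_))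
      calc j * ((x : G) * y) * j⁻¹ = (j * x * j⁻¹) * (j * y * j⁻¹) := by group
        _ = (j * y * j⁻¹ * y) * (x : G)⁻¹ * (j * y * j⁻¹) := by rw [← h1, mul_inv_cancel_right]
        _ = (j * y * j⁻¹) * (j * y * j⁻¹) * ((y : G) * x) := by
            rw [inv_eq_of_mul_eq_one_right (hF.eGrp_sq x.2), mul_assoc (j * (y : G) * j⁻¹) y,
              mul_assoc (j * (y : G) * j⁻¹), hF.eGrp_comm (mul_mem y.2 x.2) hJy, mul_assoc (j * (y : G) * j⁻¹)]
        _ = (x : G) * y := by rw [hF.eGrp_sq hJy, one_mul, hF.eGrp_comm y.2 x.2]) ⟨d, hd⟩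
  exact ⟨x, hx, congrArg Subtype.val he⟩

/-- The kernel at the point translates the kernels. -/
theorem Std.tGrp_eq : hF.tGrp u a = hF.nGrp u a ⊓ hF.kGrp a := by
  refine le_antisymm (fun g hg => (h.mem_tGrp.mp hg).1) fun g hg => ?_
  obtain ⟨v, d, j, -, -, hd, hj, -, hmap⟩ := h.exists_data hg.1
  have hgx : ∀ {x : G}, x ∈ hF.eGrp a → g * x * g⁻¹ = x := fun hx => by
    rw [← (hF.mem_kGrp.mp hg.2).2 _ hx, mul_inv_cancel_right]
  have hj1 : j = 1 := by
    by_contra hj1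
    obtain ⟨x0, hx0, hx0e⟩ := h.exists_jGrp_comm hj.1 hj1 hd
    have hfix : Maps Ω u g x0 x0 := by
      have h1 := (hmap x0 hx0).2
      rwa [hgx hx0, ← hx0e, mul_assoc (j * x0 * j⁻¹), hF.eGrp_sq hx0, mul_one,
        show j⁻¹ * (j * x0 * j⁻¹) * j = x0 by group] at h1
    obtain ⟨g0, hg0, hg0m⟩ := h.exists_maps_one hx0
    have hmem := h.mem_uGrp_of_fix (g := g0⁻¹ * g * g0)
      (Subgroup.mul_mem _ (Subgroup.mul_mem _ (inv_mem hg0) hg.1) hg0)
      (by have := hF.kGrp_normal (hF.mem_nGrp.mp (inv_mem hg0)).1 hg.2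
          rwa [inv_inv] at this)
      (by rw [mul_assoc g0⁻¹]; exact (hg0m.mul hfix).mul hg0m.inv)
    have htriv : ∀ x ∈ hF.eGrp a, Maps Ω u g x x := fun x hx => by
      obtain ⟨w, ⟨hw, hwm⟩, -⟩ := h.exists_maps (inv_mem hg0) hx
      have h1 := (hwm.mul (h.maps_uGrp hmem hw)).mul hwm.inv
      rwa [show g0⁻¹⁻¹ * (g0⁻¹ * g * g0 * g0⁻¹) = g by group] at h1
    have hd1 : d = 1 := by
      have h1 := h.maps_unique (hmap 1 (one_mem _)).1 (one_mem _) (hmap 1 (one_mem _)).2 (htriv 1 (one_mem _))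
      rw [hgx (one_mem _), mul_one] at h1
      calc d = j * (j⁻¹ * d * j) * j⁻¹ := by group
        _ = 1 := by rw [h1, mul_one, mul_inv_cancel]
    obtain ⟨e, he, he1⟩ := hF.exists_mem_eGrp_ne_one a
    have h1 := h.maps_unique (hmap e he).1 he (hmap e he).2 (htriv e he)
    rw [hgx he, hd1, one_mul] at h1
    exact hj1 (hF.jGrp_free h.ne hj.1 he he1 (by
      calc j * e = j * (j⁻¹ * e * j) := by rw [h1]
        _ = e * j := by group))
  refine h.mem_tGrp.mpr ⟨hg, d, hd, fun x hx => ?_⟩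
  have h1 := (hmap x hx).2
  rwa [hgx hx, hj1, inv_one, one_mul, mul_one] at h1

theorem Std.tGrp_conj {g x : G} (hg : g ∈ hF.nGrp u a) (hx : x ∈ hF.tGrp u a) : g * x * g⁻¹ ∈ hF.tGrp u a := by
  rw [h.tGrp_eq] at hx ⊢
  exact ⟨Subgroup.mul_mem _ (Subgroup.mul_mem _ hg hx.1) (inv_mem hg),
    hF.kGrp_normal (hF.mem_nGrp.mp hg).1 hx.2⟩

theorem Std.nGrp_le_normalizer : hF.nGrp u a ≤ Subgroup.normalizer (hF.tGrp u a : Set G) := fun _ hg =>
  mem_normalizer_of_conj fun _ hx => h.tGrp_conj hg hx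

/-- Either the kernel translates nothing or by every member. -/
theorem Std.translations : hF.tGrp u a = hF.uGrp u a ∨
    ∀ y ∈ hF.eGrp a, ∃ g ∈ hF.tGrp u a, ∀ x ∈ hF.eGrp a, Maps Ω u g x (y * x) := by
  by_cases hall : ∀ g ∈ hF.tGrp u a, Maps Ω u g 1 1
  · refine Or.inl (le_antisymm (fun g hg => ?_) h.uGrp_le_tGrp)
    obtain ⟨hgK, -⟩ := h.mem_tGrp.mp hg
    exact h.mem_uGrp_of_fix hgK.1 hgK.2 (hall g hg)
  push Not at hall
  obtain ⟨g, hg, hg1⟩ := hall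
  obtain ⟨-, m, hm, hmap⟩ := h.mem_tGrp.mp hg
  have hm1 : m ≠ 1 := fun e => hg1 (by
    have := hmap 1 (one_mem _)
    rwa [e, one_mul] at this)
  refine Or.inr fun y hy => ?_
  by_cases hy1 : y = 1
  · exact ⟨1, one_mem _, fun x hx => by rw [hy1, one_mul]; exact h.maps_uGrp (one_mem _) hx⟩
  obtain ⟨j, hj, rfl⟩ := hF.exists_jGrp_eq h.ne hm hm1 hy hy1
  refine ⟨j * g * j⁻¹, h.tGrp_conj (h.jGrp_le_nGrp hj) hg, fun x hx => ?_⟩
  have hx' : j⁻¹ * x * j⁻¹⁻¹ ∈ hF.eGrp a := h.conj_eGrp (inv_mem hj) hx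
  have h1 := ((h.maps_jGrp (x := x) (inv_mem hj)).mul (hmap _ hx')).mul
    (h.maps_jGrp (x := m * (j⁻¹ * x * j⁻¹⁻¹)) hj)
  rw [← mul_assoc] at h1
  rwa [show j * (m * (j⁻¹ * x * j⁻¹⁻¹)) * j⁻¹ = j * m * j⁻¹ * x by group] at h1

theorem Std.trans_unique {g m m' : G} (hm : m ∈ hF.eGrp a) (hm' : m' ∈ hF.eGrp a)
    (h1 : Maps Ω u g 1 m) (h2 : ∀ x ∈ hF.eGrp a, Maps Ω u g x (m' * x)) : m = m' := by
  have h3 := h2 1 (one_mem _)
  rw [mul_one] at h3
  exact h.maps_unique hm hm' h1 h3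

/-- With all translations the kernel normalising the centraliser has `q` cosets of it. -/
theorem Std.card_tGrp (hall : ∀ y ∈ hF.eGrp a, ∃ g ∈ hF.tGrp u a, ∀ x ∈ hF.eGrp a, Maps Ω u g x (y * x)) :
    Nat.card (hF.tGrp u a) = Nat.card (hF.eGrp a) * Nat.card (hF.uGrp u a) := by
  set U := (hF.uGrp u a).subgroupOf (hF.tGrp u a) with hU
  rw [Subgroup.card_eq_card_quotient_mul_card_subgroup U,
    Nat.card_congr (Subgroup.subgroupOfEquivOfLe h.uGrp_le_tGrp).toEquiv]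
  congr 1
  choose g hg hgm using hall
  refine (Nat.card_eq_of_bijective
    (fun y : hF.eGrp a => (QuotientGroup.mk ⟨g y y.2, hg y y.2⟩ : hF.tGrp u a ⧸ U)) ⟨?_, ?_⟩).symm
  · intro y z hyz
    rw [QuotientGroup.eq] at hyz
    have h1 : (g y y.2)⁻¹ * g z z.2 ∈ hF.uGrp u a := hyz
    have h2 := (h.maps_uGrp h1 (one_mem _)).mul (hgm y y.2 1 (one_mem _))
    rw [mul_inv_cancel_left, mul_one] at h2
    exact (Subtype.ext (h.trans_unique y.2 z.2 h2 (hgm z z.2)))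
  · intro q
    induction q using QuotientGroup.induction_on with
    | _ w =>
      obtain ⟨hwK, m, hm, hwm⟩ := h.mem_tGrp.mp w.2
      refine ⟨⟨m, hm⟩, QuotientGroup.eq.mpr ?_⟩
      show (g m hm)⁻¹ * (w : G) ∈ hF.uGrp u a
      have hgK := (h.mem_tGrp.mp (hg m hm)).1
      refine h.mem_uGrp_of_fix (Subgroup.mul_mem _ (inv_mem hgK.1) hwK.1)
        (Subgroup.mul_mem _ (inv_mem hgK.2) hwK.2) ?_
      have h1 := hwm 1 (one_mem _)
      have h2 := (hgm m hm 1 (one_mem _)).inv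
      exact h1.mul h2

/-- A translation moves each element of the kernel by its match. -/
theorem Std.tGrp_conj_uKer {y m v j : G} (hy : y ∈ hF.tGrp u a) (hm : m ∈ hF.eGrp a)
    (hmap : ∀ x ∈ hF.eGrp a, Maps Ω u y x (m * x)) (hv : v ∈ hF.uKer u a) (hv1 : v ≠ 1) (hj : h.Par v j) :
    y * v * y⁻¹ = v * (j * m * j⁻¹) := by
  obtain ⟨⟨hyN, hyK⟩, -⟩ := h.mem_tGrp.mp hy
  obtain ⟨hB, -, -⟩ := h.isB_of_mem hv hv1
  obtain ⟨e', he', v', hv', hv1', he⟩ := h.exists_mul (hB.conj y)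
    (conj_mem_of_normalizer (hF.mem_nGrp.mp hyN).2 (hF.uKer_le hv))
  obtain ⟨j', hj'⟩ := h.exists_par hv' hv1'
  have hkey : ∀ x ∈ hF.eGrp a, j'⁻¹ * (e' * (j * x * j⁻¹)) * j' = m * x := by
    intro x hx
    have hx' : j'⁻¹ * (e' * (j * x * j⁻¹)) * j' ∈ hF.eGrp a := by
      have h1 := h.conj_eGrp (inv_mem hj'.1) (mul_mem he' (h.conj_eGrp hj.1 hx))
      rwa [inv_inv] at h1
    refine h.maps_unique hx' (mul_mem hm hx) ?_ (hmap x hx)
    have h1 := h.fix_eq hv' hv1' hj' hx'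
    have h2 := h.fix_eq hv hv1 hj hx
    have hconj : y * (v * (j * x * j⁻¹)) * y⁻¹ =
        v' * (j' * (j'⁻¹ * (e' * (j * x * j⁻¹)) * j') * j'⁻¹) := by
      rw [← conj_mul, he, ← (hF.mem_kGrp.mp hyK).2 _ (h.conj_eGrp hj.1 hx), mul_inv_cancel_right]
      group
    have key : ∀ (k y : G) (c : Ω), (k * y * k⁻¹) • c = c ↔ y • k⁻¹ • c = k⁻¹ • c := fun k y c => by
      rw [mul_smul, mul_smul, eq_inv_smul_iff]
    rw [Maps, ← h1, ← hconj]
    ext c
    show (y * (u * x) * y⁻¹) • c = c ↔ (y * (v * (j * x * j⁻¹)) * y⁻¹) • c = c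
    rw [key, key]
    exact (Iff.of_eq (congrArg (fun S : Set Ω => y⁻¹ • c ∈ S) h2)).symm
  have hem : e' = j' * m * j'⁻¹ := by
    have h1 := hkey 1 (one_mem _)
    rw [mul_one, mul_inv_cancel, mul_one, mul_one] at h1
    rw [← h1]
    group
  have hjj : j = j' := by
    obtain ⟨x, hx, hx1⟩ := hF.exists_mem_eGrp_ne_one a
    have h1 := hkey x hx
    rw [hem, show j'⁻¹ * (j' * m * j'⁻¹ * (j * x * j⁻¹)) * j' = m * (j'⁻¹ * (j * x * j⁻¹) * j') by group] at h1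
    refine hF.jGrp_conj_inj h.ne hj.1 hj'.1 hx hx1 ?_
    calc j * x * j⁻¹ = j' * (j'⁻¹ * (j * x * j⁻¹) * j') * j'⁻¹ := by group
      _ = j' * x * j'⁻¹ := by rw [mul_left_cancel h1]
  rw [he, hem, h.par_inj hv' hv hj' (hjj ▸ hj), hjj]

end FCtx

end CfsgLib.Bender.Q
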