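import Mathlib

/-!
A fixed-point-free abelian group of automorphisms of a group of automorphisms of odd order forces dimension: if
`R` has no fixed vector, `J` acts on `R` without fixed points and fixes one vector only, then there are at least
`2 ^ |J|` vectors, and with equality the elements of `R` have order dividing `2 ^ |J| - 1`.

Blueprint: `blueprint/bender/Q_VI.md` 6.
-/

set_option autoImplicit false
set_option linter.unusedSectionVars false
set_option linter.style.haveILetI false

universe u v

namespace CfsgLib.Bender.Q.Frob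

variable {B : Type u} [CommRing B] [Finite B]

/-- Distinct homomorphisms into a field are at most as many as the dimension. -/
theorem card_le_finrank [Module (ZMod 2) B] {L : Type v} [Field L] [Finite L] {ι : Type*} [Finite ι]
    (f : ι → B →+* L) (hf : Function.Injective f) : Nat.card ι ≤ Module.finrank (ZMod 2) B := by
  classical
  haveI : Fact (Nat.Prime 2) := ⟨Nat.prime_two⟩
  haveI : Module.Finite (ZMod 2) B := Module.Finite.of_finite
  haveI := Fintype.ofFinite ι
  let b := Module.finBasis (ZMod 2) B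
  let Φ : (ι → L) → (Fin (Module.finrank (ZMod 2) B) → L) := fun c k => ∑ i, c i * f i (b k)
  have hinj : Function.Injective Φ := by
    intro c c' hcc
    have hli : LinearIndependent L (fun i => ((f i : B →* L) : B → L)) :=
      (linearIndependent_monoidHom B L).comp (fun i => (f i : B →* L)) fun i i' e =>
        hf (RingHom.ext fun x => DFunLike.congr_fun e x)
    have h0 : ∑ i, (c i - c' i) • ((f i : B →* L) : B → L) = 0 := by
      funext x
      rw [Finset.sum_apply]
      let S : AddSubgroup B :=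
        { carrier := {x | ∑ i, (c i - c' i) * f i x = 0}
          add_mem' := fun {x y} hx hy => by
            simp only [Set.mem_setOf_eq, map_add, mul_add, Finset.sum_add_distrib] at hx hy ⊢
            rw [hx, hy, add_zero]
          zero_mem' := by simp
          neg_mem' := fun {x} hx => by
            simp only [Set.mem_setOf_eq, map_neg, mul_neg, Finset.sum_neg_distrib] at hx ⊢
            rw [hx, neg_zero] }
      have hle : Submodule.span (ZMod 2) (Set.range b) ≤ AddSubgroup.toZModSubmodule 2 S :=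
        Submodule.span_le.mpr (by
          rintro _ ⟨k, rfl⟩
          show ∑ i, (c i - c' i) * f i (b k) = 0
          have hk : ∑ i, c i * f i (b k) = ∑ i, c' i * f i (b k) := congrFun hcc k
          simp only [sub_mul, Finset.sum_sub_distrib, hk, sub_self])
      exact hle (b.span_eq.symm ▸ Submodule.mem_top : x ∈ Submodule.span (ZMod 2) (Set.range b))
    funext i
    exact sub_eq_zero.mp (Fintype.linearIndependent_iff.mp hli _ h0 i)
  have h1 := Nat.card_le_card_of_injective Φ hinj
  rw [Nat.card_fun, Nat.card_fun, Nat.card_fin] at h1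
  exact (Nat.pow_le_pow_iff_right Finite.one_lt_card).mp h1

variable {J : Type v} [CommGroup J] [Finite J] (σ : J →* RingAut B)

/-- In a reduced finite ring of characteristic two with fixed points `0`, `1` and a free group of automorphisms the
dimension is at least the order of the group, and with equality every element is its own `2 ^ |J|`-th power. -/
theorem ring_bound [Module (ZMod 2) B] [Nontrivial B] (h2 : ∀ x : B, x + x = 0)
    (hsurj : ∀ x : B, ∃ y, y * y = x) (hfix : ∀ x, (∀ j, σ j x = x) → x = 0 ∨ x = 1)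
    (hfaith : ∀ j, (∀ x, σ j x = x) → j = 1) :
    2 ^ Nat.card J ≤ Nat.card B ∧ (Nat.card B = 2 ^ Nat.card J → ∀ x : B, x ^ 2 ^ Nat.card J = x) := by
  classical
  haveI : Fact (Nat.Prime 2) := ⟨Nat.prime_two⟩
  haveI : Module.Finite (ZMod 2) B := Module.Finite.of_finite
  haveI := Fintype.ofFinite J
  -- squaring is an automorphism
  have htwo : (2 : B) = 0 := by rw [← one_add_one_eq_two]; exact h2 1
  let F : B →+* B :=
    { toFun := fun x => x * x
      map_one' := one_mul 1
      map_mul' := fun x y => by ring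
      map_zero' := zero_mul 0
      map_add' := fun x y => by linear_combination (x * y) * htwo }
  have hF : Function.Bijective F := Finite.surjective_iff_bijective.mp hsurj
  let e : Equiv.Perm B := Equiv.ofBijective F hF
  haveI : Finite (Equiv.Perm B) := inferInstance
  have hpow : ∀ (n : ℕ) (x : B), (e ^ n) x = x ^ 2 ^ n := by
    intro n
    induction n with
    | zero => intro x; simp
    | succ n ih =>
      intro x
      rw [pow_succ', Equiv.Perm.mul_apply, ih]
      show x ^ 2 ^ n * x ^ 2 ^ n = _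
      rw [← pow_add, pow_succ]
      congr 1
      omega
  obtain ⟨M, hM1, hM⟩ : ∃ M : ℕ, 1 ≤ M ∧ ∀ x : B, x ^ (M + 1) = x := by
    have hN := orderOf_pos e
    refine ⟨2 ^ orderOf e - 1, ?_, fun x => ?_⟩
    · have : 2 ^ 1 ≤ 2 ^ orderOf e := Nat.pow_le_pow_right (by omega) hN
      omega
    · rw [Nat.sub_add_cancel Nat.one_le_two_pow, ← hpow, pow_orderOf_eq_one, Equiv.Perm.one_apply]
  -- a hom whose conjugates separate the elements
  obtain ⟨𝔪, h𝔪⟩ := Ideal.exists_maximal B
  haveI := h𝔪
  letI : Field (B ⧸ 𝔪) := Ideal.Quotient.field 𝔪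
  haveI : Finite (B ⧸ 𝔪) := Finite.of_surjective (Ideal.Quotient.mk 𝔪) Ideal.Quotient.mk_surjective
  let χ : B →+* B ⧸ 𝔪 := Ideal.Quotient.mk 𝔪
  let χj : J → B →+* B ⧸ 𝔪 := fun j => χ.comp (σ j : B ≃+* B).toRingHom
  have hχj : ∀ (i j : J) (x : B), χj i (σ j x) = χj (i * j) x := fun i j x => by
    show χ (σ i (σ j x)) = χ (σ (i * j) x)
    rw [map_mul]
    rfl
  have hsep : ∀ x : B, (∀ j, χj j x = 0) → x = 0 := by
    intro x hx
    by_contra hx0
    have hid : x ^ M * x ^ M = x ^ M := by
      rw [← pow_add, show M + M = (M + 1) + (M - 1) by omega, pow_add, hM, ← pow_succ']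
      congr 1
      omega
    have hxM : x ^ M ≠ 0 := fun h0 => hx0 (by rw [← hM x, pow_succ, h0, zero_mul])
    set g : B := x ^ M with hg
    have hgI : ∀ i j : J, χj i (σ j g) = 0 := fun i j => by
      rw [hχj, hg, map_pow, hx, zero_pow (by omega)]
    set E : B := 1 - ∏ j : J, (1 - σ j g) with hE
    have hEfix : ∀ i, σ i E = E := by
      intro i
      rw [hE, map_sub, map_one, map_prod]
      conv_rhs => rw [← Equiv.prod_comp (Equiv.mulLeft i)]
      congr 1
      refine Finset.prod_congr rfl fun j _ => ?_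
      rw [map_sub, map_one, Equiv.coe_mulLeft, map_mul]
      rfl
    have hEg : E * g = g := by
      rw [hE, sub_mul, one_mul, ← Finset.prod_erase_mul _ _ (Finset.mem_univ (1 : J)), map_one,
        mul_assoc, show (1 - (1 : RingAut B) g) * g = 0 by
          show (1 - g) * g = 0
          rw [sub_mul, one_mul, hid, sub_self], mul_zero, sub_zero]
    have hEI : χj 1 E = 0 := by
      rw [hE, map_sub, map_one, map_prod,
        Finset.prod_eq_one fun j _ => by rw [map_sub, map_one, hgI, sub_zero], sub_self]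
    rcases hfix E hEfix with h0 | h1
    · rw [h0, zero_mul] at hEg
      exact hxM hEg.symm
    · rw [h1, map_one] at hEI
      exact one_ne_zero hEI
  have hinj : Function.Injective χj := by
    intro i j hij
    refine inv_mul_eq_one.mp (hfaith _ fun x => sub_eq_zero.mp (hsep _ fun l => ?_))
    rw [map_sub, sub_eq_zero]
    have h1 : χj (l * i⁻¹) (σ i x) = χj (l * i⁻¹) (σ j x) := by
      rw [hχj, hχj]
      have h2 := DFunLike.congr_fun hij (σ (l * i⁻¹) x)
      rw [hχj, hχj, mul_comm i, mul_comm j] at h2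
      exact h2
    rw [hχj, hχj, inv_mul_cancel_right] at h1
    rw [hχj, h1, show l * i⁻¹ * j = l * (i⁻¹ * j) from mul_assoc _ _ _]
  have hd := card_le_finrank χj hinj
  have hcB : Nat.card B = 2 ^ Module.finrank (ZMod 2) B := by
    rw [Module.natCard_eq_pow_finrank (K := ZMod 2), Nat.card_zmod]
  refine ⟨hcB ▸ Nat.pow_le_pow_right (by omega) hd, fun hc => ?_⟩
  have hde : Module.finrank (ZMod 2) B = Nat.card J := Nat.pow_right_injective le_rfl (hcB.symm.trans hc)
  let χF : B →+* B ⧸ 𝔪 := χ.comp F
  obtain ⟨j0, hj0⟩ : ∃ j0, χj j0 = χF := by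
    by_contra hno
    push Not at hno
    have h1 := card_le_finrank (fun o : Option J => o.elim χF χj) (by
      rintro (_ | i) (_ | j) h
      · rfl
      · exact absurd h.symm (hno j)
      · exact absurd h (hno i)
      · exact congrArg some (hinj h))
    rw [Finite.card_option, hde] at h1
    omega
  have hstep : ∀ (i : J) (x : B), χj i x ^ 2 = χj (i * j0) x := by
    intro i x
    have h1 : χ (σ j0 (σ i x)) = χ (σ i x * σ i x) := DFunLike.congr_fun hj0 (σ i x)
    rw [map_mul] at h1
    rw [pow_two]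
    show χ (σ i x) * χ (σ i x) = χ (σ (i * j0) x)
    rw [← h1, mul_comm i j0, map_mul]
    rfl
  have hiter : ∀ (n : ℕ) (i : J) (x : B), χj i x ^ 2 ^ n = χj (i * j0 ^ n) x := by
    intro n
    induction n with
    | zero => intro i x; simp
    | succ n ih =>
      intro i x
      rw [pow_succ, pow_mul, ih, hstep, mul_assoc, ← pow_succ]
  intro x
  refine sub_eq_zero.mp (hsep _ fun i => ?_)
  rw [map_sub, map_pow, hiter, pow_card_eq_one', mul_one, sub_self]

section Group

variable {V : Type u} [CommGroup V] [Finite V]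

/-- The dimension bound for automorphisms. -/
theorem group_bound (h2 : ∀ v : V, v * v = 1) {R K : Subgroup (MulAut V)}
    (hRc : ∀ r ∈ R, ∀ s ∈ R, r * s = s * r) (hR : R ≠ ⊥) (hRo : Odd (Nat.card R))
    (hKc : ∀ i ∈ K, ∀ j ∈ K, i * j = j * i) (hn : ∀ j ∈ K, ∀ r ∈ R, j * r * j⁻¹ ∈ R)
    (hfree : ∀ j ∈ K, j ≠ 1 → ∀ r ∈ R, j * r = r * j → r = 1)
    (hCR : ∀ v : V, (∀ r ∈ R, r v = v) → v = 1) {w : V} (hw : ∀ j ∈ K, j w = w)
    (hCK : ∀ v : V, (∀ j ∈ K, j v = v) → v = 1 ∨ v = w) :
    2 ^ Nat.card K ≤ Nat.card V ∧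
      (Nat.card V = 2 ^ Nat.card K → ∀ r ∈ R, r ^ (2 ^ Nat.card K - 1) = 1) := by
  classical
  let toEnd : MulAut V →* AddMonoid.End (Additive V) :=
    { toFun := fun f => MonoidHom.toAdditive f.toMonoidHom
      map_one' := rfl
      map_mul' := fun f g => rfl }
  have htoEnd : Function.Injective toEnd := fun f g h =>
    MulEquiv.ext fun v => congrArg Additive.toMul (DFunLike.congr_fun h (Additive.ofMul v))
  set gen : Set (AddMonoid.End (Additive V)) := toEnd '' (R : Set (MulAut V)) with hgen
  have hgc : ∀ x ∈ gen, ∀ y ∈ gen, x * y = y * x := by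
    rintro _ ⟨r, hr, rfl⟩ _ ⟨s, hs, rfl⟩
    rw [← map_mul, ← map_mul, hRc r hr s hs]
  set B := Subring.closure gen with hB
  letI : CommRing B := Subring.closureCommRingOfComm hgc
  haveI : Finite (AddMonoid.End (Additive V)) := Finite.of_injective _ DFunLike.coe_injective
  haveI : Finite B := inferInstance
  have hB2 : ∀ x : B, x + x = 0 := fun x => Subtype.ext (DFunLike.ext _ _ fun v => by
    show (x : AddMonoid.End (Additive V)) v + (x : AddMonoid.End (Additive V)) v = 0
    exact congrArg Additive.ofMul (h2 _))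
  letI : Module (ZMod 2) B := AddCommGroup.zmodModule (n := 2) fun x => by rw [two_nsmul]; exact hB2 x
  -- the group of automorphisms of the ring
  have hmem : ∀ j ∈ K, ∀ x ∈ B, toEnd j * x * toEnd j⁻¹ ∈ B := by
    intro j hj x hx
    have hji : toEnd j⁻¹ * toEnd j = 1 := by rw [← map_mul, inv_mul_cancel, map_one]
    induction hx using Subring.closure_induction with
    | mem y hy =>
      obtain ⟨r, hr, rfl⟩ := hy
      rw [← map_mul, ← map_mul]
      exact Subring.subset_closure ⟨_, hn j hj r hr, rfl⟩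
    | zero => rw [mul_zero, zero_mul]; exact zero_mem _
    | one => rw [mul_one, ← map_mul, mul_inv_cancel, map_one]; exact one_mem _
    | add y z _ _ hy hz => rw [mul_add, add_mul]; exact add_mem hy hz
    | neg y _ hy =>
      rw [show -y = y from DFunLike.ext _ _ fun v => neg_eq_of_add_eq_zero_right
        (congrArg Additive.ofMul (h2 (Additive.toMul (y v))))]
      exact hy
    | mul y z _ _ hy hz =>
      rw [show toEnd j * (y * z) * toEnd j⁻¹ = (toEnd j * y * toEnd j⁻¹) * (toEnd j * z * toEnd j⁻¹) by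
        simp only [mul_assoc]; rw [← mul_assoc (toEnd j⁻¹) (toEnd j), hji, one_mul]]
      exact Subring.mul_mem _ hy hz
  letI : CommGroup K := { (inferInstance : Group K) with
    mul_comm := fun i j => Subtype.ext (hKc i i.2 j j.2) }
  let act : K → RingAut B := fun j =>
    { toFun := fun x => ⟨toEnd (j : MulAut V) * x * toEnd (j : MulAut V)⁻¹, hmem j j.2 x x.2⟩
      invFun := fun x => ⟨toEnd (j : MulAut V)⁻¹ * x * toEnd (j : MulAut V), by
        have h := hmem _ (inv_mem j.2) x x.2
        rwa [inv_inv] at h⟩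
      left_inv := fun x => Subtype.ext (by
        show toEnd (j : MulAut V)⁻¹ * (toEnd (j : MulAut V) * x * toEnd (j : MulAut V)⁻¹) * toEnd (j : MulAut V) = x
        simp only [← mul_assoc, ← map_mul, inv_mul_cancel, map_one, one_mul]
        rw [mul_assoc, ← map_mul, inv_mul_cancel, map_one, mul_one])
      right_inv := fun x => Subtype.ext (by
        show toEnd (j : MulAut V) * (toEnd (j : MulAut V)⁻¹ * x * toEnd (j : MulAut V)) * toEnd (j : MulAut V)⁻¹ = x
        simp only [← mul_assoc, ← map_mul, mul_inv_cancel, map_one, one_mul]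
        rw [mul_assoc, ← map_mul, mul_inv_cancel, map_one, mul_one])
      map_mul' := fun x y => Subtype.ext (by
        show toEnd (j : MulAut V) * (x * y : AddMonoid.End (Additive V)) * toEnd (j : MulAut V)⁻¹ =
          (toEnd (j : MulAut V) * x * toEnd (j : MulAut V)⁻¹) * (toEnd (j : MulAut V) * y * toEnd (j : MulAut V)⁻¹)
        simp only [mul_assoc]
        rw [← mul_assoc (toEnd (j : MulAut V)⁻¹) (toEnd (j : MulAut V)), ← map_mul, inv_mul_cancel, map_one, one_mul])
      map_add' := fun x y => Subtype.ext (by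
        show toEnd (j : MulAut V) * (x + y : AddMonoid.End (Additive V)) * toEnd (j : MulAut V)⁻¹ = _
        rw [mul_add, add_mul]
        rfl) }
  let σ : K →* RingAut B := MonoidHom.mk' act fun i j => RingEquiv.ext fun x => Subtype.ext (by
    show toEnd ((i : MulAut V) * j) * x * toEnd ((i : MulAut V) * j)⁻¹ =
      toEnd (i : MulAut V) * (toEnd (j : MulAut V) * x * toEnd (j : MulAut V)⁻¹) * toEnd (i : MulAut V)⁻¹
    rw [mul_inv_rev, map_mul, map_mul]
    simp only [mul_assoc])
  -- the translates of `w` generate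
  haveI := Fintype.ofFinite R
  haveI := Fintype.ofFinite K
  have hspan : ∀ v : V, ∃ S : Finset R, v = ∏ r ∈ S, (r : MulAut V) w := by
    intro v
    have hN : ∀ x : V, (∏ j : K, (j : MulAut V) x) = 1 ∨ (∏ j : K, (j : MulAut V) x) = w := fun x =>
      hCK _ fun i hi => by
        rw [map_prod]
        exact (Fintype.prod_equiv (Equiv.mulLeft ⟨i, hi⟩) _ _ fun j => rfl)
    have hkey : v = ∏ r : R, (r : MulAut V) (∏ j : K, (j : MulAut V) ((r : MulAut V)⁻¹ v)) := by
      simp only [map_prod]
      rw [Finset.prod_comm, ← Finset.prod_erase_mul _ _ (Finset.mem_univ (1 : K))]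
      have h1 : ∀ j ∈ Finset.univ.erase (1 : K),
          ∏ r : R, (r : MulAut V) ((j : MulAut V) ((r : MulAut V)⁻¹ v)) = 1 := by
        intro j hj
        have hj1 : (j : MulAut V) ≠ 1 := fun e => Finset.ne_of_mem_erase hj (Subtype.ext e)
        let φ : R → R := fun r => ⟨(r : MulAut V) * ((j : MulAut V) * (r : MulAut V)⁻¹ * (j : MulAut V)⁻¹),
          R.mul_mem r.2 (hn j j.2 _ (inv_mem r.2))⟩
        have hφ : Function.Bijective φ := Finite.injective_iff_bijective.mp fun r s e => by
          have h3 : (r : MulAut V) * ((j : MulAut V) * (r : MulAut V)⁻¹ * (j : MulAut V)⁻¹) =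
              s * ((j : MulAut V) * (s : MulAut V)⁻¹ * (j : MulAut V)⁻¹) := congrArg Subtype.val e
          have h5 : (j : MulAut V) * ((s : MulAut V)⁻¹ * r)⁻¹ * (j : MulAut V)⁻¹ = ((s : MulAut V)⁻¹ * r)⁻¹ := by
            have hc : ((j : MulAut V) * (s : MulAut V)⁻¹ * (j : MulAut V)⁻¹)⁻¹ * (r : MulAut V)⁻¹ =
                (r : MulAut V)⁻¹ * ((j : MulAut V) * (s : MulAut V)⁻¹ * (j : MulAut V)⁻¹)⁻¹ :=
              hRc _ (inv_mem (hn j j.2 _ (inv_mem s.2))) _ (inv_mem r.2)
            have hc2 : (j : MulAut V) * (r : MulAut V)⁻¹ * (j : MulAut V)⁻¹ =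
                (r : MulAut V)⁻¹ * s * ((j : MulAut V) * (s : MulAut V)⁻¹ * (j : MulAut V)⁻¹) := by
              rw [mul_assoc (r : MulAut V)⁻¹, ← h3]; group
            calc (j : MulAut V) * ((s : MulAut V)⁻¹ * r)⁻¹ * (j : MulAut V)⁻¹
                = ((j : MulAut V) * (r : MulAut V)⁻¹ * (j : MulAut V)⁻¹) *
                  ((j : MulAut V) * (s : MulAut V)⁻¹ * (j : MulAut V)⁻¹)⁻¹ := by group
              _ = _ := by rw [hc2]; group
          have h6 := hfree j j.2 hj1 _ (inv_mem (R.mul_mem (inv_mem s.2) r.2)) (mul_inv_eq_iff_eq_mul.mp h5)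
          exact Subtype.ext (inv_mul_eq_one.mp (inv_eq_one.mp h6)).symm
        have hsum : ∏ r : R, (r : MulAut V) ((j : MulAut V) v) = 1 := hCR _ fun s hs => by
          rw [map_prod]
          exact Fintype.prod_equiv (Equiv.mulLeft ⟨s, hs⟩) _ _ fun r => rfl
        rw [← hsum]
        refine Fintype.prod_bijective φ hφ _ _ fun r => ?_
        show _ = (r : MulAut V) ((j : MulAut V) ((r : MulAut V)⁻¹ ((j : MulAut V)⁻¹ ((j : MulAut V) v))))
        exact congrArg (fun z => (r : MulAut V) ((j : MulAut V) ((r : MulAut V)⁻¹ z)))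
          ((j : MulAut V).symm_apply_apply v).symm
      rw [Finset.prod_eq_one h1, one_mul]
      show v = ∏ r : R, (r : MulAut V) ((r : MulAut V)⁻¹ v)
      rw [Finset.prod_congr rfl (g := fun _ : R => v) fun r _ => show (r : MulAut V) ((r : MulAut V)⁻¹ v) = v from
        (r : MulAut V).apply_symm_apply v, Finset.prod_const, Finset.card_univ, ← Nat.card_eq_fintype_card]
      obtain ⟨m, hm⟩ := hRo
      rw [hm, pow_succ, pow_mul, pow_two, h2, one_pow, one_mul]
    refine ⟨Finset.univ.filter fun r : R => (∏ j : K, (j : MulAut V) ((r : MulAut V)⁻¹ v)) = w, ?_⟩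
    conv_lhs => rw [hkey]
    rw [Finset.prod_filter]
    refine Finset.prod_congr rfl fun r _ => ?_
    split_ifs with hr
    · rw [hr]
    · rw [(hN _).resolve_right hr, map_one]
  have hbw : ∀ x y : B, (x : AddMonoid.End (Additive V)) (Additive.ofMul w) =
      (y : AddMonoid.End (Additive V)) (Additive.ofMul w) → x = y := by
    intro x y hxy
    refine Subtype.ext (DFunLike.ext _ _ fun v => ?_)
    obtain ⟨S, hS⟩ := hspan (Additive.toMul v)
    have hv : v = ∑ r ∈ S, toEnd (r : MulAut V) (Additive.ofMul w) := by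
      rw [← ofMul_toMul v, hS, ofMul_prod]
      rfl
    rw [hv, map_sum, map_sum]
    refine Finset.sum_congr rfl fun r _ => ?_
    let g : B := ⟨toEnd (r : MulAut V), Subring.subset_closure ⟨r, r.2, rfl⟩⟩
    show ((x * g : B) : AddMonoid.End (Additive V)) (Additive.ofMul w) =
      ((y * g : B) : AddMonoid.End (Additive V)) (Additive.ofMul w)
    rw [mul_comm x g, mul_comm y g]
    exact congrArg (toEnd (r : MulAut V)) hxy
  have hsurj : ∀ x : B, ∃ y, y * y = x := by
    rintro ⟨x, hx⟩
    induction hx using Subring.closure_induction with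
    | mem y hy =>
      obtain ⟨r, hr, rfl⟩ := hy
      obtain ⟨m, hm⟩ := hRo
      refine ⟨⟨toEnd (r ^ (m + 1)), Subring.subset_closure ⟨_, pow_mem hr _, rfl⟩⟩, Subtype.ext ?_⟩
      show toEnd (r ^ (m + 1)) * toEnd (r ^ (m + 1)) = toEnd r
      rw [← map_mul, ← pow_add, show m + 1 + (m + 1) = Nat.card R + 1 by omega, pow_succ]
      have h1 : (⟨r, hr⟩ : R) ^ Nat.card R = 1 := pow_card_eq_one'
      rw [show r ^ Nat.card R = 1 from congrArg Subtype.val h1, one_mul]
    | zero => exact ⟨0, mul_zero 0⟩
    | one => exact ⟨1, mul_one 1⟩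
    | add y z _ _ hy hz =>
      obtain ⟨c, hc⟩ := hy
      obtain ⟨d, hd⟩ := hz
      refine ⟨c + d, Subtype.ext ?_⟩
      have : (c + d) * (c + d) = c * c + d * d := by
        rw [show (c + d) * (c + d) = c * c + d * d + (c * d + c * d) by ring, hB2, add_zero]
      rw [this, hc, hd]
      rfl
    | neg y _ hy =>
      obtain ⟨c, hc⟩ := hy
      refine ⟨c, ?_⟩
      rw [hc]
      exact eq_neg_of_add_eq_zero_left (hB2 _)
    | mul y z _ _ hy hz =>
      obtain ⟨c, hc⟩ := hy
      obtain ⟨d, hd⟩ := hz
      exact ⟨c * d, by rw [mul_mul_mul_comm, hc, hd]; rfl⟩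
  obtain ⟨r0, hr0, hr01⟩ := (Subgroup.ne_bot_iff_exists_ne_one.mp hR).imp fun r hr => (⟨r.2, hr⟩ : _ ∧ _)
  have hw1 : w ≠ 1 := fun e => hr01 (Subtype.ext (MulEquiv.ext fun v => by
    obtain ⟨S, hS⟩ := hspan v
    rw [show v = 1 by rw [hS]; exact Finset.prod_eq_one fun r _ => by rw [e, map_one]]
    exact map_one _))
  haveI : Nontrivial B := ⟨⟨0, 1, fun e => hw1 (congrArg
    (fun x : B => Additive.toMul ((x : AddMonoid.End (Additive V)) (Additive.ofMul w))) e).symm⟩⟩
  have hact : ∀ (j : K) (x : B), ((σ j x : B) : AddMonoid.End (Additive V)) (Additive.ofMul w) =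
      toEnd (j : MulAut V) ((x : AddMonoid.End (Additive V)) (Additive.ofMul w)) := fun j x => by
    show toEnd (j : MulAut V) ((x : AddMonoid.End (Additive V))
      (toEnd (j : MulAut V)⁻¹ (Additive.ofMul w))) = _
    exact congrArg (fun z => toEnd (j : MulAut V) ((x : AddMonoid.End (Additive V)) z))
      (congrArg Additive.ofMul (hw _ (inv_mem j.2)))
  have hfix : ∀ x : B, (∀ j, σ j x = x) → x = 0 ∨ x = 1 := by
    intro x hx
    rcases hCK (Additive.toMul ((x : AddMonoid.End (Additive V)) (Additive.ofMul w))) fun j hj => by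
      have h1 := hact ⟨j, hj⟩ x
      rw [hx] at h1
      exact congrArg Additive.toMul h1.symm with h | h
    · exact Or.inl (hbw x 0 (congrArg Additive.ofMul h))
    · exact Or.inr (hbw x 1 (congrArg Additive.ofMul h))
  have hfaith : ∀ j : K, (∀ x, σ j x = x) → j = 1 := by
    intro j hj
    by_contra hj1
    refine hr01 (Subtype.ext (hfree j j.2 (fun e => hj1 (Subtype.ext e)) _ hr0 ?_))
    have h1 := congrArg Subtype.val (hj ⟨toEnd (r0 : MulAut V), Subring.subset_closure ⟨_, hr0, rfl⟩⟩)
    change toEnd (j : MulAut V) * toEnd (r0 : MulAut V) * toEnd (j : MulAut V)⁻¹ = toEnd (r0 : MulAut V) at h1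
    rw [← map_mul, ← map_mul] at h1
    exact mul_inv_eq_iff_eq_mul.mp (htoEnd h1)
  obtain ⟨hle, heq⟩ := ring_bound σ hB2 hsurj hfix hfaith
  have hBV : Nat.card B ≤ Nat.card V := Nat.card_le_card_of_injective
    (fun x : B => Additive.toMul ((x : AddMonoid.End (Additive V)) (Additive.ofMul w)))
    fun x y h => hbw x y (congrArg Additive.ofMul h)
  refine ⟨hle.trans hBV, fun hV r hr => ?_⟩
  let g : B := ⟨toEnd r, Subring.subset_closure ⟨r, hr, rfl⟩⟩
  have h1 := congrArg Subtype.val (heq (le_antisymm (hV ▸ hBV) hle) g)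
  rw [SubmonoidClass.coe_pow] at h1
  change toEnd r ^ 2 ^ Nat.card K = toEnd r at h1
  rw [← map_pow] at h1
  refine mul_right_cancel (b := r) ?_
  rw [← pow_succ, Nat.sub_add_cancel Nat.one_le_two_pow, one_mul]
  exact htoEnd h1

end Group

end CfsgLib.Bender.Q.Frob
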