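import Cfsg.Agent.Lib.Bender.Q.Full.Frob

/-!
The dimension bound for a group acting on an elementary abelian 2-group: the part moved by an abelian subgroup `R` of
odd order replaces the whole group.

Blueprint: `blueprint/bender/Q_VI.md` 6.
-/

set_option autoImplicit false
set_option linter.unusedSectionVars false
set_option linter.style.haveILetI false

universe u v

namespace CfsgLib.Bender.Q.Frob

variable {L : Type u} [Group L] [Finite L] {V : Type v} [CommGroup V] [Finite V]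

theorem action_bound (h2 : ∀ v : V, v * v = 1) (ρ : L →* MulAut V) {R J : Subgroup L}
    (hRc : ∀ r ∈ R, ∀ s ∈ R, r * s = s * r) (hR : R ≠ ⊥) (hRo : Odd (Nat.card R))
    (hJc : ∀ i ∈ J, ∀ j ∈ J, i * j = j * i) (hn : ∀ j ∈ J, ∀ r ∈ R, j * r * j⁻¹ ∈ R)
    (hfree : ∀ j ∈ J, j ≠ 1 → ∀ r ∈ R, j * r = r * j → r = 1)
    (hfaith : ∀ r ∈ R, ρ r = 1 → r = 1) {w : V} (hw : ∀ j ∈ J, ρ j w = w)
    (hCJ : ∀ v : V, (∀ j ∈ J, ρ j v = v) → v = 1 ∨ v = w) :
    2 ^ Nat.card J ≤ Nat.card V ∧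
      (Nat.card V = 2 ^ Nat.card J → ∀ r ∈ R, r ^ (2 ^ Nat.card J - 1) = 1) := by
  classical
  haveI := Fintype.ofFinite R
  let N : V →* V := ∏ r : R, (ρ (r : L)).toMonoidHom
  have hN : ∀ v, N v = ∏ r : R, ρ (r : L) v := fun v => by
    simp only [N, MonoidHom.finsetProd_apply]
    rfl
  have hNr : ∀ (v : V) (r : R), N (ρ (r : L) v) = N v := fun v r => by
    rw [hN, hN]
    refine Fintype.prod_equiv (Equiv.mulRight r) _ _ fun s => ?_
    show ρ (s : L) (ρ (r : L) v) = ρ ((s : L) * r) v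
    rw [map_mul]; rfl
  have hrN : ∀ (v : V) (r : R), ρ (r : L) (N v) = N v := fun v r => by
    rw [hN, map_prod]
    refine Fintype.prod_equiv (Equiv.mulLeft r) _ _ fun s => ?_
    show ρ (r : L) (ρ (s : L) v) = ρ ((r : L) * s) v
    rw [map_mul]; rfl
  have hfixN : ∀ v, (∀ r : R, ρ (r : L) v = v) → N v = v := fun v hv => by
    rw [hN, Finset.prod_congr rfl fun r _ => hv r, Finset.prod_const, Finset.card_univ, ← Nat.card_eq_fintype_card]
    obtain ⟨m, hm⟩ := hRo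
    rw [hm, pow_succ, pow_mul, pow_two, h2, one_pow, one_mul]
  have hsplit : ∀ v, v * N v ∈ N.ker := fun v => by
    rw [MonoidHom.mem_ker, map_mul, hfixN (N v) (hrN v), h2]
  -- the group preserving the moved part
  set L0 := Subgroup.normalizer (R : Set L) with hL0
  have hRL : ∀ r ∈ R, r ∈ L0 := fun r hr => Subgroup.le_normalizer hr
  have hJL : ∀ j ∈ J, j ∈ L0 := fun j hj => Subgroup.mem_normalizer_iff.mpr fun r =>
    ⟨fun hr => hn j hj r hr, fun hr => by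
      have h1 := hn j⁻¹ (inv_mem hj) _ hr
      rwa [inv_inv, show j⁻¹ * (j * r * j⁻¹) * j = r by group] at h1⟩
  have hNL : ∀ g ∈ L0, ∀ v, N (ρ g v) = ρ g (N v) := fun g hg v => by
    rw [hN, hN, map_prod]
    let e : R ≃ R :=
      { toFun := fun r => ⟨g⁻¹ * r * g, by
          refine (Subgroup.mem_normalizer_iff.mp hg _).mpr ?_
          rw [show g * (g⁻¹ * (r : L) * g) * g⁻¹ = r by group]
          exact r.2⟩
        invFun := fun r => ⟨g * r * g⁻¹, (Subgroup.mem_normalizer_iff.mp hg r).mp r.2⟩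
        left_inv := fun r => Subtype.ext (show g * (g⁻¹ * (r : L) * g) * g⁻¹ = r by group)
        right_inv := fun r => Subtype.ext (show g⁻¹ * (g * (r : L) * g⁻¹) * g = r by group) }
    refine Fintype.prod_equiv e _ _ fun r => ?_
    show ρ (r : L) (ρ g v) = ρ g (ρ (g⁻¹ * r * g) v)
    rw [show ρ (r : L) (ρ g v) = ρ ((r : L) * g) v by rw [map_mul]; rfl,
      show ρ g (ρ (g⁻¹ * r * g) v) = ρ (g * (g⁻¹ * r * g)) v by rw [map_mul ρ g]; rfl,
      show g * (g⁻¹ * (r : L) * g) = r * g by group]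
  have hker : ∀ (g : L0) (v : V), v ∈ N.ker → ρ (g : L) v ∈ N.ker := fun g v hv => by
    rw [MonoidHom.mem_ker, hNL g g.2, MonoidHom.mem_ker.mp hv, map_one]
  let f : L0 → (N.ker →* N.ker) := fun g => MonoidHom.mk' (fun v => ⟨ρ (g : L) v, hker g v v.2⟩)
    fun v w => Subtype.ext (map_mul (ρ (g : L)) (v : V) w)
  let ρ0 : L0 →* MulAut N.ker := MonoidHom.mk'
    (fun g => MonoidHom.toMulEquiv (f g) (f g⁻¹)
      (MonoidHom.ext fun v => Subtype.ext (show ρ ((g : L)⁻¹) (ρ (g : L) v) = v by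
        rw [map_inv]; exact (ρ (g : L)).symm_apply_apply _))
      (MonoidHom.ext fun v => Subtype.ext (show ρ (g : L) (ρ ((g : L)⁻¹) v) = v by
        rw [map_inv]; exact (ρ (g : L)).apply_symm_apply _)))
    fun g g' => MulEquiv.ext fun v => Subtype.ext (show ρ ((g : L) * g') v = ρ (g : L) (ρ (g' : L) v) by
      rw [map_mul]; rfl)
  -- faithful on `R`, injective on `J`
  have hR0 : ∀ r : L0, (r : L) ∈ R → ρ0 r = 1 → r = 1 := by
    intro r hr hr1
    refine Subtype.ext (hfaith r hr (MulEquiv.ext fun v => ?_))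
    have h1 : ρ (r : L) (v * N v) = v * N v :=
      congrArg Subtype.val (DFunLike.congr_fun hr1 (⟨v * N v, hsplit v⟩ : N.ker))
    rw [map_mul, hrN v ⟨r, hr⟩] at h1
    exact mul_right_cancel h1
  have hJ0 : ∀ j : L0, (j : L) ∈ J → ρ0 j = 1 → j = 1 := by
    intro j hj hj1
    by_contra hne
    refine hR ((Subgroup.eq_bot_iff_forall R).mpr fun r hr => ?_)
    refine hfree j hj (fun e => hne (Subtype.ext e)) r hr ?_
    have hc : (⟨(j : L) * r * (j : L)⁻¹ * r⁻¹, hRL _ (R.mul_mem (hn j hj r hr) (inv_mem hr))⟩ : L0) = 1 := by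
      refine hR0 _ (R.mul_mem (hn j hj r hr) (inv_mem hr)) ?_
      have e : (⟨(j : L) * r * (j : L)⁻¹ * r⁻¹, hRL _ (R.mul_mem (hn j hj r hr) (inv_mem hr))⟩ : L0) =
          j * ⟨r, hRL r hr⟩ * j⁻¹ * ⟨r, hRL r hr⟩⁻¹ := rfl
      rw [e, map_mul, map_mul, map_mul, map_inv, map_inv, hj1, inv_one, mul_one, one_mul, mul_inv_cancel]
    have h1 : (j : L) * r * (j : L)⁻¹ * r⁻¹ = 1 := congrArg Subtype.val hc
    rwa [mul_inv_eq_one, mul_inv_eq_iff_eq_mul] at h1
  set R0 := (R.subgroupOf L0).map ρ0 with hR0def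
  set K0 := (J.subgroupOf L0).map ρ0 with hK0def
  have hcardR : Nat.card R0 = Nat.card R := by
    rw [← Nat.card_congr (Subgroup.subgroupOfEquivOfLe hRL).toEquiv]
    refine (Nat.card_eq_of_bijective (fun r : R.subgroupOf L0 => (⟨ρ0 r, ⟨r, r.2, rfl⟩⟩ : R0)) ⟨fun r s e => ?_, ?_⟩).symm
    · refine Subtype.ext (div_eq_one.mp (hR0 _ (Subgroup.div_mem _ r.2 s.2) ?_))
      rw [map_div, div_eq_one]
      exact congrArg Subtype.val e
    · rintro ⟨_, r, hr, rfl⟩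
      exact ⟨⟨r, hr⟩, rfl⟩
  have hcardK : Nat.card K0 = Nat.card J := by
    rw [← Nat.card_congr (Subgroup.subgroupOfEquivOfLe hJL).toEquiv]
    refine (Nat.card_eq_of_bijective (fun r : J.subgroupOf L0 => (⟨ρ0 r, ⟨r, r.2, rfl⟩⟩ : K0)) ⟨fun r s e => ?_, ?_⟩).symm
    · refine Subtype.ext (div_eq_one.mp (hJ0 _ (Subgroup.div_mem _ r.2 s.2) ?_))
      rw [map_div, div_eq_one]
      exact congrArg Subtype.val e
    · rintro ⟨_, r, hr, rfl⟩
      exact ⟨⟨r, hr⟩, rfl⟩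
  obtain ⟨w0, hw0, hw0fix, hw0C⟩ : ∃ w0, w0 ∈ N.ker ∧ (∀ j ∈ J, ρ j w0 = w0) ∧
      ∀ v ∈ N.ker, (∀ j ∈ J, ρ j v = v) → v = 1 ∨ v = w0 := by
    by_cases hwN : w ∈ N.ker
    · exact ⟨w, hwN, hw, fun v _ hv => hCJ v hv⟩
    · exact ⟨1, one_mem _, fun j _ => map_one _, fun v hvN hv => (hCJ v hv).elim Or.inl fun e =>
        absurd (e ▸ hvN) hwN⟩
  obtain ⟨hbound, heq⟩ := group_bound (V := N.ker) (fun v => Subtype.ext (h2 v)) (R := R0) (K := K0)
    (by
      rintro _ ⟨r, hr, rfl⟩ _ ⟨s, hs, rfl⟩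
      rw [← map_mul, ← map_mul]
      exact congrArg ρ0 (Subtype.ext (hRc _ hr _ hs)))
    (fun e => by
      rw [e, Subgroup.card_bot] at hcardR
      exact hR (Subgroup.card_eq_one.mp hcardR.symm))
    (hcardR ▸ hRo)
    (by
      rintro _ ⟨r, hr, rfl⟩ _ ⟨s, hs, rfl⟩
      rw [← map_mul, ← map_mul]
      exact congrArg ρ0 (Subtype.ext (hJc _ hr _ hs)))
    (by
      rintro _ ⟨j, hj, rfl⟩ _ ⟨r, hr, rfl⟩
      exact ⟨j * r * j⁻¹, hn _ hj _ hr, by rw [map_mul, map_mul, map_inv]⟩)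
    (by
      rintro _ ⟨j, hj, rfl⟩ hj1 _ ⟨r, hr, rfl⟩ hcomm
      have hc : j * r * j⁻¹ * r⁻¹ = 1 := by
        refine hR0 _ (R.mul_mem (hn _ hj _ hr) (inv_mem hr)) ?_
        rw [map_mul, map_mul, map_mul, map_inv, map_inv, hcomm, mul_inv_cancel_right, mul_inv_cancel]
      rw [mul_inv_eq_one, mul_inv_eq_iff_eq_mul] at hc
      rw [show r = 1 from Subtype.ext (hfree j hj (fun e => hj1 (by rw [show j = 1 from Subtype.ext e, map_one]))
        r hr (congrArg Subtype.val hc)), map_one])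
    (fun v hv => by
      refine Subtype.ext ?_
      have h1 : N v = (v : V) := hfixN _ fun r =>
        congrArg Subtype.val (hv _ ⟨⟨r, hRL r r.2⟩, r.2, rfl⟩)
      rw [← h1]
      exact v.2)
    (w := ⟨w0, hw0⟩)
    (by
      rintro _ ⟨j, hj, rfl⟩
      exact Subtype.ext (hw0fix _ hj))
    (fun v hv => (hw0C v v.2 fun j hj => congrArg Subtype.val (hv _ ⟨⟨j, hJL j hj⟩, hj, rfl⟩)).imp
      (fun e => Subtype.ext e) (fun e => Subtype.ext e))
  rw [hcardK] at hbound heq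
  have hle : Nat.card N.ker ≤ Nat.card V := Subgroup.card_le_card_group _
  refine ⟨hbound.trans hle, fun hV r hr => ?_⟩
  have h1 := heq (le_antisymm (hle.trans hV.le) hbound) (ρ0 ⟨r, hRL r hr⟩) ⟨⟨r, hRL r hr⟩, hr, rfl⟩
  rw [← map_pow] at h1
  exact congrArg Subtype.val (hR0 _ (pow_mem hr _) h1)

end CfsgLib.Bender.Q.Frob
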