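import Cfsg.Agent.Lib.Bender.Q.Full.Base
import Cfsg.Agent.Lib.Bender.Q.Cent

/-!
The members centralised by a full involution and the rank one group they induce on its fixed points, read in the
group itself: agreement on the fixed points, the set-up, and the preimage of its regular normal subgroup.

Blueprint: `blueprint/bender/Q_VI.md` 0.
-/

set_option autoImplicit false
set_option linter.unusedSectionVars false
set_option linter.style.haveILetI false

universe u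

namespace CfsgLib.Bender.Q

open MulAction Cfsg CfsgLib.SuzukiRankOne
open CfsgLib.Bender.TwoClosed (IsInv two mem_two smul_conj)

/-- `x` and `y` act alike on the fixed points of `u`. -/
def Agree (Ω : Type u) {G : Type u} [Group G] [MulAction G Ω] (u x y : G) : Prop :=
  ∀ c : Ω, u • c = c → x • c = y • c

/-- The group of the members centralised by `u`. -/
abbrev wGrp {G : Type u} [Group G] (Z : Set G) (u : G) : Subgroup G :=
  memGrp Z (Subgroup.centralizer ({u} : Set G))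

variable {G Ω : Type u} [Group G] [MulAction G Ω] {Z : Set G}

theorem Agree.refl (u x : G) : Agree Ω u x x := fun _ _ => rfl

theorem Agree.symm {u x y : G} (h : Agree Ω u x y) : Agree Ω u y x := fun c hc => (h c hc).symm

theorem Agree.trans {u x y z : G} (h : Agree Ω u x y) (h' : Agree Ω u y z) : Agree Ω u x z := fun c hc =>
  (h c hc).trans (h' c hc)

theorem wGrp_comm {u x : G} (hx : x ∈ wGrp Z u) : u * x = x * u := mem_cent_iff.mp (memGrp_le hx)

theorem fix_of_comm {u x : G} (h : u * x = x * u) {c : Ω} (hc : u • c = c) : u • x • c = x • c := by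
  rw [← mul_smul, h, mul_smul, hc]

theorem Agree.mul_left {u x y z : G} (h : Agree Ω u x y) : Agree Ω u (z * x) (z * y) := fun c hc => by
  rw [mul_smul, mul_smul, h c hc]

theorem Agree.mul_right {u x y z : G} (h : Agree Ω u x y) (hz : u * z = z * u) :
    Agree Ω u (x * z) (y * z) := fun c hc => by
  rw [mul_smul, mul_smul, h _ (fix_of_comm hz hc)]

theorem Agree.inv {u x y : G} (h : Agree Ω u x y) (hy : u * y = y * u) : Agree Ω u x⁻¹ y⁻¹ := fun c hc => by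
  have hy' : u * y⁻¹ = y⁻¹ * u := by
    calc u * y⁻¹ = y⁻¹ * (y * u) * y⁻¹ := by group
      _ = y⁻¹ * u := by rw [← hy]; group
  rw [inv_smul_eq_iff, h _ (fix_of_comm hy' hc), smul_inv_smul]

variable [Finite G] [FaithfulSMul G Ω]

namespace FCtx

variable (hF : FCtx G Ω Z) {u : G} (hu : IsB Ω u)
include hF hu

theorem mem_wGrp {z : G} (hz : z ∈ Z) {p : Ω} (hp : z • p = p) (hpu : u • p = p) : z ∈ wGrp Z u :=
  mem_memGrp hz (mem_cent_iff.mpr ((hF.cent_iff hu hz hp).mpr hpu))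

theorem eGrp_le_wGrp {a : Ω} (ha : u • a = a) : hF.eGrp a ≤ wGrp Z u := fun x hx => by
  rcases hx with rfl | ⟨hxZ, hxa⟩
  · exact one_mem _
  · exact hF.mem_wGrp hu hxZ hxa ha

theorem eAt_eq_card {a : Ω} (ha : u • a = a) : eAt Z u a + 1 = Nat.card (hF.eGrp a) := by
  rw [hF.card_eGrp a, eAt, ← Nat.card_coe_set_eq]
  exact congrArg (· + 1) (Nat.card_congr (Equiv.subtypeEquivRight fun z =>
    ⟨fun h => ⟨h.1, h.2.2⟩, fun h => ⟨h.1, (hF.cent_iff hu h.1 h.2).mpr ha, h.2⟩⟩))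

theorem four_cent : FourIn Z (Subgroup.centralizer ({u} : Set G)) := by
  obtain ⟨-, a, b, hab, ha, hb⟩ := id hu
  refine four_of_eAt_ne_one hF.ctx hu ha fun h => ?_
  have h1 := hF.eAt_eq_card hu ha
  have h2 := hF.four_le_card a
  omega

theorem isTopOdd_w : IsTopOdd Ω Z (wGrp Z u) := isTopOdd_memGrp (isTop_cent hF.ctx hu (hF.four_cent hu))

theorem centres_w : centres Ω Z (wGrp Z u) = {c : Ω | u • c = c} := centres_memGrp_cent hF.ctx hu

theorem mem_centres_w {c : Ω} (hc : u • c = c) : c ∈ centres Ω Z (wGrp Z u) := (hF.centres_w hu).ge hc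

theorem exists_other (a : Ω) : ∃ b : Ω, b ≠ a ∧ u • b = b := exists_fix_ne hF.ctx hu a

theorem img_eq_iff {x y : wGrp Z u} :
    img hF.ctx.hyp (wGrp Z u) x = img hF.ctx.hyp (wGrp Z u) y ↔ Agree Ω u (x : G) y :=
  ⟨fun h _ hc => smul_of_img_eq h (hF.mem_centres_w hu hc),
    fun h => img_eq_of_smul fun c hc => h c ((hF.centres_w hu).le hc)⟩

/-- An element fixing every fixed point of `u` centralises the members centred at them. -/
theorem commute_of_fix_all {x : G} (hx : Agree Ω u x 1) {z : G} (hz : z ∈ Z) {p : Ω} (hp : z • p = p)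
    (hpu : u • p = p) : x * z = z * x := by
  have hxp : ∀ c : Ω, u • c = c → x • c = c := fun c hc => (hx c hc).trans (one_smul G c)
  obtain ⟨c, hcp, hcu⟩ := hF.exists_other hu p
  have hzc : u • z • c = z • c := fix_of_comm ((hF.cent_iff hu hz hp).mpr hpu) hcu
  have h := hF.ctx.eq_of_fix_two (hF.ctx.hyp.conj z hz x) hz (a := p)
    (by rw [mul_smul, mul_smul, inv_smul_eq_iff.mpr (hxp p hpu).symm, hp, hxp p hpu]) hp hcp
    (by rw [mul_smul, mul_smul, inv_smul_eq_iff.mpr (hxp c hcu).symm, hxp _ hzc])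
  exact mul_inv_eq_iff_eq_mul.mp h

/-- An element fixing every fixed point of `u` centralises the group of the members centralised by `u`. -/
theorem commute_w_of_fix_all {x : G} (hx : Agree Ω u x 1) {y : G} (hy : y ∈ wGrp Z u) : x * y = y * x := by
  have h : wGrp Z u ≤ Subgroup.centralizer ({x} : Set G) := by
    refine (Subgroup.closure_le _).mpr fun z hz => ?_
    obtain ⟨p, hp⟩ := exists_fix hF.ctx.hyp hz.1
    exact mem_cent_iff.mpr (hF.commute_of_fix_all hu hx hz.1 hp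
      ((hF.cent_iff hu hz.1 hp).mp (mem_cent_iff.mp hz.2)))
  exact mem_cent_iff.mp (h hy)

/-- Members at a fixed point of `u` acting alike on the fixed points coincide. -/
theorem eGrp_eq_of_agree {a : Ω} {x y : G} (hx : x ∈ hF.eGrp a) (hy : y ∈ hF.eGrp a) (h : Agree Ω u x y) :
    x = y := by
  obtain ⟨b, hba, hbu⟩ := hF.exists_other hu a
  have h1 : (y⁻¹ * x) • b = b := by rw [mul_smul, h b hbu, inv_smul_smul]
  have h2 := hF.eGrp_semiregular (mul_mem (inv_mem hy) hx) h1 hba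
  exact (inv_mul_eq_one.mp h2).symm

/-- The set-up at a fixed point of `u`, for any swapper of it and another one. -/
theorem exists_setup {a b : Ω} (ha : u • a = a) (hb : u • b = b) (hba : b ≠ a) {t : G} (ht : t ∈ Z)
    (hta : t • a = b) :
    ∃ (htW : t ∈ wGrp Z u) (Q : Subgroup (topGrp hF.ctx.hyp (wGrp Z u))),
      IsRankOneSetup (topGrp hF.ctx.hyp (wGrp Z u)) (centres Ω Z (wGrp Z u))
          ⟨a, hF.mem_centres_w hu ha⟩ (img hF.ctx.hyp (wGrp Z u) ⟨t, htW⟩) Q ∧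
        qZ (topGrp hF.ctx.hyp (wGrp Z u)) (⟨a, hF.mem_centres_w hu ha⟩ : centres Ω Z (wGrp Z u)) =
          Nat.card (hF.eGrp a) ∧
        Four (topGrp hF.ctx.hyp (wGrp Z u)) ∧ IsPGroup 2 Q := by
  obtain ⟨p, hp⟩ := exists_fix hF.ctx.hyp ht
  have hui := hu.1
  have htu : u * t = t * u := by
    obtain ⟨i, hi, hia⟩ := hF.ctx.hyp.exists_at a
    have hti := hF.ctx.hyp.inv t ht
    have hiu := (hF.cent_iff hu hi hia).mpr ha
    have hjb : (t * i * t) • b = b := by rw [mul_smul, mul_smul, hti.swap_back hta, hia, hta]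
    have hju := (hF.cent_iff hu (conj_member hF.ctx.hyp ht hi) hjb).mpr hb
    refine (mul_inv_eq_iff_eq_mul.mp (swap_unique hF.ctx.hyp hi hia hba.symm ht (hF.ctx.hyp.conj t ht u) hjb ?_))
    calc u * t * u⁻¹ * i * (u * t * u⁻¹) = u * t * (u⁻¹ * (i * u)) * t * u⁻¹ := by group
      _ = u * t * i * t * u⁻¹ := by rw [← hiu, inv_mul_cancel_left]
      _ = u * (t * i * t) * u⁻¹ := by group
      _ = t * i * t := by rw [hju, mul_inv_cancel_right]
  have htW : t ∈ wGrp Z u := mem_memGrp ht (mem_cent_iff.mpr htu)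
  have hT := hF.isTopOdd_w hu
  obtain ⟨Q, hS⟩ := hT.setup hF.ctx.hyp hF.ctx.below (hF.mem_centres_w hu ha) htW ht (hta ▸ hba)
  have h4 := hT.fourTop hF.ctx.hyp hF.ctx.below
  refine ⟨htW, Q, hS, ?_, h4, (concl hS h4).1⟩
  obtain ⟨t', Q', -, hq⟩ := exists_setup_fix hF.ctx hu (hF.four_cent hu) (hF.mem_centres_w hu ha)
  exact hq.trans (hF.eAt_eq_card hu ha)

theorem commute_swap {a b : Ω} (ha : u • a = a) (hb : u • b = b) (hba : b ≠ a) {t : G} (ht : t ∈ Z)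
    (hta : t • a = b) : u * t = t * u := by
  obtain ⟨htW, -⟩ := hF.exists_setup hu ha hb hba ht hta
  exact wGrp_comm htW

omit hu in
/-- In a set-up the elements of two power order fixing the point form the regular normal subgroup. -/
theorem mem_Q_of_pow {K Δ : Type u} [Group K] [Finite K] [MulAction K Δ] {a : Δ} {t : K} {Q : Subgroup K}
    (hS : IsRankOneSetup K Δ a t Q) {x : K} (hx : x • a = a) {k : ℕ} (hk : x ^ 2 ^ k = 1) : x ∈ Q := by
  obtain ⟨y, hy, d, hd, rfl⟩ := CfsgLib.RankOne.exists_decomp hS hx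
  have hda := ((CfsgLib.RankOne.mem_D hS).mp hd).1
  have key : ∀ n : ℕ, ∃ w ∈ Q, (y * d) ^ n = w * d ^ n := by
    intro n
    induction n with
    | zero => exact ⟨1, one_mem _, by simp⟩
    | succ n ih =>
      obtain ⟨w, hw, e⟩ := ih
      have hdn : (d ^ n) • a = a :=
        mem_stabilizer_iff.mp (pow_mem (mem_stabilizer_iff.mpr hda) n)
      refine ⟨w * (d ^ n * y * (d ^ n)⁻¹), mul_mem hw (CfsgLib.RankOne.conj_Q hS hdn hy), ?_⟩
      rw [pow_succ, e, pow_succ]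
      group
  obtain ⟨w, hw, e⟩ := key (2 ^ k)
  rw [hk] at e
  have hdk : d ^ 2 ^ k = 1 := by
    have h1 : d ^ 2 ^ k ∈ Q := by
      rw [eq_inv_of_mul_eq_one_right e.symm]
      exact inv_mem hw
    exact CfsgLib.RankOne.eq_one_of_fix_ta hS h1 ((CfsgLib.RankOne.mem_D hS).mp (pow_mem hd _)).2
  have hodd := CfsgLib.Bender.TwoClosed.odd_orderOf hS.odd_card hd
  have hd1 : orderOf d = 1 := by
    have hdvd := orderOf_dvd_of_pow_eq_one hdk
    exact Nat.eq_one_of_dvd_coprimes ((Nat.coprime_two_right.mpr hodd).pow_right k) dvd_rfl hdvd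
  rw [orderOf_eq_one_iff.mp hd1, mul_one]
  exact hy

end FCtx

end CfsgLib.Bender.Q

namespace CfsgLib.Bender.Q

open MulAction Cfsg CfsgLib.SuzukiRankOne
open CfsgLib.Bender.TwoClosed (IsInv two mem_two smul_conj)

variable {G Ω : Type u} [Group G] [MulAction G Ω] {Z : Set G} [Finite G] [FaithfulSMul G Ω]

namespace FCtx

variable (hF : FCtx G Ω Z) {u : G} (hu : IsB Ω u) {a : Ω} (ha : u • a = a)
include hF hu ha

/-- A set-up at `a` exists. -/
theorem exists_setup_at : ∃ (b : Ω) (t : G) (htW : t ∈ wGrp Z u)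
    (Q : Subgroup (topGrp hF.ctx.hyp (wGrp Z u))), b ≠ a ∧ u • b = b ∧ t • a = b ∧
      IsRankOneSetup (topGrp hF.ctx.hyp (wGrp Z u)) (centres Ω Z (wGrp Z u))
          ⟨a, hF.mem_centres_w hu ha⟩ (img hF.ctx.hyp (wGrp Z u) ⟨t, htW⟩) Q ∧
        Four (topGrp hF.ctx.hyp (wGrp Z u)) ∧ IsPGroup 2 Q := by
  obtain ⟨b, hba, hbu⟩ := hF.exists_other hu a
  obtain ⟨t, ht, hta, -⟩ := exists_swap hF.ctx.hyp hba.symm
  obtain ⟨htW, Q, hS, -, h4, hp⟩ := hF.exists_setup hu ha hbu hba ht hta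
  exact ⟨b, t, htW, Q, hba, hbu, hta, hS, h4, hp⟩

theorem img_mem_Q_iff {Q : Subgroup (topGrp hF.ctx.hyp (wGrp Z u))} {t : topGrp hF.ctx.hyp (wGrp Z u)}
    (hS : IsRankOneSetup (topGrp hF.ctx.hyp (wGrp Z u)) (centres Ω Z (wGrp Z u))
      ⟨a, hF.mem_centres_w hu ha⟩ t Q) (hp : IsPGroup 2 Q) (x : wGrp Z u) :
    img hF.ctx.hyp (wGrp Z u) x ∈ Q ↔ (x : G) • a = a ∧ ∃ k : ℕ, Agree Ω u ((x : G) ^ 2 ^ k) 1 := by
  constructor
  · intro h
    refine ⟨?_, ?_⟩
    · exact congrArg Subtype.val (CfsgLib.RankOne.mem_Q_a hS h)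
    · obtain ⟨k, hk⟩ := hp ⟨_, h⟩
      refine ⟨k, (hF.img_eq_iff hu (x := x ^ 2 ^ k) (y := 1)).mp ?_⟩
      rw [map_pow, map_one]
      exact congrArg Subtype.val hk
  · rintro ⟨hxa, k, hk⟩
    refine FCtx.mem_Q_of_pow hF hS (Subtype.ext hxa) (k := k) ?_
    rw [← map_pow, ← map_one (img hF.ctx.hyp (wGrp Z u))]
    exact (hF.img_eq_iff hu).mpr hk

/-- The elements of the group of members centralised by `u` fixing `a` of two power order on the fixed points. -/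
def qGrp : Subgroup G where
  carrier := {x | x ∈ wGrp Z u ∧ x • a = a ∧ ∃ k : ℕ, Agree Ω u (x ^ 2 ^ k) 1}
  one_mem' := ⟨one_mem _, one_smul G a, 0, by rw [one_pow]; exact Agree.refl u 1⟩
  mul_mem' := by
    rintro x y ⟨hx, hx'⟩ ⟨hy, hy'⟩
    obtain ⟨b, t, htW, Q, -, -, -, hS, -, hp⟩ := hF.exists_setup_at hu ha
    have h := Q.mul_mem ((hF.img_mem_Q_iff hu ha hS hp ⟨x, hx⟩).mpr hx')
      ((hF.img_mem_Q_iff hu ha hS hp ⟨y, hy⟩).mpr hy')
    rw [← map_mul] at h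
    exact ⟨Subgroup.mul_mem _ hx hy, (hF.img_mem_Q_iff hu ha hS hp _).mp h⟩
  inv_mem' := by
    rintro x ⟨hx, hx'⟩
    obtain ⟨b, t, htW, Q, -, -, -, hS, -, hp⟩ := hF.exists_setup_at hu ha
    have h := Q.inv_mem ((hF.img_mem_Q_iff hu ha hS hp ⟨x, hx⟩).mpr hx')
    rw [← map_inv] at h
    exact ⟨inv_mem hx, (hF.img_mem_Q_iff hu ha hS hp _).mp h⟩

theorem qGrp_le : hF.qGrp hu ha ≤ wGrp Z u := fun _ hx => hx.1

theorem qGrp_fix {x : G} (hx : x ∈ hF.qGrp hu ha) : x • a = a := hx.2.1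

theorem qGrp_comm {x : G} (hx : x ∈ hF.qGrp hu ha) : u * x = x * u := wGrp_comm hx.1

theorem mem_qGrp_iff {Q : Subgroup (topGrp hF.ctx.hyp (wGrp Z u))} {t : topGrp hF.ctx.hyp (wGrp Z u)}
    (hS : IsRankOneSetup (topGrp hF.ctx.hyp (wGrp Z u)) (centres Ω Z (wGrp Z u))
      ⟨a, hF.mem_centres_w hu ha⟩ t Q) (hp : IsPGroup 2 Q) {x : G} :
    x ∈ hF.qGrp hu ha ↔ ∃ h : x ∈ wGrp Z u, img hF.ctx.hyp (wGrp Z u) ⟨x, h⟩ ∈ Q :=
  ⟨fun h => ⟨h.1, (hF.img_mem_Q_iff hu ha hS hp ⟨x, h.1⟩).mpr h.2⟩,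
    fun ⟨h, h'⟩ => ⟨h, (hF.img_mem_Q_iff hu ha hS hp ⟨x, h⟩).mp h'⟩⟩

theorem exists_qGrp_lift {Q : Subgroup (topGrp hF.ctx.hyp (wGrp Z u))} {t : topGrp hF.ctx.hyp (wGrp Z u)}
    (hS : IsRankOneSetup (topGrp hF.ctx.hyp (wGrp Z u)) (centres Ω Z (wGrp Z u))
      ⟨a, hF.mem_centres_w hu ha⟩ t Q) (hp : IsPGroup 2 Q) {y : topGrp hF.ctx.hyp (wGrp Z u)} (hy : y ∈ Q) :
    ∃ x : wGrp Z u, (x : G) ∈ hF.qGrp hu ha ∧ img hF.ctx.hyp (wGrp Z u) x = y := by
  obtain ⟨x, rfl⟩ := img_surjective (hQ := hF.ctx.hyp) (X := wGrp Z u) y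
  exact ⟨x, (hF.mem_qGrp_iff hu ha hS hp).mpr ⟨x.2, hy⟩, rfl⟩

theorem eGrp_le_qGrp : hF.eGrp a ≤ hF.qGrp hu ha := fun x hx =>
  ⟨hF.eGrp_le_wGrp hu ha hx, hF.eGrp_fix hx, 1, by rw [pow_one, pow_two, hF.eGrp_sq hx]; exact Agree.refl u 1⟩

/-- The regular normal subgroup centralises the members at the point. -/
theorem qGrp_comm_eGrp {x e : G} (hx : x ∈ hF.qGrp hu ha) (he : e ∈ hF.eGrp a) : x * e = e * x := by
  by_cases he1 : e = 1
  · rw [he1, mul_one, one_mul]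
  obtain ⟨b, t, htW, Q, -, -, -, hS, h4, hp⟩ := hF.exists_setup_at hu ha
  obtain ⟨hxW, hxQ⟩ := (hF.mem_qGrp_iff hu ha hS hp).mp hx
  have heW := hF.eGrp_le_wGrp hu ha he
  have hi := img_isInv hF.ctx.hyp (hF.isTopOdd_w hu).toIsTop (x := ⟨e, heW⟩) (hF.mem_of_mem_eGrp he he1).1
  have hc := CfsgLib.RankOne.invol_central hS h4
    (s := img hF.ctx.hyp (wGrp Z u) ⟨e, heW⟩) ⟨Subtype.ext (hF.eGrp_fix he), hi.1, hi.2⟩ hxQ
  rw [← map_mul, ← map_mul, hF.img_eq_iff hu] at hc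
  have h := hF.eGrp_conj (g := x) he
  rw [hF.qGrp_fix hu ha hx] at h
  refine mul_inv_eq_iff_eq_mul.mp (hF.eGrp_eq_of_agree hu h he ?_)
  have h1 := (hc.symm).mul_right (z := x⁻¹) (wGrp_comm (inv_mem hxW))
  simpa [mul_assoc] using h1

theorem exists_qGrp_smul {b c : Ω} (hb : u • b = b) (hba : b ≠ a) (hc : u • c = c) (hca : c ≠ a) :
    ∃ x ∈ hF.qGrp hu ha, x • b = c := by
  obtain ⟨b', t, htW, Q, -, -, -, hS, -, hp⟩ := hF.exists_setup_at hu ha
  obtain ⟨⟨y, hy⟩, hyc, -⟩ := CfsgLib.RankOne.exists_unique_Q hS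
    (b := ⟨b, hF.mem_centres_w hu hb⟩) (c := ⟨c, hF.mem_centres_w hu hc⟩)
    (fun e => hba (congrArg Subtype.val e)) (fun e => hca (congrArg Subtype.val e))
  obtain ⟨x, hx, rfl⟩ := hF.exists_qGrp_lift hu ha hS hp hy
  exact ⟨x, hx, congrArg Subtype.val hyc⟩

theorem qGrp_agree_one {x : G} (hx : x ∈ hF.qGrp hu ha) {c : Ω} (hc : u • c = c) (hca : c ≠ a) (h : x • c = c) :
    Agree Ω u x 1 := by
  obtain ⟨b', t, htW, Q, -, -, -, hS, -, hp⟩ := hF.exists_setup_at hu ha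
  obtain ⟨hxW, hxQ⟩ := (hF.mem_qGrp_iff hu ha hS hp).mp hx
  have h1 := CfsgLib.RankOne.eq_one_of_fix hS hxQ (c := ⟨c, hF.mem_centres_w hu hc⟩)
    (fun e => hca (congrArg Subtype.val e)) (Subtype.ext h)
  exact (hF.img_eq_iff hu (x := ⟨x, hxW⟩) (y := 1)).mp (h1.trans (map_one _).symm)

theorem qGrp_agree {x y : G} (hx : x ∈ hF.qGrp hu ha) (hy : y ∈ hF.qGrp hu ha) {c : Ω} (hc : u • c = c)
    (hca : c ≠ a) (h : x • c = y • c) : Agree Ω u x y := by
  have h1 := hF.qGrp_agree_one hu ha (mul_mem (inv_mem hy) hx) hc hca (by rw [mul_smul, h, inv_smul_smul])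
  simpa using h1.mul_left (z := y)

end FCtx

end CfsgLib.Bender.Q
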