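import Cfsg.Agent.Lib.Bender.Q.Full.Small

/-!
The centraliser of a full involution in the kernel at one of its fixed points: a 2-group, transitive on the other
fixed points, with squares among the members; its kernels on the fixed point sets are elementary, central and match
with each other.

Blueprint: `blueprint/bender/Q_VI.md` 2.2, 2.3.
-/

set_option autoImplicit false
set_option linter.unusedSectionVars false
set_option linter.style.haveILetI false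

universe u

namespace CfsgLib.Bender.Q

open MulAction Cfsg CfsgLib.SuzukiRankOne
open CfsgLib.Bender.TwoClosed (IsInv two mem_two smul_conj)

variable {G Ω : Type u} [Group G] [MulAction G Ω] {Z : Set G} [Finite G] [FaithfulSMul G Ω]

namespace FCtx

/-- The elements fixing `a`, centralising the members there and `u`. -/
def uGrp (hF : FCtx G Ω Z) (u : G) (a : Ω) : Subgroup G := hF.kGrp a ⊓ Subgroup.centralizer ({u} : Set G)

/-- Those of them fixing every fixed point of `u`. -/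
def uKer (hF : FCtx G Ω Z) (u : G) (a : Ω) : Subgroup G :=
  hF.uGrp u a ⊓ fixingSubgroup G {c : Ω | u • c = c}

variable (hF : FCtx G Ω Z)
include hF

theorem mem_uGrp {u : G} {a : Ω} {x : G} : x ∈ hF.uGrp u a ↔ x ∈ hF.kGrp a ∧ u * x = x * u :=
  Iff.trans Subgroup.mem_inf (and_congr Iff.rfl mem_cent_iff)

theorem mem_uKer {u : G} {a : Ω} {x : G} : x ∈ hF.uKer u a ↔ x ∈ hF.uGrp u a ∧ Agree Ω u x 1 := by
  refine Iff.trans Subgroup.mem_inf (and_congr Iff.rfl ((mem_fixingSubgroup_iff G).trans ?_))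
  simp [Agree]

theorem uKer_le {u : G} {a : Ω} : hF.uKer u a ≤ hF.uGrp u a := inf_le_left

theorem uGrp_fix {u : G} {a : Ω} {x : G} (hx : x ∈ hF.uGrp u a) : x • a = a :=
  (hF.mem_kGrp.mp (hF.mem_uGrp.mp hx).1).1

theorem uGrp_comm {u : G} {a : Ω} {x : G} (hx : x ∈ hF.uGrp u a) : u * x = x * u := (hF.mem_uGrp.mp hx).2

theorem uGrp_comm_eGrp {u : G} {a : Ω} {x e : G} (hx : x ∈ hF.uGrp u a) (he : e ∈ hF.eGrp a) : e * x = x * e :=
  (hF.mem_kGrp.mp (hF.mem_uGrp.mp hx).1).2 e he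

variable {u : G} (hu : IsB Ω u) {a : Ω} (ha : u • a = a)
include hu ha

theorem eGrp_le_uGrp : hF.eGrp a ≤ hF.uGrp u a := fun _ he =>
  hF.mem_uGrp.mpr ⟨hF.eGrp_le_kGrp a he, hF.commute_eGrp hu.1 ha he⟩

theorem qGrp_le_uGrp : hF.qGrp hu ha ≤ hF.uGrp u a := fun _ hx =>
  hF.mem_uGrp.mpr ⟨hF.mem_kGrp.mpr ⟨hF.qGrp_fix hu ha hx, fun _ he => (hF.qGrp_comm_eGrp hu ha hx he).symm⟩,
    hF.qGrp_comm hu ha hx⟩

theorem self_mem_uKer : u ∈ hF.uKer u a :=
  hF.mem_uKer.mpr ⟨hF.mem_uGrp.mpr ⟨hF.isB_mem_kGrp hu ha, rfl⟩, fun c hc => by rw [hc, one_smul]⟩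

/-- The same group belongs to the products with the members. -/
theorem uGrp_mul {e : G} (he : e ∈ hF.eGrp a) : hF.uGrp (u * e) a = hF.uGrp u a := by
  ext x
  rw [hF.mem_uGrp, hF.mem_uGrp]
  refine and_congr_right fun hx => ?_
  have hc := (hF.mem_kGrp.mp hx).2 e he
  constructor
  · intro h
    refine mul_right_cancel (b := e) ?_
    calc u * x * e = u * (e * x) := by rw [hc, mul_assoc]
      _ = x * u * e := by rw [← mul_assoc, h, mul_assoc]
  · intro h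
    rw [mul_assoc, hc, ← mul_assoc, h, mul_assoc]

theorem eGrp_inf_uKer {e : G} (he : e ∈ hF.eGrp a) (h : e ∈ hF.uKer u a) : e = 1 := by
  obtain ⟨b, hba, hub⟩ := hF.exists_other hu a
  exact hF.eGrp_semiregular he (((hF.mem_uKer.mp h).2 b hub).trans (one_smul G b)) hba

variable (hs : hF.Small)
include hs

theorem uKer_of_fix {x : G} (hx : x ∈ hF.uGrp u a) {b : Ω} (hub : u • b = b) (hba : b ≠ a) (hxb : x • b = b) :
    x ∈ hF.uKer u a :=
  hF.mem_uKer.mpr ⟨hx, hF.agree_one_of_fix hs hu ha hub hba (hF.uGrp_comm hx) (hF.mem_uGrp.mp hx).1 hxb⟩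

theorem exists_agree_qGrp {x : G} (hx : x ∈ hF.uGrp u a) : ∃ y ∈ hF.qGrp hu ha, Agree Ω u x y := by
  obtain ⟨b, hba, hub⟩ := hF.exists_other hu a
  obtain ⟨y, hy, hyb⟩ := hF.exists_qGrp_smul hu ha hub hba (fix_of_comm (hF.uGrp_comm hx) hub)
    (fun e => hba (smul_left_cancel x (e.trans (hF.uGrp_fix hx).symm)))
  refine ⟨y, hy, ?_⟩
  have hy' := hF.qGrp_le_uGrp hu ha hy
  have h := (hF.mem_uKer.mp (hF.uKer_of_fix hu ha hs (Subgroup.mul_mem _ (inv_mem hy') hx) hub hba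
    (by rw [mul_smul, ← hyb, inv_smul_smul]))).2.mul_left (z := y)
  rwa [mul_inv_cancel_left, mul_one] at h

theorem agree_one_of_odd {x : G} (hx : x ∈ hF.uGrp u a) (hodd : Odd (orderOf x)) : Agree Ω u x 1 := by
  obtain ⟨y, hy, hxy⟩ := hF.exists_agree_qGrp hu ha hs hx
  have hyu := hF.qGrp_comm hu ha hy
  obtain ⟨k, hk⟩ := hy.2.2
  let H := fixingSubgroup G {c : Ω | u • c = c}
  have hmem : ∀ {z : G}, Agree Ω u z 1 → z ∈ H := fun hz =>
    (mem_fixingSubgroup_iff G).mpr fun c hc => (hz c hc).trans (one_smul G c)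
  have h1 : y ^ 2 ^ k ∈ H := hmem hk
  have h2 : y ^ orderOf x ∈ H := hmem (by
    have h := (hxy.pow hyu (orderOf x)).symm
    rwa [pow_orderOf_eq_one] at h)
  have hy1 : y ∈ H := by
    have hcop : Nat.Coprime (2 ^ k) (orderOf x) := ((Nat.coprime_two_left.mpr hodd)).pow_left k
    have e := Nat.gcd_eq_gcd_ab (2 ^ k) (orderOf x)
    rw [hcop] at e
    have : y = (y ^ 2 ^ k) ^ Nat.gcdA (2 ^ k) (orderOf x) * (y ^ orderOf x) ^ Nat.gcdB (2 ^ k) (orderOf x) := by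
      rw [← zpow_natCast y, ← zpow_natCast y, ← zpow_mul, ← zpow_mul, ← zpow_add, ← e, Nat.cast_one, zpow_one]
    rw [this]
    exact Subgroup.mul_mem _ (zpow_mem h1 _) (zpow_mem h2 _)
  exact hxy.trans fun c hc => ((mem_fixingSubgroup_iff G).mp hy1 c hc).trans (one_smul G c).symm

/-- No element of odd order centralises a full involution and the members at one of its fixed points. -/
theorem eq_one_of_odd {x : G} (hx : x ∈ hF.uGrp u a) (hodd : Odd (orderOf x)) : x = 1 := by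
  have hag := hF.agree_one_of_odd hu ha hs hx hodd
  refine eq_of_smul_eq_smul (α := Ω) fun g => ?_
  rw [one_smul]
  by_cases hg : u • g = g
  · exact (hag g hg).trans (one_smul G g)
  obtain ⟨d, hd, hdu, hdg⟩ := (hF.existsUnique_swap hu hg).exists
  obtain ⟨p, hp⟩ := exists_fix hF.ctx.hyp hd
  have hpu := (hF.cent_iff hu hd hp).mp hdu
  have hxp : x • p = p := (hag p hpu).trans (one_smul G p)
  have hB := hF.isB_mul hu hd hdu
  have hBp : (u * d) • p = p := by rw [mul_smul, hp, hpu]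
  have hxd := hF.commute_of_fix_all hu hag hd hp hpu
  have hxB : x ∈ hF.uGrp (u * d) p := hF.mem_uGrp.mpr ⟨hF.mem_kGrp.mpr ⟨hxp, fun e he => by
    rcases hF.mem_eGrp.mp he with rfl | ⟨heZ, hep⟩
    · rw [one_mul, mul_one]
    · exact (hF.commute_of_fix_all hu hag heZ hep hpu).symm⟩, by
    rw [mul_assoc, ← hxd, ← mul_assoc, hF.uGrp_comm hx, mul_assoc]⟩
  exact (hF.agree_one_of_odd hB hBp hs hxB hodd g (by rw [mul_smul, hdg, hu.1.smul_twice])).trans (one_smul G g)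

theorem isPGroup_uGrp : IsPGroup 2 (hF.uGrp u a) := fun x => by
  obtain ⟨k, m, hm, e⟩ := Nat.exists_eq_pow_mul_and_not_dvd (orderOf_pos (x : G)).ne' 2 (by omega)
  refine ⟨k, Subtype.ext (hF.eq_one_of_odd hu ha hs (pow_mem x.2 _) ?_)⟩
  show Odd (orderOf ((x : G) ^ 2 ^ k))
  rw [orderOf_pow' (x : G) (by positivity : 2 ^ k ≠ 0), e, Nat.gcd_eq_right (Dvd.intro m rfl),
    Nat.mul_div_cancel_left _ (by positivity : 0 < 2 ^ k)]
  exact Nat.odd_iff.mpr (Nat.two_dvd_ne_zero.mp hm)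

/-- Only the identity fixes the fixed points of both `u` and its product with a member. -/
theorem eq_one_of_agree_two {x : G} (hx : x ∈ hF.uKer u a) {e : G} (he : e ∈ hF.eGrp a) (he1 : e ≠ 1)
    (h : Agree Ω (u * e) x 1) : x = 1 := by
  obtain ⟨-, hag⟩ := hF.mem_uKer.mp hx
  obtain ⟨heZ, hea⟩ := hF.mem_of_mem_eGrp he he1
  refine eq_of_smul_eq_smul (α := Ω) fun g => ?_
  rw [one_smul]
  by_cases hg : u • g = g
  · exact (hag g hg).trans (one_smul G g)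
  obtain ⟨d, hd, hdu, hdg⟩ := (hF.existsUnique_swap hu hg).exists
  obtain ⟨w, hw, hwe⟩ := invol_conj_top hF.ctx.hyp (isTop_cent hF.ctx hu (hF.four_cent hu))
    (mem_cent_iff.mpr (hF.commute_eGrp hu.1 ha he)) heZ (mem_cent_iff.mpr hdu) hd
  have hwu := wGrp_comm hw
  have hxw := hF.commute_w_of_fix_all hu hag hw
  have h1 : (u * e) • w⁻¹ • g = w⁻¹ • g := by
    calc (u * e) • w⁻¹ • g = w⁻¹ • (u * d) • g := by
          rw [← mul_smul, ← mul_smul]
          congr 1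
          calc u * e * w⁻¹ = w⁻¹ * (w * u) * e * w⁻¹ := by group
            _ = w⁻¹ * (u * d) := by rw [← hwu, ← hwe]; group
      _ = w⁻¹ • g := by rw [mul_smul, hdg, hu.1.smul_twice]
  calc x • g = x • w • w⁻¹ • g := by rw [smul_inv_smul]
    _ = w • x • w⁻¹ • g := by rw [← mul_smul, hxw, mul_smul]
    _ = g := by rw [h _ h1, one_smul, smul_inv_smul]

theorem uKer_conj {g x : G} (hg : g ∈ hF.uGrp u a) (hx : x ∈ hF.uKer u a) : g * x * g⁻¹ ∈ hF.uKer u a := by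
  obtain ⟨hxU, hag⟩ := hF.mem_uKer.mp hx
  refine hF.mem_uKer.mpr ⟨Subgroup.mul_mem _ (Subgroup.mul_mem _ hg hxU) (inv_mem hg), ?_⟩
  have h := hF.agree_conj hu (keeps_of_comm (hF.uGrp_comm hg)) hag
  rwa [mul_one, mul_inv_cancel] at h

/-- The kernels on the fixed points of different products with members commute. -/
theorem uKer_commute {e : G} (he : e ∈ hF.eGrp a) (he1 : e ≠ 1) {x y : G} (hx : x ∈ hF.uKer u a)
    (hy : y ∈ hF.uKer (u * e) a) : x * y = y * x := by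
  have hB := hF.isB_mul_eGrp hu ha he
  have hBa : (u * e) • a = a := by rw [mul_smul, hF.eGrp_fix he, ha]
  have hxU : x ∈ hF.uGrp (u * e) a := by rw [hF.uGrp_mul hu ha he]; exact hF.uKer_le hx
  have hyU : y ∈ hF.uGrp u a := by rw [← hF.uGrp_mul hu ha he]; exact hF.uKer_le hy
  have h1 : x * y * x⁻¹ * y⁻¹ ∈ hF.uKer u a := by
    rw [show x * y * x⁻¹ * y⁻¹ = x * (y * x⁻¹ * y⁻¹) by group]
    exact Subgroup.mul_mem _ hx (hF.uKer_conj hu ha hs hyU (inv_mem hx))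
  have h2 : x * y * x⁻¹ * y⁻¹ ∈ hF.uKer (u * e) a :=
    Subgroup.mul_mem _ (hF.uKer_conj hB hBa hs hxU hy) (inv_mem hy)
  have h := hF.eq_one_of_agree_two hu ha hs h1 he he1 (hF.mem_uKer.mp h2).2
  rwa [mul_inv_eq_one, mul_inv_eq_iff_eq_mul] at h

/-- The order of the group is `f` times that of its kernel. -/
theorem card_uGrp : Nat.card (hF.uGrp u a) = (fixCard Ω u - 1) * Nat.card (hF.uKer u a) := by
  haveI := finite_points hF.ctx.hyp
  obtain ⟨b, hba, hub⟩ := hF.exists_other hu a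
  rw [Subgroup.card_eq_card_quotient_mul_card_subgroup (stabilizer (hF.uGrp u a) b),
    ← Nat.card_congr (MulAction.orbitEquivQuotientStabilizer (hF.uGrp u a) b)]
  congr 1
  · rw [Nat.card_coe_set_eq, fixCard, ← Set.ncard_diff_singleton_of_mem (s := {c : Ω | u • c = c}) ha]
    congr 1
    ext c
    constructor
    · rintro ⟨⟨x, hx⟩, rfl⟩
      exact ⟨fix_of_comm (hF.uGrp_comm hx) hub,
        fun e => hba (smul_left_cancel x (e.trans (hF.uGrp_fix hx).symm))⟩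
    · rintro ⟨hc, hca⟩
      obtain ⟨x, hx, rfl⟩ := hF.exists_qGrp_smul hu ha hub hba hc hca
      exact ⟨⟨x, hF.qGrp_le_uGrp hu ha hx⟩, rfl⟩
  · refine Nat.card_congr
      { toFun := fun x => ⟨x.1.1, hF.uKer_of_fix hu ha hs x.1.2 hub hba x.2⟩
        invFun := fun x => ⟨⟨x.1, hF.uKer_le x.2⟩, ((hF.mem_uKer.mp x.2).2 b hub).trans (one_smul G b)⟩
        left_inv := fun x => rfl
        right_inv := fun x => rfl }

theorem card_uKer_mul {e : G} (he : e ∈ hF.eGrp a) :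
    Nat.card (hF.uKer (u * e) a) = Nat.card (hF.uKer u a) := by
  have hB := hF.isB_mul_eGrp hu ha he
  have hBa : (u * e) • a = a := by rw [mul_smul, hF.eGrp_fix he, ha]
  have h1 := hF.card_uGrp hu ha hs
  have h2 := hF.card_uGrp hB hBa hs
  rw [hF.uGrp_mul hu ha he, h1, hF.fixCard_eq hB hu] at h2
  have := hF.two_le_fixCard hu
  exact (Nat.eq_of_mul_eq_mul_left (by omega) h2).symm

end FCtx

end CfsgLib.Bender.Q

namespace CfsgLib.Bender.Q

open MulAction Cfsg CfsgLib.SuzukiRankOne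
open CfsgLib.Bender.TwoClosed (IsInv two mem_two smul_conj)

variable {G Ω : Type u} [Group G] [MulAction G Ω] {Z : Set G} [Finite G] [FaithfulSMul G Ω]

namespace FCtx

variable (hF : FCtx G Ω Z)
include hF

theorem uGrp_conj {u : G} {a : Ω} {g x : G} (hx : x ∈ hF.uGrp u a) :
    g * x * g⁻¹ ∈ hF.uGrp (g * u * g⁻¹) (g • a) := by
  obtain ⟨hxa, hxe⟩ := hF.mem_kGrp.mp (hF.mem_uGrp.mp hx).1
  refine hF.mem_uGrp.mpr ⟨hF.mem_kGrp.mpr ⟨smul_conj hxa, fun e he => ?_⟩, ?_⟩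
  · have h1 := hF.eGrp_conj (g := g⁻¹) he
    rw [inv_smul_smul] at h1
    calc e * (g * x * g⁻¹) = g * ((g⁻¹ * e * g⁻¹⁻¹) * x) * g⁻¹ := by group
      _ = g * (x * (g⁻¹ * e * g⁻¹⁻¹)) * g⁻¹ := by rw [hxe _ h1]
      _ = g * x * g⁻¹ * e := by group
  · rw [conj_mul, conj_mul, hF.uGrp_comm hx]

theorem uKer_conj_gen {u : G} {a : Ω} {g x : G} (hx : x ∈ hF.uKer u a) :
    g * x * g⁻¹ ∈ hF.uKer (g * u * g⁻¹) (g • a) := by
  obtain ⟨hxU, hag⟩ := hF.mem_uKer.mp hx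
  refine hF.mem_uKer.mpr ⟨hF.uGrp_conj hxU, fun c hc => ?_⟩
  have hc' : u • g⁻¹ • c = g⁻¹ • c := by
    rw [mul_smul, mul_smul] at hc
    rw [eq_inv_smul_iff, hc]
  rw [mul_smul, mul_smul, hag _ hc', one_smul, one_smul, smul_inv_smul]

variable {u : G} (hu : IsB Ω u) {a : Ω} (ha : u • a = a) (hs : hF.Small)
include hu ha hs

/-- The kernels have exponent two. -/
theorem uKer_sq {y : G} (hy : y ∈ hF.uKer u a) : y * y = 1 := by
  by_contra hy2
  obtain ⟨e, he, he1⟩ := hF.exists_mem_eGrp_ne_one a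
  have heu := hF.commute_eGrp hu.1 ha he
  have hv := hF.isB_mul_eGrp hu ha he
  have hva : (u * e) • a = a := by rw [mul_smul, hF.eGrp_fix he, ha]
  have hve : u * e * e = u := by rw [mul_assoc, hF.eGrp_sq he, mul_one]
  set v := u * e
  have hyv : y ∈ hF.uGrp v a := by rw [hF.uGrp_mul hu ha he]; exact hF.uKer_le hy
  have hkey : ∀ {w : G}, w ∈ hF.eGrp a → ¬ Agree Ω v y w := fun {w} hw h => by
    refine hy2 (hF.eq_one_of_agree_two hu ha hs (Subgroup.mul_mem _ hy hy) he he1 ?_)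
    have h2 := h.mul h (hF.commute_eGrp hv.1 hva hw)
    rwa [hF.eGrp_sq hw] at h2
  obtain ⟨z, hz, hyz⟩ := hF.exists_agree_qGrp hv hva hs hyv
  obtain ⟨b, hba, hvb⟩ := hF.exists_other hv a
  have hne : ∀ {y : G}, y ∈ hF.qGrp hv hva → y • b ≠ a := fun hy e =>
    hba (smul_left_cancel _ (e.trans (hF.qGrp_fix hv hva hy).symm))
  rcases hF.small_cases hs hv hva with hq | hq
  · obtain ⟨w, hw, hwb⟩ := hF.exists_eGrp_smul hv hva hvb hba hq
      (fix_of_comm (hF.qGrp_comm hv hva hz) hvb) (hne hz)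
    exact hkey hw (hyz.trans (hF.qGrp_agree hv hva hz (hF.eGrp_le_qGrp hv hva hw) hvb hba hwb.symm))
  obtain ⟨t, r, hm⟩ := hF.exists_match hv hva hvb hba he he1
  have hr := hm.2.2.1
  have hkeeps : ∀ {j : G}, j ∈ jGrp Z a b → Keeps Ω v j :=
    fun hj => keeps_of_comm (hF.commute_jGrp hba hv hva hvb hj)
  have hconj : ∀ {j : G}, j ∈ jGrp Z a b → j * r * j⁻¹ ∈ hF.qGrp hv hva := fun hj =>
    hF.qGrp_conj hv hva (hkeeps hj) (hF.jGrp_fix hba hj).1 hr
  have hcov : ∀ {x : G}, x ∈ hF.qGrp hv hva →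
      ∃ w ∈ hF.eGrp a, Agree Ω v x w ∨ ∃ j ∈ jGrp Z a b, Agree Ω v x (w * (j * r * j⁻¹)) := by
    intro x hx
    obtain ⟨w, hw, h | ⟨j, hj, h⟩⟩ :=
      hF.cover_two hv hva hvb hba hq he he1 hm (fix_of_comm (hF.qGrp_comm hv hva hx) hvb) (hne hx)
    · exact ⟨w, hw, Or.inl (hF.qGrp_agree hv hva hx (hF.eGrp_le_qGrp hv hva hw) hvb hba h)⟩
    · exact ⟨w, hw, Or.inr ⟨j, hj, hF.qGrp_agree hv hva hx
        (Subgroup.mul_mem _ (hF.eGrp_le_qGrp hv hva hw) (hconj hj)) hvb hba h⟩⟩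
  obtain ⟨w, hw, h | ⟨j0, hj0, h⟩⟩ := hcov hz
  · exact hkey hw (hyz.trans h)
  have hys : Agree Ω v y (w * (j0 * r * j0⁻¹)) := hyz.trans h
  have hconjE : ∀ {j x : G}, j ∈ jGrp Z a b → x ∈ hF.eGrp a → j * x * j⁻¹ ∈ hF.eGrp a := fun {j x} hj hx => by
    have := hF.eGrp_conj (g := j) hx
    rwa [(hF.jGrp_fix hba hj).1] at this
  -- the conjugates of the root commute on the fixed points
  have hrr : ∀ {j j' : G}, j ∈ jGrp Z a b → j' ∈ jGrp Z a b →
      Agree Ω v (j * r * j⁻¹ * (j' * r * j'⁻¹)) (j' * r * j'⁻¹ * (j * r * j⁻¹)) := by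
    intro j j' hj hj'
    have hk : ∀ {j : G}, j ∈ jGrp Z a b → ∃ k ∈ jGrp Z a b, ∃ w' ∈ hF.eGrp a,
        k = j * j0⁻¹ ∧ Agree Ω v (k * y * k⁻¹) (w' * (j * r * j⁻¹)) ∧
        k * y * k⁻¹ ∈ hF.uKer (v * (k * e * k⁻¹)) a := by
      intro j hj
      have hk := Subgroup.mul_mem _ hj (inv_mem hj0)
      refine ⟨_, hk, _, hconjE hk hw, rfl, ?_, ?_⟩
      · have h1 := hF.agree_conj hv (hkeeps hk) hys
        rwa [show j * j0⁻¹ * (w * (j0 * r * j0⁻¹)) * (j * j0⁻¹)⁻¹ =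
          j * j0⁻¹ * w * (j * j0⁻¹)⁻¹ * (j * r * j⁻¹) by group] at h1
      · have h1 := hF.uKer_conj_gen (g := j * j0⁻¹) hy
        rw [(hF.jGrp_fix hba hk).1] at h1
        have h2 : j * j0⁻¹ * u * (j * j0⁻¹)⁻¹ = v * (j * j0⁻¹ * e * (j * j0⁻¹)⁻¹) := by
          conv_lhs => rw [← hve]
          rw [← conj_mul, ← hF.commute_jGrp hba hv hva hvb hk, mul_inv_cancel_right]
        rwa [h2] at h1
    obtain ⟨k, hkJ, w1, hw1, hk1, hag1, hmem1⟩ := hk hj
    obtain ⟨k', hkJ', w2, hw2, hk2, hag2, hmem2⟩ := hk hj'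
    have hcomm : k * y * k⁻¹ * (k' * y * k'⁻¹) = k' * y * k'⁻¹ * (k * y * k⁻¹) := by
      rcases eq_or_ne k k' with rfl | hkk
      · rfl
      have hE := hconjE hkJ he
      have hE' := hconjE hkJ' he
      refine hF.uKer_commute (u := v * (k * e * k⁻¹)) (hF.isB_mul_eGrp hv hva hE)
        (by rw [mul_smul, hF.eGrp_fix hE, hva]) hs (e := k * e * k⁻¹ * (k' * e * k'⁻¹)) (mul_mem hE hE')
        (fun e' => hkk (hF.jGrp_conj_inj hba hkJ hkJ' he he1 ?_)) hmem1 ?_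
      · rw [mul_eq_one_iff_eq_inv.mp e', inv_eq_of_mul_eq_one_right (hF.eGrp_sq hE')]
      · rwa [mul_assoc v, ← mul_assoc (k * e * k⁻¹) (k * e * k⁻¹), hF.eGrp_sq hE, one_mul]
    set r1 := j * r * j⁻¹
    set r2 := j' * r * j'⁻¹
    have hr1 : r1 ∈ hF.qGrp hv hva := hconj hj
    have hr2 : r2 ∈ hF.qGrp hv hva := hconj hj'
    have hc1 := hF.qGrp_comm hv hva (Subgroup.mul_mem _ (hF.eGrp_le_qGrp hv hva hw1) hr1)
    have hc2 := hF.qGrp_comm hv hva (Subgroup.mul_mem _ (hF.eGrp_le_qGrp hv hva hw2) hr2)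
    have h12 := (hag1.mul hag2 hc2).symm.trans (hcomm ▸ hag2.mul hag1 hc1)
    have e1 : w1 * r1 * (w2 * r2) = w1 * w2 * (r1 * r2) := by
      rw [mul_assoc w1, ← mul_assoc r1, hF.qGrp_comm_eGrp hv hva hr1 hw2, mul_assoc w2, ← mul_assoc w1]
    have e2 : w2 * r2 * (w1 * r1) = w1 * w2 * (r2 * r1) := by
      rw [mul_assoc w2, ← mul_assoc r2, hF.qGrp_comm_eGrp hv hva hr2 hw1, mul_assoc w1, ← mul_assoc w2,
        hF.eGrp_comm hw2 hw1]
    rw [e1, e2] at h12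
    have h13 := h12.mul_left (z := (w1 * w2)⁻¹)
    rwa [inv_mul_cancel_left, inv_mul_cancel_left] at h13
  -- so the regular group is commutative
  have hall : ∀ {x x' : G}, x ∈ hF.qGrp hv hva → x' ∈ hF.qGrp hv hva → Agree Ω v (x * x') (x' * x) := by
    intro x x' hx hx'
    have hform : ∀ {x : G}, x ∈ hF.qGrp hv hva →
        ∃ w ∈ hF.eGrp a, ∃ s : G, (s = 1 ∨ ∃ j ∈ jGrp Z a b, s = j * r * j⁻¹) ∧ Agree Ω v x (w * s) := by
      intro x hx
      obtain ⟨w, hw, h | ⟨j, hj, h⟩⟩ := hcov hx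
      · exact ⟨w, hw, 1, Or.inl rfl, by rwa [mul_one]⟩
      · exact ⟨w, hw, _, Or.inr ⟨j, hj, rfl⟩, h⟩
    obtain ⟨w1, hw1, s1, hs1, h1⟩ := hform hx
    obtain ⟨w2, hw2, s2, hs2, h2⟩ := hform hx'
    have hsQ : ∀ {s : G}, (s = 1 ∨ ∃ j ∈ jGrp Z a b, s = j * r * j⁻¹) → s ∈ hF.qGrp hv hva := by
      rintro s (rfl | ⟨j, hj, rfl⟩)
      · exact one_mem _
      · exact hconj hj
    have hss : Agree Ω v (s1 * s2) (s2 * s1) := by
      rcases hs1 with rfl | ⟨j, hj, rfl⟩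
      · rw [one_mul, mul_one]; exact Agree.refl v _
      rcases hs2 with rfl | ⟨j', hj', rfl⟩
      · rw [one_mul, mul_one]; exact Agree.refl v _
      exact hrr hj hj'
    have hc1 := hF.qGrp_comm hv hva (Subgroup.mul_mem _ (hF.eGrp_le_qGrp hv hva hw1) (hsQ hs1))
    have hc2 := hF.qGrp_comm hv hva (Subgroup.mul_mem _ (hF.eGrp_le_qGrp hv hva hw2) (hsQ hs2))
    refine (h1.mul h2 hc2).trans (Agree.trans ?_ (h2.mul h1 hc1).symm)
    have e1 : w1 * s1 * (w2 * s2) = w1 * w2 * (s1 * s2) := by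
      rw [mul_assoc w1, ← mul_assoc s1, hF.qGrp_comm_eGrp hv hva (hsQ hs1) hw2, mul_assoc w2, ← mul_assoc w1]
    have e2 : w2 * s2 * (w1 * s1) = w1 * w2 * (s2 * s1) := by
      rw [mul_assoc w2, ← mul_assoc s2, hF.qGrp_comm_eGrp hv hva (hsQ hs2) hw1, mul_assoc w1, ← mul_assoc w2,
        hF.eGrp_comm hw2 hw1]
    rw [e1, e2]
    exact hss.mul_left
  obtain ⟨htW, Q, hS, -, h4, hp⟩ := hF.exists_setup hv hva hvb hba hm.1 hm.2.1
  rcases (concl hS h4).2.1 with hex | ⟨⟨X1, hX1, X2, hX2, hXX⟩, -⟩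
  · refine hF.not_rsq hv hva hvb hba hq he he1 hm ?_
    obtain ⟨hrW, hrQ⟩ := (hF.mem_qGrp_iff hv hva hS hp).mp hr
    have h1 := hex _ hrQ
    rw [← map_mul, ← map_one (img hF.ctx.hyp (wGrp Z v)), hF.img_eq_iff hv] at h1
    exact h1
  · obtain ⟨x1, hx1, rfl⟩ := hF.exists_qGrp_lift hv hva hS hp hX1
    obtain ⟨x2, hx2, rfl⟩ := hF.exists_qGrp_lift hv hva hS hp hX2
    refine hXX ?_
    rw [← map_mul, ← map_mul, hF.img_eq_iff hv]
    exact hall hx1 hx2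

/-- Squares are members at the point. -/
theorem uGrp_sq {x : G} (hx : x ∈ hF.uGrp u a) : x * x ∈ hF.eGrp a := by
  by_cases hw1 : x * x = 1
  · rw [hw1]; exact one_mem _
  obtain ⟨z, hz, hxz⟩ := hF.exists_agree_qGrp hu ha hs hx
  obtain ⟨e, he, hze⟩ := hF.exists_eGrp_sq_agree hs hu ha hz
  have hk : e * (x * x) ∈ hF.uKer u a := by
    refine hF.mem_uKer.mpr ⟨Subgroup.mul_mem _ (hF.eGrp_le_uGrp hu ha he) (Subgroup.mul_mem _ hx hx), ?_⟩
    have h := ((hxz.mul hxz (hF.qGrp_comm hu ha hz)).trans hze).mul_left (z := e)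
    rwa [hF.eGrp_sq he] at h
  have hk2 := hF.uKer_sq hu ha hs hk
  have hec : Commute e (x * x) := hF.uGrp_comm_eGrp (Subgroup.mul_mem _ hx hx) he
  have h4 : x * x * (x * x) = 1 := by
    calc x * x * (x * x) = (e * e) * (x * x * (x * x)) := by rw [hF.eGrp_sq he, one_mul]
      _ = e * (x * x) * (e * (x * x)) := by
          rw [mul_assoc e (x * x), ← mul_assoc (x * x) e, ← hec.eq, mul_assoc e (x * x), ← mul_assoc e e]
      _ = 1 := hk2
  have hxa := hF.uGrp_fix hx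
  rcases hF.isB_or_mem (x := x * x) ⟨hw1, h4⟩ (by rw [mul_smul, hxa, hxa]) with h | h
  · exact hF.mem_eGrp_of h (by rw [mul_smul, hxa, hxa])
  exfalso
  have hwa : (x * x) • a = a := by rw [mul_smul, hxa, hxa]
  have hxw : x ∈ hF.uGrp (x * x) a := hF.mem_uGrp.mpr ⟨(hF.mem_uGrp.mp hx).1, mul_assoc x x x⟩
  obtain ⟨z', hz', hxz'⟩ := hF.exists_agree_qGrp h hwa hs hxw
  have hz2 : Agree Ω (x * x) (z' * z') 1 :=
    (hxz'.mul hxz' (hF.qGrp_comm h hwa hz')).symm.trans fun c hc => by rw [hc, one_smul]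
  obtain ⟨e', he', hze'⟩ := hF.exists_eGrp_agree h hwa hz' hz2
  have hk' : e' * x ∈ hF.uKer (x * x) a := by
    refine hF.mem_uKer.mpr ⟨Subgroup.mul_mem _ (hF.eGrp_le_uGrp h hwa he') hxw, ?_⟩
    have h' := (hxz'.trans hze').mul_left (z := e')
    rwa [hF.eGrp_sq he'] at h'
  have hec' : Commute e' x := hF.uGrp_comm_eGrp hx he'
  refine hw1 ?_
  calc x * x = (e' * e') * (x * x) := by rw [hF.eGrp_sq he', one_mul]
    _ = e' * x * (e' * x) := by rw [mul_assoc e' x, ← mul_assoc x e', ← hec'.eq, mul_assoc e' x, ← mul_assoc e' e']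
    _ = 1 := hF.uKer_sq h hwa hs hk'

/-- Commutators are members at the point. -/
theorem uGrp_commutator {x y : G} (hx : x ∈ hF.uGrp u a) (hy : y ∈ hF.uGrp u a) :
    x * y * x⁻¹ * y⁻¹ ∈ hF.eGrp a := by
  rw [show x * y * x⁻¹ * y⁻¹ = (x * x) * ((x⁻¹ * y) * (x⁻¹ * y)) * (y⁻¹ * y⁻¹) by group]
  exact Subgroup.mul_mem _ (Subgroup.mul_mem _ (hF.uGrp_sq hu ha hs hx)
    (hF.uGrp_sq hu ha hs (Subgroup.mul_mem _ (inv_mem hx) hy))) (hF.uGrp_sq hu ha hs (inv_mem hy))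

/-- The kernels are central. -/
theorem uKer_central {x y : G} (hx : x ∈ hF.uKer u a) (hy : y ∈ hF.uGrp u a) : x * y = y * x := by
  have h1 : x * y * x⁻¹ * y⁻¹ ∈ hF.uKer u a := by
    rw [show x * y * x⁻¹ * y⁻¹ = x * (y * x⁻¹ * y⁻¹) by group]
    exact Subgroup.mul_mem _ hx (hF.uKer_conj hu ha hs hy (inv_mem hx))
  have h := hF.eGrp_inf_uKer hu ha (hF.uGrp_commutator hu ha hs (hF.uKer_le hx) hy) h1
  rwa [mul_inv_eq_one, mul_inv_eq_iff_eq_mul] at h

/-- The elements of square one are products of a member and an element of the kernel. -/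
theorem exists_mul_of_sq {x : G} (hx : x ∈ hF.uGrp u a) (h2 : x * x = 1) :
    ∃ e ∈ hF.eGrp a, ∃ k ∈ hF.uKer u a, x = e * k := by
  obtain ⟨z, hz, hxz⟩ := hF.exists_agree_qGrp hu ha hs hx
  have hz2 : Agree Ω u (z * z) 1 := by
    have h := (hxz.mul hxz (hF.qGrp_comm hu ha hz)).symm
    rwa [h2] at h
  obtain ⟨e, he, hze⟩ := hF.exists_eGrp_agree hu ha hz hz2
  refine ⟨e, he, e * x, hF.mem_uKer.mpr ⟨Subgroup.mul_mem _ (hF.eGrp_le_uGrp hu ha he) hx, ?_⟩, ?_⟩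
  · have h := (hxz.trans hze).mul_left (z := e)
    rwa [hF.eGrp_sq he] at h
  · rw [← mul_assoc, hF.eGrp_sq he, one_mul]

/-- The match of the kernels. -/
theorem exists_eps {v : G} (hv : v ∈ hF.uKer u a) {e : G} (he : e ∈ hF.eGrp a) :
    ∃! y : G, y ∈ hF.eGrp a ∧ v * y ∈ hF.uKer (u * e) a := by
  have hB := hF.isB_mul_eGrp hu ha he
  have hBa : (u * e) • a = a := by rw [mul_smul, hF.eGrp_fix he, ha]
  have huniq : ∀ {v y y' : G}, y ∈ hF.eGrp a → v * y ∈ hF.uKer (u * e) a → y' ∈ hF.eGrp a →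
      v * y' ∈ hF.uKer (u * e) a → y' = y := fun {v y y'} hy hvy hy' hvy' => by
    have h1 := Subgroup.mul_mem _ (inv_mem hvy) hvy'
    rw [mul_inv_rev, mul_assoc, inv_mul_cancel_left] at h1
    exact (inv_mul_eq_one.mp (hF.eGrp_inf_uKer hB hBa (mul_mem (inv_mem hy) hy') h1)).symm
  have hdec : ∀ x : hF.uKer (u * e) a, ∃ y ∈ hF.eGrp a, ∃ k ∈ hF.uKer u a, (x : G) = y * k := fun x =>
    hF.exists_mul_of_sq hu ha hs (by rw [← hF.uGrp_mul hu ha he]; exact hF.uKer_le x.2)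
      (hF.uKer_sq hB hBa hs x.2)
  choose y hy k hk hxe using hdec
  have hyk : ∀ x : hF.uKer (u * e) a, (x : G) = k x * y x := fun x =>
    (hxe x).trans (hF.uGrp_comm_eGrp (hF.uKer_le (hk x)) (hy x))
  let f : hF.uKer (u * e) a → hF.uKer u a := fun x => ⟨k x, hk x⟩
  have hf : Function.Injective f := fun x x' h => by
    have hkk : k x = k x' := congrArg Subtype.val h
    have hy' := huniq (v := k x) (hy x) (hyk x ▸ x.2) (hy x') (by rw [hkk]; exact hyk x' ▸ x'.2)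
    exact Subtype.ext (by rw [hyk x, hyk x', hy', hkk])
  obtain ⟨x, hx⟩ := ((Nat.bijective_iff_injective_and_card f).mpr ⟨hf, hF.card_uKer_mul hu ha hs he⟩).2 ⟨v, hv⟩
  have hvx : v = k x := (congrArg Subtype.val hx).symm
  exact ⟨y x, ⟨hy x, by rw [hvx, ← hyk x]; exact x.2⟩,
    fun y' hy' => huniq (hy x) (by rw [hvx, ← hyk x]; exact x.2) hy'.1 hy'.2⟩

end FCtx

end CfsgLib.Bender.Q
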