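import Cfsg.Agent.Lib.Bender.Q.Full.Dicho

/-!
The case `f = q`: the kernel of a full involution has order two, the full involutions of a Sylow subgroup at a point
lie in the translation group, and those of its elements that are not full form an abelian subgroup of index two
inverted by each of them.

Blueprint: `blueprint/bender/Q_VI.md` 5.
-/

set_option autoImplicit false
set_option linter.unusedSectionVars false
set_option linter.style.haveILetI false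
set_option linter.deprecated false

universe u

namespace CfsgLib.Bender.Q

open MulAction Cfsg
open CfsgLib.Bender.TwoClosed (IsInv two mem_two smul_conj MaxP exists_maxP mem_normalizer_of_conj
  conj_mem_of_normalizer exists_mem_normalizer)

variable {G Ω : Type u} [Group G] [MulAction G Ω] {Z : Set G} [Finite G] [FaithfulSMul G Ω]

namespace FCtx

theorem not_isB_eGrp (hF : FCtx G Ω Z) {a : Ω} {e : G} (he : e ∈ hF.eGrp a) : ¬ IsB Ω e := by
  rintro ⟨hi, c, d, hcd, hc, hd⟩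
  by_cases hca : c = a
  · exact hi.1 (hF.eGrp_semiregular he hd fun e => hcd (hca.trans e.symm))
  · exact hi.1 (hF.eGrp_semiregular he hc hca)

/-- The elements of the translation group that are not full, and what they generate. -/
def rGrp (hF : FCtx G Ω Z) (u : G) (a : Ω) : Subgroup G :=
  Subgroup.closure {x | x ∈ hF.tGrp u a ∧ ¬ IsB Ω x}

variable {hF : FCtx G Ω Z} {u : G} {a b : Ω} {T : Subgroup G} (h : hF.Std u a b T)
include h

/-- An element fixing the point and taking a kernel element into the centraliser normalises it. -/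
theorem Std.mem_nGrp_of_conj {g v : G} (hga : g • a = a) (hv : v ∈ hF.uKer u a) (hv1 : v ≠ 1)
    (hg : g * v * g⁻¹ ∈ hF.uGrp u a) : g ∈ hF.nGrp u a := by
  obtain ⟨hB, -, -⟩ := h.isB_of_mem hv hv1
  obtain ⟨e, he, v', hv', hv1', hw⟩ := h.exists_mul (hB.conj g) hg
  obtain ⟨hB', hva', -⟩ := h.isB_of_mem hv' hv1'
  refine hF.mem_nGrp.mpr ⟨hga, mem_normalizer_of_conj fun x hx => ?_⟩
  rw [← (h.groups_eq hv hv1).1] at hx
  have h1 := hF.uGrp_conj (g := g) hx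
  rwa [hga, hw, hF.uGrp_mul hB' hva' he, (h.groups_eq hv' hv1').1] at h1

/-- An element of the translation group fixing the second point centralises the involution. -/
theorem Std.mem_uGrp_of_fix_right {z : G} (hz : z ∈ hF.tGrp u a) (hzb : z • b = b) : z ∈ hF.uGrp u a := by
  obtain ⟨hzK, m, hm, hmap⟩ := h.mem_tGrp.mp hz
  have h1 := hmap 1 (one_mem _)
  rw [mul_one] at h1
  have h2 := h1.fix (c := b) (by rw [mul_one, h.fix_b])
  rw [hzb, mul_smul] at h2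
  have hm1 : m = 1 := hF.eGrp_semiregular hm (smul_left_cancel u (h2.trans h.fix_b.symm)) h.ne
  rw [hm1] at h1
  exact h.mem_uGrp_of_fix hzK.1 hzK.2 h1

/-- A Sylow subgroup at the point containing `T` and the translation group. -/
theorem Std.exists_sylow : ∃ S, MaxP 2 (stabilizer G a) S ∧ T ≤ S ∧ hF.tGrp u a ≤ S := by
  haveI : Fact (Nat.Prime 2) := ⟨Nat.prime_two⟩
  have hp : IsPGroup 2 ↥(T ⊔ hF.tGrp u a) :=
    IsPGroup.to_sup_of_normal_right' h.maxP.isPGroup h.isPGroup_tGrp fun t ht =>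
      h.nGrp_le_normalizer (h.sylow_le_nGrp ht)
  obtain ⟨S, hle, hS⟩ := exists_maxP hp (K := stabilizer G a)
    (sup_le (fun t ht => mem_stabilizer_iff.mpr (mem_two.mp (h.maxP.le ht)).1)
      fun x hx => mem_stabilizer_iff.mpr (hF.mem_nGrp.mp ((h.mem_tGrp.mp hx).1).1).1)
  exact ⟨S, hS, le_sup_left.trans hle, le_sup_right.trans hle⟩

section Linear

variable (hq : fixCard Ω u = Nat.card (hF.eGrp a) + 1)
include hq

theorem Std.card_points_lin :
    Nat.card Ω = Nat.card (hF.eGrp a) * Nat.card (hF.eGrp a) * Nat.card (hF.eGrp a) + 1 := by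
  obtain ⟨f, -, hf, hn⟩ := hF.exists_f a
  have hfu := hf u h.isB
  have h4 := hF.four_le_card a
  rw [hn, show f = Nat.card (hF.eGrp a) by omega]
  congr 1
  obtain ⟨k, hk⟩ : ∃ k, Nat.card (hF.eGrp a) = k + 1 := ⟨Nat.card (hF.eGrp a) - 1, by omega⟩
  rw [hk, Nat.add_sub_cancel]
  ring

theorem Std.card_off_lin :
    Nat.card {c : Ω // c ≠ a} = Nat.card (hF.eGrp a) * Nat.card (hF.eGrp a) * Nat.card (hF.eGrp a) := by
  classical
  haveI := finite_points hF.ctx.hyp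
  haveI := Fintype.ofFinite Ω
  have h1 := h.card_points_lin hq
  rw [Nat.card_eq_fintype_card] at h1 ⊢
  rw [Fintype.card_subtype_compl, Fintype.card_subtype_eq, h1, Nat.add_sub_cancel]

/-- The fixed points off `a` of a full involution form one orbit of the members. -/
theorem Std.line {w : G} (hw : IsB Ω w) (hwa : w • a = a) {c d : Ω} (hc : w • c = c) (hca : c ≠ a)
    (hd : w • d = d) (hda : d ≠ a) : ∃ x ∈ hF.eGrp a, x • c = d :=
  hF.exists_eGrp_smul hw hwa hc hca (by rw [hF.fixCard_eq hw h.isB, hq]) hd hda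

theorem Std.uGrp_dec {x : G} (hx : x ∈ hF.uGrp u a) : ∃ e ∈ hF.eGrp a, ∃ v ∈ hF.uKer u a, x = e * v := by
  obtain ⟨e, he, heb⟩ := h.line hq h.isB h.fix_a h.fix_b h.ne
    (fix_of_comm (hF.uGrp_comm hx) h.fix_b) (fun e => h.ne (smul_left_cancel x (e.trans (hF.uGrp_fix hx).symm)))
  refine ⟨e, he, e⁻¹ * x, ?_, (mul_inv_cancel_left e x).symm⟩
  refine hF.uKer_of_fix h.isB h.fix_a h.small
    (Subgroup.mul_mem _ (inv_mem (hF.eGrp_le_uGrp h.isB h.fix_a he)) hx) h.fix_b h.ne ?_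
  rw [mul_smul, ← heb, inv_smul_smul]

theorem Std.uGrp_sq_one {x : G} (hx : x ∈ hF.uGrp u a) : x * x = 1 := by
  obtain ⟨e, he, v, hv, rfl⟩ := h.uGrp_dec hq hx
  rw [show e * v * (e * v) = e * (v * e) * v by group, ← hF.uGrp_comm_eGrp (hF.uKer_le hv) he,
    show e * (e * v) * v = e * e * (v * v) by group, hF.eGrp_sq he, hF.uKer_sq h.isB h.fix_a h.small hv, mul_one]

theorem Std.exists_trans {S : Subgroup G} (hS : MaxP 2 (stabilizer G a) S) {c : Ω} (hca : c ≠ a) :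
    ∃ s ∈ S, s • b = c := by
  haveI := finite_points hF.ctx.hyp
  obtain ⟨i, hi⟩ := hF.exists_pow_card_eGrp a
  have h1 : 2 ^ (i + i + i) = Nat.card Ω - 1 := by
    rw [h.card_points_lin hq, Nat.add_sub_cancel, hi, pow_add, pow_add]
  have h2 := hF.two_pow_dvd_orbit h.ne hS (dvd_of_eq h1)
  let f : orbit S b → {d : Ω // d ≠ a} := fun x => ⟨x.1, by
    obtain ⟨s, hs⟩ := x.2
    intro e
    exact h.ne (smul_left_cancel (s : G) ((hs.trans e).trans (mem_stabilizer_iff.mp (hS.le s.2)).symm))⟩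
  have hf : Function.Injective f := fun x y e => Subtype.ext (congrArg Subtype.val e :)
  have h3 : Nat.card (orbit S b) = Nat.card {d : Ω // d ≠ a} := by
    refine le_antisymm (Nat.card_le_card_of_injective f hf) ?_
    rw [h.card_off_lin hq]
    refine le_of_eq_of_le ?_ (Nat.le_of_dvd (by haveI := (nonempty_orbit (M := S) b).to_subtype; exact Nat.card_pos) h2)
    rw [h1, h.card_points_lin hq, Nat.add_sub_cancel]
  obtain ⟨⟨d, s, hs⟩, hd⟩ := ((Nat.bijective_iff_injective_and_card f).mpr ⟨hf, h3⟩).2 ⟨c, hca⟩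
  exact ⟨s, s.2, hs.trans (congrArg Subtype.val hd)⟩

/-- Not all full involutions of a Sylow subgroup lie in the centraliser. -/
theorem Std.fulls_not_le {S : Subgroup G} (hS : MaxP 2 (stabilizer G a) S) (hTS : T ≤ S) :
    ∃ w ∈ S, IsB Ω w ∧ w ∉ hF.uGrp u a := by
  by_contra hno
  push Not at hno
  haveI := finite_points hF.ctx.hyp
  have hp : ∀ x : hF.eGrp a, ∃ c : Ω, c ≠ a ∧ (u * (x : G)) • c = c := fun x =>
    hF.exists_other (hF.isB_mul_eGrp h.isB h.fix_a x.2) a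
  choose p hpa hpf using hp
  have hsurj : Function.Surjective (fun xy : hF.eGrp a × hF.eGrp a =>
      (⟨(xy.2 : G) • p xy.1, fun e => hpa xy.1 (smul_left_cancel (xy.2 : G)
        (e.trans (hF.eGrp_fix xy.2.2).symm))⟩ : {c : Ω // c ≠ a})) := by
    rintro ⟨c, hca⟩
    obtain ⟨s, hs, hsb⟩ := h.exists_trans hq hS hca
    have hwB := h.isB.conj s
    have hwS : s * u * s⁻¹ ∈ S := Subgroup.mul_mem _ (Subgroup.mul_mem _ hs (hTS h.mem)) (inv_mem hs)
    obtain ⟨e, he, v, hv, hv1, hw⟩ := h.exists_mul hwB (hno _ hwS hwB)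
    obtain ⟨j, hj⟩ := h.exists_par hv hv1
    have hx : j⁻¹ * e * j ∈ hF.eGrp a := by
      have h1 := h.conj_eGrp (inv_mem hj.1) he
      rwa [inv_inv] at h1
    have h2 := h.fix_eq hv hv1 hj hx
    rw [show j * (j⁻¹ * e * j) * j⁻¹ = e by group, ← hw] at h2
    have h3 : (u * (j⁻¹ * e * j)) • c = c := h2.le (show (s * u * s⁻¹) • c = c from hsb ▸ smul_conj h.fix_b)
    obtain ⟨y, hy, hyc⟩ := h.line hq (hF.isB_mul_eGrp h.isB h.fix_a hx)
      (by rw [mul_smul, hF.eGrp_fix hx, h.fix_a]) (hpf ⟨_, hx⟩) (hpa ⟨_, hx⟩) h3 hca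
    exact ⟨⟨⟨_, hx⟩, ⟨y, hy⟩⟩, Subtype.ext hyc⟩
  have h1 := Nat.card_le_card_of_surjective _ hsurj
  rw [Nat.card_prod, h.card_off_lin hq] at h1
  have h4 := hF.four_le_card a
  have h5 : Nat.card (hF.eGrp a) * Nat.card (hF.eGrp a) * 4 ≤
      Nat.card (hF.eGrp a) * Nat.card (hF.eGrp a) * Nat.card (hF.eGrp a) := Nat.mul_le_mul_left _ h4
  have h6 : 0 < Nat.card (hF.eGrp a) * Nat.card (hF.eGrp a) := Nat.mul_pos (by omega) (by omega)
  omega

theorem Std.all_translations :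
    ∀ y ∈ hF.eGrp a, ∃ g ∈ hF.tGrp u a, ∀ x ∈ hF.eGrp a, Maps Ω u g x (y * x) := by
  refine h.translations.resolve_left fun heq => ?_
  haveI : Fact (Nat.Prime 2) := ⟨Nat.prime_two⟩
  obtain ⟨S, hS, hTS, htS⟩ := h.exists_sylow
  obtain ⟨w, hwS, hwB, hw⟩ := h.fulls_not_le hq hS hTS
  have hle : hF.uGrp u a ≤ S ⊓ hF.kGrp a :=
    le_inf (h.uGrp_le_tGrp.trans htS) fun x hx => (hF.mem_uGrp.mp hx).1
  obtain ⟨g, hgY, hg, hgn⟩ := exists_mem_normalizer (p := 2) (hS.isPGroup.to_le inf_le_left)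
    (lt_of_le_of_ne hle fun e => hw (e ▸ Subgroup.mem_inf.mpr
      ⟨hwS, hF.isB_mem_kGrp hwB (mem_stabilizer_iff.mp (hS.le hwS))⟩))
  refine hg (heq ▸ ?_)
  rw [h.tGrp_eq]
  exact ⟨hF.mem_nGrp.mpr ⟨mem_stabilizer_iff.mp (hS.le hgY.1), hgn⟩, hgY.2⟩

theorem Std.tGrp_sq_mem {y : G} (hy : y ∈ hF.tGrp u a) : y * y ∈ hF.eGrp a := by
  obtain ⟨hyK, m, hm, hmap⟩ := h.mem_tGrp.mp hy
  obtain ⟨e, he, v, hv, hd⟩ := h.uGrp_dec hq (h.tGrp_sq hy)
  by_cases hv1 : v = 1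
  · rw [hd, hv1, mul_one]; exact he
  obtain ⟨j, hj⟩ := h.exists_par hv hv1
  have h1 := h.tGrp_conj_uKer hy hm hmap hv hv1 hj
  have hye : y * e * y⁻¹ = e :=
    mul_inv_eq_iff_eq_mul.mpr ((hF.mem_kGrp.mp hyK.2).2 e he).symm
  have h2 : e * v = e * v * (j * m * j⁻¹) := by
    rw [mul_assoc e v, ← h1]
    conv_rhs => rw [← hye]
    rw [conj_mul, ← hd]
    group
  have h3 : m = 1 := by
    have h4 := left_eq_mul.mp h2
    exact conj_eq_one_iff.mp h4
  have h4 := hmap 1 (one_mem _)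
  rw [h3, one_mul] at h4
  rw [h.uGrp_sq_one hq (h.mem_uGrp_of_fix hyK.1 hyK.2 h4)]
  exact one_mem _

/-- The involutions of the translation group with the same translation differ by members. -/
theorem Std.same_class {x y m : G} (hx : x ∈ hF.tGrp u a) (hy : y ∈ hF.tGrp u a) (hx2 : x * x = 1)
    (hy2 : y * y = 1) (hm : m ∈ hF.eGrp a) (hm1 : m ≠ 1) (hmx : Maps Ω u x 1 m) (hmy : Maps Ω u y 1 m) :
    y⁻¹ * x ∈ hF.eGrp a := by
  obtain ⟨hyK, m', hm', hmap⟩ := h.mem_tGrp.mp hy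
  obtain rfl := h.trans_unique hm hm' hmy hmap
  have hxK := (h.mem_tGrp.mp hx).1
  obtain ⟨e, he, v, hv, hd⟩ := h.uGrp_dec hq (h.mem_uGrp_of_fix (Subgroup.mul_mem _ (inv_mem hyK.1) hxK.1)
    (Subgroup.mul_mem _ (inv_mem hyK.2) hxK.2) (hmx.mul hmy.inv))
  by_cases hv1 : v = 1
  · rw [hd, hv1, mul_one]; exact he
  exfalso
  obtain ⟨j, hj⟩ := h.exists_par hv hv1
  have h1 := h.tGrp_conj_uKer hy hm hmap hv hv1 hj
  have hye : y * e * y⁻¹ = e :=
    mul_inv_eq_iff_eq_mul.mpr ((hF.mem_kGrp.mp hyK.2).2 e he).symm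
  have hd' : x = y * (e * v) := by rw [← hd, mul_inv_cancel_left]
  have h2 : x * x = j * m * j⁻¹ := by
    rw [hd', show y * (e * v) * (y * (e * v)) = (y * e * y⁻¹) * (y * v * y⁻¹) * (y * y) * (e * v) by group,
      hye, h1, hy2, mul_one, show e * (v * (j * m * j⁻¹)) * (e * v) = e * v * ((j * m * j⁻¹) * e) * v by group,
      hF.eGrp_comm (h.conj_eGrp hj.1 hm) he, show e * v * (e * (j * m * j⁻¹)) * v =
        e * (v * e) * ((j * m * j⁻¹) * v) by group, ← hF.uGrp_comm_eGrp (hF.uKer_le hv) he,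
      hF.uGrp_comm_eGrp (hF.uKer_le hv) (h.conj_eGrp hj.1 hm),
      show e * (e * v) * (v * (j * m * j⁻¹)) = (e * e) * (v * v) * (j * m * j⁻¹) by group,
      hF.eGrp_sq he, hF.uKer_sq h.isB h.fix_a h.small hv, one_mul, one_mul]
  rw [hx2] at h2
  exact hm1 (conj_eq_one_iff.mp h2.symm)

/-- Some element normalising the translation group moves the centraliser. -/
theorem Std.exists_mover :
    ∃ g, g • a = a ∧ g ∈ Subgroup.normalizer (hF.tGrp u a : Set G) ∧ g ∉ hF.nGrp u a := by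
  haveI : Fact (Nat.Prime 2) := ⟨Nat.prime_two⟩
  obtain ⟨S, hS, hTS, htS⟩ := h.exists_sylow
  have hle : hF.tGrp u a ≤ S ⊓ hF.kGrp a := le_inf htS fun x hx => (h.mem_tGrp.mp hx).1.2
  by_cases heq : hF.tGrp u a = S ⊓ hF.kGrp a
  · obtain ⟨w, hwS, hwB, hw⟩ := h.fulls_not_le hq hS hTS
    have hwa := mem_stabilizer_iff.mp (hS.le hwS)
    obtain ⟨c, hca, hwc⟩ := hF.exists_other hwB a
    obtain ⟨s, hs, hsb⟩ := h.exists_trans hq hS hca
    have hsn : s ∈ Subgroup.normalizer (hF.tGrp u a : Set G) := mem_normalizer_of_conj fun x hx => by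
      rw [heq] at hx ⊢
      exact ⟨Subgroup.mul_mem _ (Subgroup.mul_mem _ hs hx.1) (inv_mem hs),
        hF.kGrp_normal (mem_stabilizer_iff.mp (hS.le hs)) hx.2⟩
    refine ⟨s, mem_stabilizer_iff.mp (hS.le hs), hsn, fun hn => hw ?_⟩
    -- `s⁻¹ * w * s` is full in the translation group and fixes `b`
    have hsi := inv_mem hsn
    have hwt : w ∈ hF.tGrp u a := heq ▸ Subgroup.mem_inf.mpr ⟨hwS, hF.isB_mem_kGrp hwB hwa⟩
    have h1 : s⁻¹ * w * s ∈ hF.uGrp u a := h.mem_uGrp_of_fix_right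
      (by have := conj_mem_of_normalizer hsi hwt; rwa [inv_inv] at this)
      (by rw [mul_smul, mul_smul, hsb, hwc, inv_smul_eq_iff, hsb])
    have h2 := conj_mem_of_normalizer (hF.mem_nGrp.mp hn).2 h1
    rwa [show s * (s⁻¹ * w * s) * s⁻¹ = w by group] at h2
  · obtain ⟨g, hgY, hg, hgn⟩ := exists_mem_normalizer (p := 2) (hS.isPGroup.to_le inf_le_left)
      (lt_of_le_of_ne hle heq)
    exact ⟨g, mem_stabilizer_iff.mp (hS.le hgY.1), hgn, fun hn => hg (h.tGrp_eq ▸ Subgroup.mem_inf.mpr ⟨hn, hgY.2⟩)⟩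

/-- The torus is free on the moved centralisers. -/
theorem Std.torus_eq_one {g j : G} (hga : g • a = a) (hgn : g ∈ Subgroup.normalizer (hF.tGrp u a : Set G))
    (hg : g ∉ hF.nGrp u a) (hj : j ∈ jGrp Z a b) (hn : g⁻¹ * j * g ∈ hF.nGrp u a) : j = 1 := by
  haveI := finite_points hF.ctx.hyp
  let X : Set Ω := {c | c ≠ a ∧ ∃ x ∈ hF.eGrp a, (u * x) • g⁻¹ • c = g⁻¹ • c}
  obtain ⟨hja, -⟩ := hF.jGrp_fix h.ne hj
  have hX : ∀ c ∈ X, j • c ∈ X := by
    rintro c ⟨hca, x, hx, hc⟩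
    refine ⟨fun e => hca (smul_left_cancel j (e.trans hja.symm)), ?_⟩
    obtain ⟨y, ⟨hy, hmap⟩, -⟩ := h.exists_maps hn hx
    refine ⟨y, hy, ?_⟩
    have h1 := hmap.fix hc
    rwa [show (g⁻¹ * j * g) • g⁻¹ • c = g⁻¹ • j • c by
      rw [← mul_smul, mul_inv_cancel_right, mul_smul]] at h1
  have hfree : ∀ c ∈ X, ∀ m : ℕ, j ^ m • c = c → j ^ m = 1 := by
    rintro c ⟨hca, x, hx, hc⟩ m hm
    by_contra hm1
    obtain rfl : c = b := (hF.jGrp_fix_only h.ne (pow_mem hj m) hm1 hm).resolve_left hca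
    have hux : u * x ∈ hF.tGrp u a := h.uGrp_le_tGrp (Subgroup.mul_mem _
      (hF.uKer_le (hF.self_mem_uKer h.isB h.fix_a)) (hF.eGrp_le_uGrp h.isB h.fix_a hx))
    have h1 : g * (u * x) * g⁻¹ ∈ hF.uGrp u a := h.mem_uGrp_of_fix_right (conj_mem_of_normalizer hgn hux)
      (by rw [mul_smul, mul_smul, hc, smul_inv_smul])
    have hgx : g * x * g⁻¹ ∈ hF.uGrp u a := hF.eGrp_le_uGrp h.isB h.fix_a (by
      have := hF.eGrp_conj (g := g) hx
      rwa [hga] at this)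
    refine hg (h.mem_nGrp_of_conj hga (hF.self_mem_uKer h.isB h.fix_a) h.isB.1.1 ?_)
    have h2 := Subgroup.mul_mem _ h1 (inv_mem hgx)
    rwa [show g * (u * x) * g⁻¹ * (g * x * g⁻¹)⁻¹ = g * u * g⁻¹ by group] at h2
  have hp : ∀ x : hF.eGrp a, ∃ c : Ω, c ≠ a ∧ (u * (x : G)) • c = c := fun x =>
    hF.exists_other (hF.isB_mul_eGrp h.isB h.fix_a x.2) a
  choose p hpa hpf using hp
  have hmem : ∀ x y : hF.eGrp a, g • (y : G) • p x ∈ X := fun x y => by
    refine ⟨fun e => hpa x ?_, x, x.2, ?_⟩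
    · refine smul_left_cancel (y : G) (smul_left_cancel g ?_)
      rw [e, hF.eGrp_fix y.2, hga]
    · rw [inv_smul_smul, ← mul_smul, ← hF.commute_eGrp (hF.isB_mul_eGrp h.isB h.fix_a x.2).1
        (by rw [mul_smul, hF.eGrp_fix x.2, h.fix_a]) y.2 |>.symm, mul_smul, hpf]
  have hcard : Nat.card X = Nat.card (hF.eGrp a) * Nat.card (hF.eGrp a) := by
    rw [← Nat.card_prod]
    refine (Nat.card_eq_of_bijective (fun xy : hF.eGrp a × hF.eGrp a =>
      (⟨g • (xy.2 : G) • p xy.1, hmem xy.1 xy.2⟩ : X)) ⟨?_, ?_⟩).symm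
    · rintro ⟨x, y⟩ ⟨x', y'⟩ e
      have h1 : (y : G) • p x = (y' : G) • p x' := smul_left_cancel g (congrArg Subtype.val e :)
      obtain ⟨h2a, x1, -, -⟩ := hmem x y
      have hfx : ∀ x y : hF.eGrp a, (u * (x : G)) • (y : G) • p x = (y : G) • p x := fun x y => by
        rw [← mul_smul, hF.commute_eGrp (hF.isB_mul_eGrp h.isB h.fix_a x.2).1
          (by rw [mul_smul, hF.eGrp_fix x.2, h.fix_a]) y.2, mul_smul, hpf]
      have hya : (y : G) • p x ≠ a := fun e => hpa x (smul_left_cancel (y : G) (e.trans (hF.eGrp_fix y.2).symm))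
      have hxx : x = x' := by
        have h3 := hfx x' y'
        rw [← h1] at h3
        have h4 := hfx x y
        rw [mul_smul] at h3 h4
        have h5 : (x : G) • (y : G) • p x = (x' : G) • (y : G) • p x := smul_left_cancel u (h4.trans h3.symm)
        have h6 := hF.eGrp_semiregular (mul_mem (inv_mem x'.2) x.2) (d := (y : G) • p x)
          (by rw [mul_smul, h5, inv_smul_smul]) hya
        exact Subtype.ext (inv_mul_eq_one.mp h6).symm
      subst hxx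
      have h6 := hF.eGrp_semiregular (mul_mem (inv_mem y'.2) y.2) (d := p x)
        (by rw [mul_smul, h1, inv_smul_smul]) (hpa x)
      exact Prod.ext rfl (Subtype.ext (inv_mul_eq_one.mp h6).symm)
    · rintro ⟨c, hca, x, hx, hc⟩
      obtain ⟨y, hy, hyc⟩ := h.line hq (hF.isB_mul_eGrp h.isB h.fix_a hx)
        (by rw [mul_smul, hF.eGrp_fix hx, h.fix_a]) (hpf ⟨x, hx⟩) (hpa ⟨x, hx⟩) hc
        (fun e => hca (by rw [← hga, ← e, smul_inv_smul]))
      exact ⟨⟨⟨x, hx⟩, ⟨y, hy⟩⟩, Subtype.ext (by show g • y • p ⟨x, hx⟩ = c; rw [hyc, smul_inv_smul])⟩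
  haveI : Finite X := inferInstance
  have hdvd := CfsgLib.Bender.Ext.orderOf_dvd_card hX hfree
  obtain ⟨i, hi⟩ := hF.exists_pow_card_eGrp a
  rw [hcard, hi, ← pow_add] at hdvd
  obtain ⟨k, -, hk⟩ := (Nat.dvd_prime_pow Nat.prime_two).mp hdvd
  refine orderOf_eq_one_iff.mp ?_
  rcases k with _ | k
  · rw [hk, pow_zero]
  · exact absurd (hF.odd_orderOf_mem_jGrp h.ne hj)
      (by rw [hk, Nat.not_odd_iff_even]; exact (Nat.even_pow).mpr ⟨even_two, k.succ_ne_zero⟩)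

/-- The kernel has order two and every translation belongs to a full involution. -/
theorem Std.kernel_two :
    (∀ v ∈ hF.uKer u a, v = 1 ∨ v = u) ∧
      ∀ m ∈ hF.eGrp a, ∃ w ∈ hF.tGrp u a, IsB Ω w ∧ Maps Ω u w 1 m := by
  classical
  obtain ⟨g, hga, hgn, hg⟩ := h.exists_mover hq
  have hin : ∀ (j v : G), j ∈ jGrp Z a b → v ∈ hF.uKer u a → v ≠ 1 →
      ∃ m, j * (g * v * g⁻¹) * j⁻¹ ∈ hF.tGrp u a ∧ IsB Ω (j * (g * v * g⁻¹) * j⁻¹) ∧
        m ∈ hF.eGrp a ∧ m ≠ 1 ∧ Maps Ω u (j * (g * v * g⁻¹) * j⁻¹) 1 m := by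
    intro j v hj hv hv1
    have h1 := h.tGrp_conj (h.jGrp_le_nGrp hj) (conj_mem_of_normalizer hgn (h.uGrp_le_tGrp (hF.uKer_le hv)))
    obtain ⟨hK, m, hm, hmap⟩ := h.mem_tGrp.mp h1
    have hmap1 := hmap 1 (one_mem _)
    rw [mul_one] at hmap1
    refine ⟨m, h1, ((h.isB_of_mem hv hv1).1.conj g).conj j, hm, fun e => hg ?_, hmap1⟩
    rw [e] at hmap1
    refine h.mem_nGrp_of_conj hga hv hv1 ?_
    have h2 := conj_mem_of_normalizer (hF.mem_nGrp.mp (h.jGrp_le_nGrp (inv_mem hj))).2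
      (h.mem_uGrp_of_fix hK.1 hK.2 hmap1)
    rwa [show j⁻¹ * (j * (g * v * g⁻¹) * j⁻¹) * j⁻¹⁻¹ = g * v * g⁻¹ by group] at h2
  choose! M hFt hFB hM hM1 hMm using hin
  have hu := hF.self_mem_uKer h.isB h.fix_a
  have hinj : ∀ (j j' v v' : G), j ∈ jGrp Z a b → j' ∈ jGrp Z a b → v ∈ hF.uKer u a → v ≠ 1 →
      v' ∈ hF.uKer u a → v' ≠ 1 → M j v = M j' v' → j = j' ∧ v = v' := by
    intro j j' v v' hj hj' hv hv1 hv' hv1' he
    have hsame := h.same_class hq (hFt j v hj hv hv1) (hFt j' v' hj' hv' hv1') (hFB j v hj hv hv1).1.2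
      (hFB j' v' hj' hv' hv1').1.2 (hM j v hj hv hv1) (hM1 j v hj hv hv1) (hMm j v hj hv hv1)
      (he ▸ hMm j' v' hj' hv' hv1')
    have hn : g⁻¹ * (j'⁻¹ * j) * g ∈ hF.nGrp u a := by
      refine h.mem_nGrp_of_conj ?_ hv hv1 ?_
      · rw [mul_smul, mul_smul, hga, mul_smul, (hF.jGrp_fix h.ne hj).1,
          (hF.jGrp_fix h.ne (inv_mem hj')).1, inv_smul_eq_iff, hga]
      · have h1 : (j' * g)⁻¹ • a = a := by
          rw [inv_smul_eq_iff, mul_smul, hga, (hF.jGrp_fix h.ne hj').1]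
        have h2 := hF.eGrp_conj (g := (j' * g)⁻¹) hsame
        rw [h1] at h2
        have h3 := Subgroup.mul_mem _ (hF.uKer_le hv') (hF.eGrp_le_uGrp h.isB h.fix_a h2)
        refine Eq.mp (congrArg (· ∈ hF.uGrp u a) ?_) h3
        group
    have hjj : j = j' := (inv_mul_eq_one.mp
      (h.torus_eq_one hq hga hgn hg (mul_mem (inv_mem hj') hj) hn)).symm
    subst hjj
    refine ⟨rfl, ?_⟩
    have h2 := hF.eGrp_conj (g := (j * g)⁻¹) hsame
    rw [show ((j * g)⁻¹ : G) • a = a by rw [inv_smul_eq_iff, mul_smul, hga, (hF.jGrp_fix h.ne hj).1],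
      show (j * g)⁻¹ * ((j * (g * v' * g⁻¹) * j⁻¹)⁻¹ * (j * (g * v * g⁻¹) * j⁻¹)) * (j * g)⁻¹⁻¹ = v'⁻¹ * v by
        group] at h2
    exact (inv_mul_eq_one.mp (hF.eGrp_inf_uKer h.isB h.fix_a h2 (mul_mem (inv_mem hv') hv))).symm
  refine ⟨fun v hv => ?_, fun m hm => ?_⟩
  · by_contra hno
    push Not at hno
    let f : Bool × jGrp Z a b → {m : hF.eGrp a // m ≠ 1} := fun x =>
      have hw : cond x.1 v u ∈ hF.uKer u a ∧ cond x.1 v u ≠ 1 := by
        cases x.1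
        · exact ⟨hu, h.isB.1.1⟩
        · exact ⟨hv, hno.1⟩
      ⟨⟨M x.2 (cond x.1 v u), hM _ _ x.2.2 hw.1 hw.2⟩,
        fun e => hM1 _ _ x.2.2 hw.1 hw.2 (congrArg Subtype.val e)⟩
    have hf : Function.Injective f := by
      rintro ⟨c, j⟩ ⟨c', j'⟩ e
      have hw : ∀ c : Bool, cond c v u ∈ hF.uKer u a ∧ cond c v u ≠ 1 := by
        rintro (_ | _)
        · exact ⟨hu, h.isB.1.1⟩
        · exact ⟨hv, hno.1⟩
      obtain ⟨h1, h2⟩ := hinj _ _ _ _ j.2 j'.2 (hw c).1 (hw c).2 (hw c').1 (hw c').2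
        (congrArg (fun m : {m : hF.eGrp a // m ≠ 1} => ((m : hF.eGrp a) : G)) e)
      refine Prod.ext ?_ (Subtype.ext h1)
      cases c <;> cases c'
      · rfl
      · exact absurd h2.symm hno.2
      · exact absurd h2 hno.2
      · rfl
    have h1 := Nat.card_le_card_of_injective f hf
    have h2 : Nat.card {m : hF.eGrp a // m ≠ 1} + 1 = Nat.card (hF.eGrp a) := by
      haveI := Fintype.ofFinite (hF.eGrp a)
      rw [Nat.card_eq_fintype_card, Nat.card_eq_fintype_card, Fintype.card_subtype_compl, Fintype.card_subtype_eq]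
      have := Fintype.card_pos (α := hF.eGrp a)
      omega
    have h3 := hF.card_jGrp (a := a) (b := b) h.ne
    have h4 := hF.four_le_card a
    rw [Nat.card_prod, show Nat.card Bool = 2 by simp] at h1
    omega
  · by_cases hm1 : m = 1
    · exact ⟨u, h.uGrp_le_tGrp (hF.uKer_le hu), h.isB, by rw [hm1]; exact h.maps_uGrp (hF.uKer_le hu) (one_mem _)⟩
    obtain ⟨j, hj, hjm⟩ := hF.exists_jGrp_eq h.ne (hM 1 u (one_mem _) hu h.isB.1.1)
      (hM1 1 u (one_mem _) hu h.isB.1.1) hm hm1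
    refine ⟨_, h.tGrp_conj (h.jGrp_le_nGrp hj) (hFt 1 u (one_mem _) hu h.isB.1.1),
      (hFB 1 u (one_mem _) hu h.isB.1.1).conj j, ?_⟩
    have h0 := h.maps_jGrp (x := (1 : G)) (inv_mem hj)
    rw [mul_one, inv_inv, inv_mul_cancel] at h0
    have h1 := (h0.mul (hMm 1 u (one_mem _) hu h.isB.1.1)).mul (h.maps_jGrp hj)
    rwa [← mul_assoc, hjm] at h1

theorem Std.card_uKer_two : Nat.card (hF.uKer u a) = 2 := by
  refine Nat.card_eq_two_iff.mpr ⟨1, ⟨u, hF.self_mem_uKer h.isB h.fix_a⟩, fun e => h.isB.1.1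
    (congrArg Subtype.val e).symm, Set.eq_univ_of_forall fun v => ?_⟩
  rcases (h.kernel_two hq).1 v v.2 with e | e
  · exact Or.inl (Subtype.ext e)
  · exact Or.inr (Subtype.ext e)

theorem Std.card_tGrp_lin :
    Nat.card (hF.tGrp u a) = 2 * (Nat.card (hF.eGrp a) * Nat.card (hF.eGrp a)) := by
  rw [h.card_tGrp (h.all_translations hq), hF.card_uGrp h.isB h.fix_a h.small, h.card_uKer_two hq, hq,
    Nat.add_sub_cancel]
  ring

/-- A 2-subgroup at the point has one full involution fixing each other point. -/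
theorem Std.full_unique {X : Subgroup G} (hX : IsPGroup 2 X) (hXa : X ≤ stabilizer G a) {f f' : G} (hf : f ∈ X)
    (hf' : f' ∈ X) (hB : IsB Ω f) (hB' : IsB Ω f') {c : Ω} (hca : c ≠ a) (hc : f • c = c) (hc' : f' • c = c) :
    f = f' := by
  haveI : Fact (Nat.Prime 2) := ⟨Nat.prime_two⟩
  obtain ⟨g, hga, hgc⟩ := hF.ctx.two_trans hca h.ne
  have hmem : ∀ k ∈ X, IsB Ω k → k • c = c →
      g * k * g⁻¹ ∈ X.map (MulAut.conj g).toMonoidHom ⊓ (two a b ⊓ hF.kGrp a) := fun k hk hkB hkc => by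
    have h1 : (g * k * g⁻¹) • a = a := hga ▸ smul_conj (mem_stabilizer_iff.mp (hXa hk))
    exact ⟨⟨k, hk, rfl⟩, mem_two.mpr ⟨h1, hgc ▸ smul_conj hkc⟩, hF.isB_mem_kGrp (hkB.conj g) h1⟩
  obtain ⟨R, hle, hR⟩ := exists_maxP (p := 2)
    (X := X.map (MulAut.conj g).toMonoidHom ⊓ (two a b ⊓ hF.kGrp a)) ((hX.map _).to_le inf_le_left)
    (inf_le_right (a := X.map (MulAut.conj g).toMonoidHom) (b := two a b ⊓ hF.kGrp a))
  obtain ⟨k, -, hk⟩ := hR.conj h.uKer_maxP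
  have key : ∀ x ∈ X, IsB Ω x → x • c = c → k * (g * x * g⁻¹) * k⁻¹ = u := fun x hx hxB hxc =>
    ((h.kernel_two hq).1 _ ((hk _).mp (hle (hmem x hx hxB hxc)))).resolve_left ((hxB.conj g).conj k).1.1
  have h1 := (key f hf hB hc).trans (key f' hf' hB' hc').symm
  simpa using h1

/-- The points off `a` are covered by the full involutions of the translation group. -/
theorem Std.exists_form {S : Subgroup G} (hS : MaxP 2 (stabilizer G a) S) (hle : hF.tGrp u a ≤ S) {f : G}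
    (hfS : f ∈ S) (hfB : IsB Ω f) : f ∈ hF.tGrp u a ∧ Nat.card {w : G // w ∈ hF.tGrp u a ∧ IsB Ω w} =
      Nat.card (hF.eGrp a) * Nat.card (hF.eGrp a) := by
  classical
  haveI := finite_points hF.ctx.hyp
  choose W hWt hWB hWm using (h.kernel_two hq).2
  let Φ : hF.eGrp a × hF.eGrp a → {w : G // w ∈ hF.tGrp u a ∧ IsB Ω w} := fun mx =>
    ⟨W mx.1 mx.1.2 * mx.2, Subgroup.mul_mem _ (hWt _ _) (h.uGrp_le_tGrp (hF.eGrp_le_uGrp h.isB h.fix_a mx.2.2)),
      hF.isB_mul_eGrp (hWB _ _) (hF.mem_nGrp.mp ((h.mem_tGrp.mp (hWt _ _)).1).1).1 mx.2.2⟩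
  have hΦ : Function.Injective Φ := by
    rintro ⟨m, x⟩ ⟨m', x'⟩ e
    have he : W m m.2 * (x : G) = W m' m'.2 * x' := congrArg Subtype.val e
    have key : ∀ (m x : hF.eGrp a), Maps Ω u (W m m.2 * x) 1 m := fun m x =>
      (h.maps_uGrp (hF.eGrp_le_uGrp h.isB h.fix_a x.2) (one_mem _)).mul (hWm _ _)
    have h1 := key m x
    rw [he] at h1
    obtain rfl : m = m' := Subtype.ext (h.maps_unique m.2 m'.2 h1 (key m' x'))
    exact Prod.ext rfl (Subtype.ext (mul_left_cancel he))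
  have hfa : ∀ w : {w : G // w ∈ hF.tGrp u a ∧ IsB Ω w}, (w : G) • a = a := fun w =>
    (hF.mem_nGrp.mp ((h.mem_tGrp.mp w.2.1).1).1).1
  have hp : ∀ w : {w : G // w ∈ hF.tGrp u a ∧ IsB Ω w}, ∃ c : Ω, c ≠ a ∧ (w : G) • c = c := fun w =>
    hF.exists_other w.2.2 a
  choose p hpa hpf using hp
  let Ψ : (hF.eGrp a × hF.eGrp a) × hF.eGrp a → {c : Ω // c ≠ a} := fun my =>
    ⟨(my.2 : G) • p (Φ my.1), fun e => hpa _ (smul_left_cancel (my.2 : G) (e.trans (hF.eGrp_fix my.2.2).symm))⟩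
  have hfix : ∀ my, (Φ my.1 : G) • (Ψ my).1 = (Ψ my).1 := fun my => by
    show (Φ my.1 : G) • (my.2 : G) • p (Φ my.1) = _
    rw [← mul_smul, hF.commute_eGrp (Φ my.1).2.2.1 (hfa _) my.2.2, mul_smul, hpf]
  have hΨ : Function.Injective Ψ := by
    intro x y e
    have h1 := hfix y
    rw [← e] at h1
    have h2 := hΦ (Subtype.ext (h.full_unique hq h.isPGroup_tGrp
      (fun z hz => mem_stabilizer_iff.mpr (hF.mem_nGrp.mp ((h.mem_tGrp.mp hz).1).1).1)
      (Φ x.1).2.1 (Φ y.1).2.1 (Φ x.1).2.2 (Φ y.1).2.2 (Ψ x).2 (hfix x) h1))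
    refine Prod.ext h2 (Subtype.ext ?_)
    have h3 : (x.2 : G) • p (Φ x.1) = (y.2 : G) • p (Φ y.1) := congrArg Subtype.val e
    rw [← h2] at h3
    exact (inv_mul_eq_one.mp (hF.eGrp_semiregular (mul_mem (inv_mem y.2.2) x.2.2) (d := p (Φ x.1))
      (by rw [mul_smul, h3, inv_smul_smul]) (hpa _))).symm
  have hΨs := ((Nat.bijective_iff_injective_and_card Ψ).mpr
    ⟨hΨ, by rw [Nat.card_prod, Nat.card_prod, h.card_off_lin hq]⟩).2
  have hall : ∀ w ∈ S, IsB Ω w → ∃ mx, w = Φ mx := by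
    intro w hw hwB
    obtain ⟨c, hca, hwc⟩ := hF.exists_other hwB a
    obtain ⟨my, hmy⟩ := hΨs ⟨c, hca⟩
    have h1 := hfix my
    rw [hmy] at h1
    exact ⟨my.1, h.full_unique hq hS.isPGroup hS.le hw (hle (Φ my.1).2.1) hwB (Φ my.1).2.2 hca hwc h1⟩
  refine ⟨?_, ?_⟩
  · obtain ⟨mx, rfl⟩ := hall f hfS hfB
    exact (Φ mx).2.1
  · rw [← Nat.card_prod]
    refine (Nat.card_eq_of_bijective Φ ⟨hΦ, fun w => ?_⟩).symm
    obtain ⟨mx, hmx⟩ := hall w (hle w.2.1) w.2.2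
    exact ⟨mx, Subtype.ext hmx.symm⟩

theorem Std.full_mem {S : Subgroup G} (hS : MaxP 2 (stabilizer G a) S) (hle : hF.tGrp u a ≤ S) {f : G}
    (hfS : f ∈ S) (hfB : IsB Ω f) : f ∈ hF.tGrp u a := (h.exists_form hq hS hle hfS hfB).1

/-- A product of two full involutions of the translation group is not full. -/
theorem Std.not_isB_mul {f f' : G} (hf : f • a = a) (hf' : f' • a = a) (hB : IsB Ω f) (hB' : IsB Ω f') :
    ¬ IsB Ω (f * f') := by
  intro hp
  obtain ⟨g, hga, hgu⟩ := h.exists_conj hB hf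
  have hgu' := ((h.kernel_two hq).1 _ hgu).resolve_left (hB.conj g).1.1
  have hcomm : f * f' = f' * f := by
    have h1 := inv_eq_of_mul_eq_one_right hp.1.2
    rw [mul_inv_rev, inv_eq_of_mul_eq_one_right hB.1.2, inv_eq_of_mul_eq_one_right hB'.1.2] at h1
    exact h1.symm
  have h2 : g * f' * g⁻¹ ∈ hF.uGrp u a := by
    have := hF.uGrp_conj (g := g) (hF.mem_uGrp.mpr ⟨hF.isB_mem_kGrp hB' hf', hcomm⟩)
    rwa [hga, hgu'] at this
  obtain ⟨e, he, v, hv, hv1, hw⟩ := h.exists_mul (hB'.conj g) h2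
  obtain rfl := ((h.kernel_two hq).1 v hv).resolve_left hv1
  refine hF.not_isB_eGrp he ?_
  have h3 := hp.conj g
  rwa [← conj_mul, hgu', hw, ← mul_assoc, h.isB.1.2, one_mul] at h3

theorem Std.rGrp_spec : (∀ x, x ∈ hF.rGrp u a ↔ x ∈ hF.tGrp u a ∧ ¬ IsB Ω x) ∧
    Nat.card (hF.rGrp u a) = Nat.card (hF.eGrp a) * Nat.card (hF.eGrp a) := by
  classical
  obtain ⟨S, hS, hTS, htS⟩ := h.exists_sylow
  have hcard := (h.exists_form hq hS htS (hTS h.mem) h.isB).2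
  have hta : ∀ {x : G}, x ∈ hF.tGrp u a → x • a = a := fun hx =>
    (hF.mem_nGrp.mp ((h.mem_tGrp.mp hx).1).1).1
  let F := {w : G // w ∈ hF.tGrp u a ∧ IsB Ω w}
  let N := {w : G // w ∈ hF.tGrp u a ∧ ¬ IsB Ω w}
  have hN : Nat.card N = Nat.card (hF.eGrp a) * Nat.card (hF.eGrp a) := by
    have h1 : Nat.card (hF.tGrp u a) = Nat.card F + Nat.card N := by
      rw [← Nat.card_sum]
      exact Nat.card_congr ((Equiv.sumCompl fun x : hF.tGrp u a => IsB Ω (x : G)).symm.trans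
        (Equiv.sumCongr (Equiv.subtypeSubtypeEquivSubtypeInter (· ∈ hF.tGrp u a) fun x => IsB Ω x)
          (Equiv.subtypeSubtypeEquivSubtypeInter (· ∈ hF.tGrp u a) fun x => ¬ IsB Ω x)))
    rw [h.card_tGrp_lin hq, hcard] at h1
    omega
  have hsurj : ∀ f : F, ∀ x : N, ∃ f' : F, (x : G) = f * f' := by
    intro f x
    let Θ : F → N := fun f' => ⟨f * f', Subgroup.mul_mem _ f.2.1 f'.2.1,
      h.not_isB_mul hq (hta f.2.1) (hta f'.2.1) f.2.2 f'.2.2⟩
    have hΘ : Function.Injective Θ := fun p r e => Subtype.ext (mul_left_cancel (congrArg Subtype.val e :))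
    obtain ⟨f', hf'⟩ := ((Nat.bijective_iff_injective_and_card Θ).mpr ⟨hΘ, hcard.trans hN.symm⟩).2 x
    exact ⟨f', (congrArg Subtype.val hf').symm⟩
  have hu : u ∈ hF.tGrp u a := h.uGrp_le_tGrp (hF.uKer_le (hF.self_mem_uKer h.isB h.fix_a))
  have hmem : ∀ x, x ∈ hF.rGrp u a ↔ x ∈ hF.tGrp u a ∧ ¬ IsB Ω x := fun x => by
    refine ⟨fun hx => ?_, fun hx => Subgroup.subset_closure hx⟩
    induction hx using Subgroup.closure_induction with
    | mem y hy => exact hy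
    | one => exact ⟨one_mem _, fun h1 => h1.1.1 rfl⟩
    | mul x y _ _ hx hy =>
      obtain ⟨f1, hf1⟩ := hsurj ⟨u, hu, h.isB⟩ ⟨x, hx⟩
      obtain ⟨f2, hf2⟩ := hsurj f1 ⟨y, hy⟩
      change x = u * f1 at hf1
      change y = f1 * f2 at hf2
      refine ⟨Subgroup.mul_mem _ hx.1 hy.1, ?_⟩
      rw [hf1, hf2, mul_assoc u, ← mul_assoc (f1 : G), f1.2.2.1.2, one_mul]
      exact h.not_isB_mul hq h.fix_a (hta f2.2.1) h.isB f2.2.2
    | inv x _ hx =>
      refine ⟨inv_mem hx.1, fun h1 => hx.2 ?_⟩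
      have h2 := inv_eq_of_mul_eq_one_right h1.1.2
      rw [inv_inv] at h2
      rwa [h2]
  exact ⟨hmem, (Nat.card_congr (Equiv.subtypeEquivRight hmem)).trans hN⟩

theorem Std.mem_rGrp {x : G} : x ∈ hF.rGrp u a ↔ x ∈ hF.tGrp u a ∧ ¬ IsB Ω x := (h.rGrp_spec hq).1 x

theorem Std.eGrp_le_rGrp : hF.eGrp a ≤ hF.rGrp u a := fun x hx =>
  (h.mem_rGrp hq).mpr ⟨h.uGrp_le_tGrp (hF.eGrp_le_uGrp h.isB h.fix_a hx), hF.not_isB_eGrp hx⟩

theorem Std.isB_of_not_mem {x : G} (hx : x ∈ hF.tGrp u a) (hR : x ∉ hF.rGrp u a) : IsB Ω x := by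
  by_contra hB
  exact hR ((h.mem_rGrp hq).mpr ⟨hx, hB⟩)

theorem Std.mul_mem_rGrp {f f' : G} (hf : f ∈ hF.tGrp u a) (hf' : f' ∈ hF.tGrp u a) (hB : IsB Ω f)
    (hB' : IsB Ω f') : f * f' ∈ hF.rGrp u a :=
  (h.mem_rGrp hq).mpr ⟨Subgroup.mul_mem _ hf hf', h.not_isB_mul hq
    (hF.mem_nGrp.mp ((h.mem_tGrp.mp hf).1).1).1 (hF.mem_nGrp.mp ((h.mem_tGrp.mp hf').1).1).1 hB hB'⟩

/-- Every element of the translation group is in the subgroup or in its coset at `u`. -/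
theorem Std.tGrp_cases {x : G} (hx : x ∈ hF.tGrp u a) : x ∈ hF.rGrp u a ∨ u * x ∈ hF.rGrp u a :=
  or_iff_not_imp_left.mpr fun hR => h.mul_mem_rGrp hq
    (h.uGrp_le_tGrp (hF.uKer_le (hF.self_mem_uKer h.isB h.fix_a))) hx h.isB (h.isB_of_not_mem hq hx hR)

theorem Std.rGrp_inverted {x : G} (hx : x ∈ hF.rGrp u a) : u * x * u = x⁻¹ := by
  obtain ⟨hxt, hxB⟩ := (h.mem_rGrp hq).mp hx
  have hu : u ∈ hF.tGrp u a := h.uGrp_le_tGrp (hF.uKer_le (hF.self_mem_uKer h.isB h.fix_a))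
  have hB : IsB Ω (u * x) := h.isB_of_not_mem hq (Subgroup.mul_mem _ hu hxt) fun hR => by
    have h1 := Subgroup.mul_mem _ hR (inv_mem hx)
    rw [mul_inv_cancel_right] at h1
    exact ((h.mem_rGrp hq).mp h1).2 h.isB
  refine eq_inv_of_mul_eq_one_left ?_
  rw [show u * x * u * x = (u * x) * (u * x) by group, hB.1.2]

theorem Std.rGrp_comm {x y : G} (hx : x ∈ hF.rGrp u a) (hy : y ∈ hF.rGrp u a) : x * y = y * x := by
  have h1 := h.rGrp_inverted hq (Subgroup.mul_mem _ hx hy)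
  rw [show u * (x * y) * u = (u * x * u) * (u * u)⁻¹ * (u * y * u) by group, h.rGrp_inverted hq hx,
    h.rGrp_inverted hq hy, h.isB.1.2, inv_one, mul_one, ← mul_inv_rev, inv_inj] at h1
  exact h1.symm

theorem Std.mem_eGrp_of_sq {x : G} (hx : x ∈ hF.rGrp u a) (h2 : x * x = 1) : x ∈ hF.eGrp a := by
  obtain ⟨hxt, hxB⟩ := (h.mem_rGrp hq).mp hx
  have hux : u * x = x * u := by
    have h1 := h.rGrp_inverted hq hx
    rw [inv_eq_of_mul_eq_one_right h2] at h1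
    calc u * x = u * x * (u * u) := by rw [h.isB.1.2, mul_one]
      _ = (u * x * u) * u := by group
      _ = x * u := by rw [h1]
  obtain ⟨e, he, v, hv, rfl⟩ := h.uGrp_dec hq (hF.mem_uGrp.mpr ⟨(h.mem_tGrp.mp hxt).1.2, hux⟩)
  rcases (h.kernel_two hq).1 v hv with rfl | rfl
  · rwa [mul_one]
  · exact absurd (by rw [← hF.commute_eGrp h.isB.1 h.fix_a he]; exact hF.isB_mul_eGrp h.isB h.fix_a he) hxB

/-- Every member is a square in the subgroup. -/
theorem Std.exists_sqrt_rGrp {m : G} (hm : m ∈ hF.eGrp a) : ∃ x ∈ hF.rGrp u a, x * x = m := by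
  let φ : hF.rGrp u a →* hF.eGrp a := MonoidHom.mk'
    (fun x => ⟨(x : G) * x, h.tGrp_sq_mem hq ((h.mem_rGrp hq).mp x.2).1⟩) fun x y => Subtype.ext (by
      show (x * y : G) * (x * y) = x * x * (y * y)
      rw [show (x * y : G) * (x * y) = x * ((y : G) * x) * y by group, h.rGrp_comm hq y.2 x.2]
      group)
  have hker : φ.ker = (hF.eGrp a).subgroupOf (hF.rGrp u a) := by
    ext x
    refine ⟨fun hx => h.mem_eGrp_of_sq hq x.2 (congrArg Subtype.val (MonoidHom.mem_ker.mp hx)),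
      fun hx => MonoidHom.mem_ker.mpr (Subtype.ext (hF.eGrp_sq hx))⟩
  have h1 := Subgroup.index_ker φ
  have h2 := φ.ker.index_mul_card
  rw [h1, hker, Nat.card_congr (Subgroup.subgroupOfEquivOfLe (h.eGrp_le_rGrp hq)).toEquiv, (h.rGrp_spec hq).2] at h2
  have htop : φ.range = ⊤ := Subgroup.eq_top_of_card_eq _ (Nat.eq_of_mul_eq_mul_right
    (by have := hF.four_le_card a; omega) h2)
  obtain ⟨x, hx⟩ : (⟨m, hm⟩ : hF.eGrp a) ∈ φ.range := htop ▸ Subgroup.mem_top _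
  exact ⟨x, x.2, congrArg Subtype.val hx⟩

end Linear

end FCtx

end CfsgLib.Bender.Q
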