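import Cfsg.Agent.Lib.Bender.Q.Full.Standing

/-!
The action on the kernels: an element fixing the point and normalising the centraliser of the full involution
permutes the fixed point sets of its products with the members by an affine map.

Blueprint: `blueprint/bender/Q_VI.md` 3.1.
-/

set_option autoImplicit false
set_option linter.unusedSectionVars false
set_option linter.style.haveILetI false

universe u

namespace CfsgLib.Bender.Q

open MulAction Cfsg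
open CfsgLib.Bender.TwoClosed (IsInv two mem_two smul_conj MaxP exists_maxP mem_normalizer_of_conj
  conj_mem_of_normalizer)

variable {G Ω : Type u} [Group G] [MulAction G Ω] {Z : Set G} [Finite G] [FaithfulSMul G Ω]

namespace FCtx

/-- The stabiliser of `a` in the normaliser of the centraliser. -/
def nGrp (hF : FCtx G Ω Z) (u : G) (a : Ω) : Subgroup G :=
  stabilizer G a ⊓ Subgroup.normalizer (hF.uGrp u a : Set G)

/-- `g` maps the fixed points of `u * x` onto those of `u * y`. -/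
def Maps (Ω : Type u) [MulAction G Ω] (u g x y : G) : Prop :=
  {c : Ω | (g * (u * x) * g⁻¹) • c = c} = {c : Ω | (u * y) • c = c}

omit [Finite G] [FaithfulSMul G Ω] in
theorem Maps.fix {u g x y : G} (h : Maps Ω u g x y) {c : Ω} (hc : (u * x) • c = c) :
    (u * y) • g • c = g • c :=
  h.le (show (g * (u * x) * g⁻¹) • g • c = g • c from smul_conj hc)

omit [Finite G] [FaithfulSMul G Ω] in
theorem Maps.mul {u g g' x y z : G} (h : Maps Ω u g x y) (h' : Maps Ω u g' y z) : Maps Ω u (g' * g) x z := by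
  have e : {c : Ω | ((g' * g) * (u * x) * (g' * g)⁻¹) • c = c} = {c : Ω | (g' * (u * y) * g'⁻¹) • c = c} := by
    ext c
    have h1 : (g'⁻¹ • c ∈ {c : Ω | (g * (u * x) * g⁻¹) • c = c}) ↔ g'⁻¹ • c ∈ {c : Ω | (u * y) • c = c} := by
      rw [show {c : Ω | (g * (u * x) * g⁻¹) • c = c} = _ from h]
    have key : ∀ (k y : G) (c : Ω), (k * y * k⁻¹) • c = c ↔ y • k⁻¹ • c = k⁻¹ • c := fun k y c => by
      rw [mul_smul, mul_smul, eq_inv_smul_iff]
    simp only [Set.mem_setOf_eq] at h1 ⊢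
    rw [key, show (g' * g)⁻¹ • c = g⁻¹ • g'⁻¹ • c by rw [mul_inv_rev, mul_smul], ← key g, h1, ← key g']
  exact e.trans h'

omit [Finite G] [FaithfulSMul G Ω] in
theorem Maps.of_comm {u g x : G} (h : g * (u * x) = u * x * g) : Maps Ω u g x x := by
  rw [Maps, h, mul_inv_cancel_right]

variable (hF : FCtx G Ω Z)
include hF

theorem mem_nGrp {u : G} {a : Ω} {g : G} :
    g ∈ hF.nGrp u a ↔ g • a = a ∧ g ∈ Subgroup.normalizer (hF.uGrp u a : Set G) :=
  Iff.trans Subgroup.mem_inf (and_congr mem_stabilizer_iff Iff.rfl)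

theorem mem_nGrp_of_comm {u : G} {a : Ω} {g : G} (hga : g • a = a) (hgu : u * g = g * u) :
    g ∈ hF.nGrp u a :=
  hF.mem_nGrp.mpr ⟨hga, mem_normalizer_of_conj fun x hx => by
    have h := hF.uGrp_conj (g := g) hx
    rwa [hga, ← hgu, mul_inv_cancel_right] at h⟩

theorem uGrp_le_nGrp {u : G} {a : Ω} : hF.uGrp u a ≤ hF.nGrp u a := fun _ hx =>
  hF.mem_nGrp.mpr ⟨hF.uGrp_fix hx, Subgroup.le_normalizer hx⟩

theorem nGrp_conj_eGrp {u : G} {a : Ω} {g x : G} (hg : g ∈ hF.nGrp u a) (hx : x ∈ hF.eGrp a) :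
    g * x * g⁻¹ ∈ hF.eGrp a := by
  have h := hF.eGrp_conj (g := g) hx
  rwa [(hF.mem_nGrp.mp hg).1] at h

variable {hF} {u : G} {a b : Ω} {T : Subgroup G} (h : hF.Std u a b T)
include h

theorem Std.sylow_le_nGrp : T ≤ hF.nGrp u a := fun x hx =>
  hF.mem_nGrp_of_comm (mem_two.mp (h.maxP.le hx)).1 (h.central x hx)

theorem Std.jGrp_le_nGrp : jGrp Z a b ≤ hF.nGrp u a := fun _ hx =>
  hF.mem_nGrp_of_comm (hF.jGrp_fix h.ne hx).1 (hF.commute_jGrp h.ne h.isB h.fix_a h.fix_b hx)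

/-- The data of an element: the image of `u` and the affine map. -/
theorem Std.exists_data {g : G} (hg : g ∈ hF.nGrp u a) :
    ∃ v d j : G, v ∈ hF.uKer u a ∧ v ≠ 1 ∧ d ∈ hF.eGrp a ∧ h.Par v j ∧ g * u * g⁻¹ = v * d ∧
      ∀ x ∈ hF.eGrp a, j⁻¹ * (d * (g * x * g⁻¹)) * j ∈ hF.eGrp a ∧
        Maps Ω u g x (j⁻¹ * (d * (g * x * g⁻¹)) * j) := by
  obtain ⟨hga, hgn⟩ := hF.mem_nGrp.mp hg
  have huU : g * u * g⁻¹ ∈ hF.uGrp u a :=
    conj_mem_of_normalizer hgn (hF.uKer_le (hF.self_mem_uKer h.isB h.fix_a))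
  obtain ⟨d, hd, v, hv, hv1, he⟩ := h.exists_mul (h.isB.conj g) huU
  obtain ⟨j, hj⟩ := h.exists_par hv hv1
  refine ⟨v, d, j, hv, hv1, hd, hj, he, fun x hx => ?_⟩
  have hy : j⁻¹ * (d * (g * x * g⁻¹)) * j ∈ hF.eGrp a := by
    have h1 := h.conj_eGrp (inv_mem hj.1) (mul_mem hd (hF.nGrp_conj_eGrp hg hx))
    rwa [inv_inv] at h1
  refine ⟨hy, ?_⟩
  have h1 := h.fix_eq hv hv1 hj hy
  have h2 : g * (u * x) * g⁻¹ = v * (j * (j⁻¹ * (d * (g * x * g⁻¹)) * j) * j⁻¹) := by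
    calc g * (u * x) * g⁻¹ = (g * u * g⁻¹) * (g * x * g⁻¹) := conj_mul.symm
      _ = _ := by rw [he]; group
  rw [Maps, h2]
  exact h1

theorem Std.maps_unique {g x y y' : G} (hy : y ∈ hF.eGrp a) (hy' : y' ∈ hF.eGrp a) (h1 : Maps Ω u g x y)
    (h2 : Maps Ω u g x y') : y = y' :=
  h.fix_inj hy hy' (h1.symm.trans h2)

theorem Std.exists_maps {g x : G} (hg : g ∈ hF.nGrp u a) (hx : x ∈ hF.eGrp a) :
    ∃! y : G, y ∈ hF.eGrp a ∧ Maps Ω u g x y := by
  obtain ⟨v, d, j, -, -, -, -, -, hall⟩ := h.exists_data hg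
  exact ⟨_, hall x hx, fun y hy => h.maps_unique hy.1 (hall x hx).1 hy.2 (hall x hx).2⟩

theorem Std.maps_uGrp {g x : G} (hg : g ∈ hF.uGrp u a) (hx : x ∈ hF.eGrp a) : Maps Ω u g x x :=
  Maps.of_comm (by
    rw [← mul_assoc, ← hF.uGrp_comm hg, mul_assoc, ← hF.uGrp_comm_eGrp hg hx, mul_assoc])

theorem Std.maps_jGrp {j x : G} (hj : j ∈ jGrp Z a b) : Maps Ω u j x (j * x * j⁻¹) := by
  rw [Maps]
  congr 1
  funext c
  rw [show j * (u * x) * j⁻¹ = (j * u * j⁻¹) * (j * x * j⁻¹) by group,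
    ← hF.commute_jGrp h.ne h.isB h.fix_a h.fix_b hj, mul_inv_cancel_right]

/-- An element mapping the fixed points of `u` to themselves differs from one fixing both points by an element of
the centraliser. -/
theorem Std.exists_mul_two {g : G} (hg : g ∈ hF.nGrp u a) (h1 : Maps Ω u g 1 1) :
    ∃ x ∈ hF.uGrp u a, ∃ y : G, g = x * y ∧ y ∈ (two a b : Subgroup G) ∧ y ∈ hF.nGrp u a ∧ Maps Ω u y 1 1 := by
  obtain ⟨hga, -⟩ := hF.mem_nGrp.mp hg
  have hgb : u • g • b = g • b := by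
    have h2 := h1.fix (c := b) (by rw [mul_one, h.fix_b])
    rwa [mul_one] at h2
  obtain ⟨x, hx, hxb⟩ := hF.exists_qGrp_smul h.isB h.fix_a h.fix_b h.ne hgb
    (fun e => h.ne (smul_left_cancel g (e.trans hga.symm)))
  have hx' := hF.qGrp_le_uGrp h.isB h.fix_a hx
  refine ⟨x, hx', x⁻¹ * g, (mul_inv_cancel_left x g).symm, ?_, ?_, ?_⟩
  · refine mem_two.mpr ⟨by rw [mul_smul, hga, inv_smul_eq_iff, hF.uGrp_fix hx'], ?_⟩
    rw [mul_smul, inv_smul_eq_iff, hxb]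
  · exact Subgroup.mul_mem _ (inv_mem (hF.uGrp_le_nGrp hx')) hg
  · exact h1.mul (h.maps_uGrp (inv_mem hx') (one_mem _))

end FCtx

end CfsgLib.Bender.Q
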