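import Cfsg.Agent.Lib.Bender.Q.Full.Trans

/-!
There are no scalars: an element of the kernel at the point which normalises the centraliser of the full involution
and fixes one of the kernels lies in the centraliser.

Blueprint: `blueprint/bender/Q_VI.md` 3.2.
-/

set_option autoImplicit false
set_option linter.unusedSectionVars false
set_option linter.style.haveILetI false

universe u

namespace CfsgLib.Bender.Q

open MulAction Cfsg
open CfsgLib.Bender.TwoClosed (IsInv two mem_two smul_conj MaxP mem_normalizer_of_conj conj_mem_of_normalizer)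

variable {G Ω : Type u} [Group G] [MulAction G Ω] {Z : Set G} [Finite G] [FaithfulSMul G Ω]

namespace FCtx

/-- The elements of the kernel at the point translating the kernels. -/
def tGrp (hF : FCtx G Ω Z) (u : G) (a : Ω) : Subgroup G :=
  Subgroup.closure {g | g ∈ hF.nGrp u a ⊓ hF.kGrp a ∧ ∃ m ∈ hF.eGrp a, ∀ x ∈ hF.eGrp a, Maps Ω u g x (m * x)}

variable {hF : FCtx G Ω Z} {u : G} {a b : Ω} {T : Subgroup G} (h : hF.Std u a b T)
include h

theorem Std.mem_tGrp {g : G} : g ∈ hF.tGrp u a ↔ g ∈ hF.nGrp u a ⊓ hF.kGrp a ∧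
    ∃ m ∈ hF.eGrp a, ∀ x ∈ hF.eGrp a, Maps Ω u g x (m * x) := by
  refine ⟨fun hg => ?_, fun hg => Subgroup.subset_closure hg⟩
  induction hg using Subgroup.closure_induction with
  | mem g hg => exact hg
  | one => exact ⟨one_mem _, 1, one_mem _, fun x hx => by rw [one_mul]; exact h.maps_uGrp (one_mem _) hx⟩
  | mul g g' _ _ ig ig' =>
    obtain ⟨hg, m, hm, hmap⟩ := ig
    obtain ⟨hg', m', hm', hmap'⟩ := ig'
    refine ⟨Subgroup.mul_mem _ hg hg', m * m', mul_mem hm hm', fun x hx => ?_⟩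
    have h1 := (hmap' x hx).mul (hmap (m' * x) (mul_mem hm' hx))
    rwa [← mul_assoc] at h1
  | inv g _ ig =>
    obtain ⟨hg, m, hm, hmap⟩ := ig
    refine ⟨inv_mem hg, m, hm, fun x hx => ?_⟩
    have h1 := (hmap (m * x) (mul_mem hm hx)).inv
    rwa [← mul_assoc, hF.eGrp_sq hm, one_mul] at h1

theorem Std.uGrp_le_tGrp : hF.uGrp u a ≤ hF.tGrp u a := fun _ hg =>
  h.mem_tGrp.mpr ⟨⟨hF.uGrp_le_nGrp hg, (hF.mem_uGrp.mp hg).1⟩, 1, one_mem _,
    fun x hx => by rw [one_mul]; exact h.maps_uGrp hg hx⟩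

theorem Std.tGrp_sq {g : G} (hg : g ∈ hF.tGrp u a) : g * g ∈ hF.uGrp u a := by
  obtain ⟨hgK, m, hm, hmap⟩ := h.mem_tGrp.mp hg
  refine h.mem_uGrp_of_trivial (Subgroup.mul_mem _ hgK.1 hgK.1) (Subgroup.mul_mem _ hgK.2 hgK.2) fun x hx => ?_
  have h1 := (hmap x hx).mul (hmap (m * x) (mul_mem hm hx))
  rwa [← mul_assoc, hF.eGrp_sq hm, one_mul] at h1

theorem Std.isPGroup_tGrp : IsPGroup 2 (hF.tGrp u a) := fun g => by
  obtain ⟨k, hk⟩ := hF.isPGroup_uGrp h.isB h.fix_a h.small ⟨_, h.tGrp_sq g.2⟩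
  refine ⟨k + 1, Subtype.ext ?_⟩
  rw [pow_succ', pow_mul, pow_two]
  exact congrArg (fun w : hF.uGrp u a => (w : G)) hk

/-- The parameter of an element of the kernel fixing both points. -/
theorem Std.maps_pow {y j : G} (hjJ : j ∈ jGrp Z a b)
    (hy : ∀ x ∈ hF.eGrp a, Maps Ω u y x (j⁻¹ * x * j)) :
    ∀ (n : ℕ), ∀ x ∈ hF.eGrp a, Maps Ω u (y ^ n) x ((j ^ n)⁻¹ * x * j ^ n) := by
  intro n
  induction n with
  | zero =>
    intro x hx
    rw [pow_zero, pow_zero, inv_one, one_mul, mul_one]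
    exact h.maps_uGrp (one_mem _) hx
  | succ n ih =>
    intro x hx
    have hx' : j⁻¹ * x * j ∈ hF.eGrp a := by
      have h1 := h.conj_eGrp (inv_mem hjJ) hx
      rwa [inv_inv] at h1
    have h1 := (hy x hx).mul (ih _ hx')
    rw [← pow_succ] at h1
    rwa [show (j ^ (n + 1))⁻¹ * x * j ^ (n + 1) = (j ^ n)⁻¹ * (j⁻¹ * x * j) * j ^ n by
      rw [pow_succ']; group]

/-- No element of the kernel fixing both points acts by a non-trivial scalar. -/
theorem Std.scalar_eq_one {y s : G} (hy : y ∈ hF.nGrp u a) (hyK : y ∈ hF.kGrp a) (hyb : y • b = b)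
    (hs : s ∈ jGrp Z a b) (hmap : ∀ x ∈ hF.eGrp a, Maps Ω u y x (s⁻¹ * x * s)) : s = 1 := by
  by_contra hs1
  haveI : Fact (Nat.Prime 2) := ⟨Nat.prime_two⟩
  obtain ⟨e0, he0, he01⟩ := hF.exists_mem_eGrp_ne_one a
  have hfree : ∀ {t x : G}, t ∈ jGrp Z a b → x ∈ hF.eGrp a → x ≠ 1 → t * x * t⁻¹ = x → t = 1 :=
    fun ht hx hx1 he => hF.jGrp_free h.ne ht hx hx1 (mul_inv_eq_iff_eq_mul.mp he)
  have hmove : ∀ {x : G}, x ∈ hF.eGrp a → x ≠ 1 → s⁻¹ * x * s ≠ x := fun hx hx1 he => hs1 (by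
    have := hfree (inv_mem hs) hx hx1 (by rwa [inv_inv])
    rwa [inv_eq_one] at this)
  have hsE : ∀ {x : G}, x ∈ hF.eGrp a → s⁻¹ * x * s ∈ hF.eGrp a := fun hx => by
    have h1 := h.conj_eGrp (inv_mem hs) hx
    rwa [inv_inv] at h1
  have hy1 : Maps Ω u y 1 1 := by
    have := hmap 1 (one_mem _)
    rwa [mul_one, inv_mul_cancel] at this
  -- an element of the kernel moving the first kernel
  obtain ⟨g0, hg0, hg0m⟩ := h.exists_maps_one he0
  set n := g0⁻¹ * y * g0 with hn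
  have hnN : n ∈ hF.nGrp u a := Subgroup.mul_mem _ (Subgroup.mul_mem _ (inv_mem hg0) hy) hg0
  have hnK : n ∈ hF.kGrp a := by
    have := hF.kGrp_normal (hF.mem_nGrp.mp (inv_mem hg0)).1 hyK
    rwa [inv_inv] at this
  obtain ⟨v, d, k, -, -, hd, hk, -, hnmap⟩ := h.exists_data hnN
  have hkx : ∀ {x : G}, x ∈ hF.eGrp a → n * x * n⁻¹ = x := fun hx => by
    rw [← (hF.mem_kGrp.mp hnK).2 _ hx, mul_inv_cancel_right]
  have hd1 : d ≠ 1 := fun e => by
    have h2 := (hnmap 1 (one_mem _)).2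
    rw [hkx (one_mem _), mul_one, e, mul_one, inv_mul_cancel] at h2
    have h3 := hg0m.inv.mul (h2.mul hg0m)
    rw [show g0 * n * g0⁻¹ = y by rw [hn]; group] at h3
    exact hmove he0 he01 (h.maps_unique (hsE he0) he0 (hmap e0 he0) h3)
  have hks : k * s = s * k := hF.jGrp_comm h.ne hk.1 hs
  -- their commutator translates
  set m := n * y * n⁻¹ * y⁻¹
  set μ := k⁻¹ * (d * (s⁻¹ * d * s)) * k with hμ
  have hμE : μ ∈ hF.eGrp a := by
    have h1 := h.conj_eGrp (inv_mem hk.1) (mul_mem hd (hsE hd))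
    rwa [inv_inv] at h1
  have hμ1 : μ ≠ 1 := fun e => hmove hd hd1 (by
    have h1 : d * (s⁻¹ * d * s) = 1 := by
      rw [hμ] at e
      calc d * (s⁻¹ * d * s) = k * (k⁻¹ * (d * (s⁻¹ * d * s)) * k) * k⁻¹ := by group
        _ = 1 := by rw [e, mul_one, mul_inv_cancel]
    rw [← inv_eq_of_mul_eq_one_right h1, inv_eq_of_mul_eq_one_right (hF.eGrp_sq hd)])
  have hmmap : ∀ x ∈ hF.eGrp a, Maps Ω u m x (μ * x) := by
    intro x hx
    have hx1 : s * x * s⁻¹ ∈ hF.eGrp a := h.conj_eGrp hs hx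
    have e1 : Maps Ω u y⁻¹ x (s * x * s⁻¹) := by
      have := (hmap _ hx1).inv
      rwa [show s⁻¹ * (s * x * s⁻¹) * s = x by group] at this
    set x2 := d * (k * (s * x * s⁻¹) * k⁻¹)
    have hx2 : x2 ∈ hF.eGrp a := mul_mem hd (h.conj_eGrp hk.1 hx1)
    have e2 : Maps Ω u n⁻¹ (s * x * s⁻¹) x2 := by
      have h2 := (hnmap x2 hx2).2
      rw [hkx hx2] at h2
      have h3 := h2.inv
      rwa [show k⁻¹ * (d * x2) * k = s * x * s⁻¹ by
        rw [show d * x2 = d * d * (k * (s * x * s⁻¹) * k⁻¹) from (mul_assoc _ _ _).symm, hF.eGrp_sq hd]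
        group] at h3
    have e4 := (hnmap _ (hsE hx2)).2
    rw [hkx (hsE hx2)] at e4
    have hall := ((e1.mul e2).mul (hmap x2 hx2)).mul e4
    rw [show n * (y * (n⁻¹ * y⁻¹)) = m by simp only [m]; group] at hall
    rwa [show k⁻¹ * (d * (s⁻¹ * x2 * s)) * k = μ * x by
      rw [hμ]
      calc k⁻¹ * (d * (s⁻¹ * (d * (k * (s * x * s⁻¹) * k⁻¹)) * s)) * k
          = k⁻¹ * (d * (s⁻¹ * d * s)) * (s⁻¹ * (k * s) * x * ((s⁻¹ * k⁻¹) * (s * k))) := by group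
        _ = k⁻¹ * (d * (s⁻¹ * d * s)) * k * x := by
            rw [hks, ← mul_inv_rev, hks, inv_mul_cancel, inv_mul_cancel_left, mul_one, ← mul_assoc]] at hall
  have hmT : m ∈ hF.tGrp u a := h.mem_tGrp.mpr ⟨Subgroup.mul_mem _ (Subgroup.mul_mem _
    (Subgroup.mul_mem _ ⟨hnN, hnK⟩ ⟨hy, hyK⟩) (inv_mem ⟨hnN, hnK⟩)) (inv_mem ⟨hy, hyK⟩), μ, hμE, hmmap⟩
  -- an element of odd order fixing all the kernels
  obtain ⟨i, o, ho, hio⟩ := Nat.exists_eq_pow_mul_and_not_dvd (orderOf_pos y).ne' 2 (by omega)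
  set z := s ^ 2 ^ i
  set g := z * y ^ 2 ^ i with hg
  have hz : z ∈ jGrp Z a b := pow_mem hs _
  have hz1 : z ≠ 1 := fun e => hs1 (orderOf_eq_one_iff.mp (Nat.eq_one_of_dvd_coprimes
    ((Nat.coprime_two_right.mpr (hF.odd_orderOf_mem_jGrp h.ne hs)).pow_right i) dvd_rfl
    (orderOf_dvd_of_pow_eq_one e)))
  have hyz : y ^ 2 ^ i * z = z * y ^ 2 ^ i := hF.commute_kGrp_jGrp h.ne (pow_mem hyK _)
    (mem_stabilizer_iff.mp (pow_mem (mem_stabilizer_iff.mpr hyb) _)) hz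
  have hgodd : Odd (orderOf g) := by
    refine ((hF.odd_orderOf_mem_jGrp h.ne hz).mul ?_).of_dvd_nat
      (Commute.orderOf_mul_dvd_mul_orderOf hyz.symm)
    rw [orderOf_pow' y (by positivity : 2 ^ i ≠ 0), hio, Nat.gcd_eq_right (Dvd.intro o rfl),
      Nat.mul_div_cancel_left _ (by positivity : 0 < 2 ^ i)]
    exact Nat.odd_iff.mpr (Nat.two_dvd_ne_zero.mp ho)
  have hgN : g ∈ hF.nGrp u a := Subgroup.mul_mem _ (h.jGrp_le_nGrp hz) (pow_mem hy _)
  obtain ⟨hga, hgn⟩ := hF.mem_nGrp.mp hgN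
  have hgb : g • b = b := by
    rw [hg, mul_smul, mem_stabilizer_iff.mp (pow_mem (mem_stabilizer_iff.mpr hyb) _), (hF.jGrp_fix h.ne hz).2]
  have hgconj : ∀ {x : G}, x ∈ hF.eGrp a → g * x * g⁻¹ = z * x * z⁻¹ := fun {x} hx => by
    rw [hg, show z * y ^ 2 ^ i * x * (z * y ^ 2 ^ i)⁻¹ = z * (y ^ 2 ^ i * x * (y ^ 2 ^ i)⁻¹) * z⁻¹ by group,
      ← (hF.mem_kGrp.mp (pow_mem hyK _)).2 x hx, mul_inv_cancel_right]
  have hgmap : ∀ x ∈ hF.eGrp a, Maps Ω u g x x := fun x hx => by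
    have h1 := (h.maps_pow hs hmap (2 ^ i) x hx).mul (h.maps_jGrp (j := z) (x := (z⁻¹ * x * z)) hz)
    rwa [show z * (z⁻¹ * x * z) * z⁻¹ = x by group] at h1
  -- it centralises only the identity of the centraliser
  have hcent : ∀ x ∈ hF.uGrp u a, g * x * g⁻¹ = x → x = 1 := by
    intro x hx hfix
    have hsq := hF.uGrp_sq h.isB h.fix_a h.small hx
    have hx2 : x * x = 1 := by_contra fun hne => hz1 (hfree hz hsq hne (by
      rw [← hgconj hsq, ← conj_mul, hfix]))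
    obtain ⟨e, he, w, hw, rfl⟩ := hF.exists_mul_of_sq h.isB h.fix_a h.small hx hx2
    have hw' : g * w * g⁻¹ ∈ hF.uKer u a := hF.uKer_of_fix h.isB h.fix_a h.small
      (conj_mem_of_normalizer hgn (hF.uKer_le hw)) h.fix_b h.ne
      (by rw [mul_smul, mul_smul, inv_smul_eq_iff.mpr hgb.symm, (mem_two.mp (h.uKer_le_two hw)).2, hgb])
    rw [← conj_mul, hgconj he] at hfix
    have he' : z * e * z⁻¹ ∈ hF.eGrp a := h.conj_eGrp hz he
    have hee : e = z * e * z⁻¹ := by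
      have h1 : e * (z * e * z⁻¹) = w * (g * w * g⁻¹)⁻¹ := by
        rw [eq_mul_inv_iff_mul_eq, mul_assoc, hfix, ← mul_assoc, hF.eGrp_sq he, one_mul]
      have h2 := hF.eGrp_inf_uKer h.isB h.fix_a (mul_mem he he')
        (h1 ▸ Subgroup.mul_mem _ hw (inv_mem hw'))
      rwa [mul_eq_one_iff_eq_inv, inv_eq_of_mul_eq_one_right (hF.eGrp_sq he')] at h2
    have he1 : e = 1 := by_contra fun hne => hz1 (hfree hz he hne hee.symm)
    rw [he1, one_mul]
    rw [he1] at hfix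
    simp only [mul_one, mul_inv_cancel, one_mul] at hfix
    by_contra hw1
    obtain ⟨j, hj⟩ := h.exists_par hw hw1
    have hx0 := h.conj_eGrp hj.1 he0
    have h1 := h.fix_eq hw hw1 hj he0
    have h2 := h.fix_eq hw hw1 hj (h.conj_eGrp hz he0)
    have h3 : Maps Ω u g e0 (z * e0 * z⁻¹) := by
      rw [Maps, ← h2]
      ext c
      show (g * (u * e0) * g⁻¹) • c = c ↔ (w * (j * (z * e0 * z⁻¹) * j⁻¹)) • c = c
      have h4 : w * (j * (z * e0 * z⁻¹) * j⁻¹) = g * (w * (j * e0 * j⁻¹)) * g⁻¹ := by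
        conv_rhs => rw [← conj_mul, hfix, hgconj hx0]
        congr 1
        calc j * (z * e0 * z⁻¹) * j⁻¹ = (j * z) * e0 * (j * z)⁻¹ := by group
          _ = z * (j * e0 * j⁻¹) * z⁻¹ := by rw [hF.jGrp_comm h.ne hj.1 hz]; group
      have key : ∀ (k y : G) (c : Ω), (k * y * k⁻¹) • c = c ↔ y • k⁻¹ • c = k⁻¹ • c := fun k y c => by
        rw [mul_smul, mul_smul, eq_inv_smul_iff]
      rw [h4, key, key]
      exact (Iff.of_eq (congrArg (fun S : Set Ω => g⁻¹ • c ∈ S) h1)).symm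
    exact hz1 (hfree hz he0 he01 (h.maps_unique (h.conj_eGrp hz he0) he0 h3 (hgmap e0 he0)))
  -- a translation centralised by it
  have hgT : ∀ x ∈ hF.tGrp u a, g * x * g⁻¹ ∈ hF.tGrp u a ∧ g * x * g⁻¹ * x⁻¹ ∈ hF.uGrp u a := by
    intro x hx
    obtain ⟨⟨hxN, hxK⟩, μ', hμ', hxmap⟩ := h.mem_tGrp.mp hx
    have hmap' : ∀ w ∈ hF.eGrp a, Maps Ω u (g * x * g⁻¹) w (μ' * w) := fun w hw => by
      rw [mul_assoc g]
      exact ((hgmap w hw).inv.mul (hxmap w hw)).mul (hgmap _ (mul_mem hμ' hw))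
    have hmem : g * x * g⁻¹ ∈ hF.nGrp u a ⊓ hF.kGrp a :=
      ⟨Subgroup.mul_mem _ (Subgroup.mul_mem _ hgN hxN) (inv_mem hgN), hF.kGrp_normal hga hxK⟩
    refine ⟨h.mem_tGrp.mpr ⟨hmem, μ', hμ', hmap'⟩, h.mem_uGrp_of_trivial (Subgroup.mul_mem _ hmem.1 (inv_mem hxN))
      (Subgroup.mul_mem _ hmem.2 (inv_mem hxK)) fun w hw => ?_⟩
    have h1 := (hxmap (μ' * w) (mul_mem hμ' hw)).inv
    rw [← mul_assoc, hF.eGrp_sq hμ', one_mul] at h1
    have h2 := h1.mul (hmap' (μ' * w) (mul_mem hμ' hw))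
    rwa [← mul_assoc, hF.eGrp_sq hμ', one_mul] at h2
  have hcop : (Nat.card (Subgroup.zpowers g)).Coprime (Nat.card (hF.tGrp u a)) := by
    obtain ⟨l, hl⟩ := h.isPGroup_tGrp.exists_card_eq
    rw [Nat.card_zpowers, hl]
    exact (Nat.coprime_two_right.mpr hgodd).pow_right l
  obtain ⟨w, ⟨hwT, hwc⟩, hwm⟩ := CfsgLib.coprime_fixed_quotient (A := Subgroup.zpowers g) (K := hF.tGrp u a)
    (N := hF.uGrp u a)
    (Subgroup.zpowers_le.mpr (mem_normalizer_of_conj fun x hx => (hgT x hx).1)) hcop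
    (Or.inl inferInstance) h.uGrp_le_tGrp
    (fun x hx => (hF.mem_nGrp.mp (h.mem_tGrp.mp hx).1.1).2)
    (Subgroup.zpowers_le.mpr hgn) hmT
    (fun x hx => by
      obtain ⟨l, rfl⟩ := Subgroup.mem_zpowers_iff.mp hx
      clear hx
      induction l using Int.induction_on with
      | zero => simp
      | succ l ih =>
        have h1 := Subgroup.mul_mem _ (conj_mem_of_normalizer hgn ih) (hgT m hmT).2
        rwa [show g * (g ^ (l : ℤ) * m * (g ^ (l : ℤ))⁻¹ * m⁻¹) * g⁻¹ * (g * m * g⁻¹ * m⁻¹) =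
          g ^ ((l : ℤ) + 1) * m * (g ^ ((l : ℤ) + 1))⁻¹ * m⁻¹ by group] at h1
      | pred l ih =>
        have h1 := conj_mem_of_normalizer (inv_mem hgn) (Subgroup.mul_mem _ ih (inv_mem (hgT m hmT).2))
        rwa [show g⁻¹ * (g ^ (-(l : ℤ)) * m * (g ^ (-(l : ℤ)))⁻¹ * m⁻¹ * (g * m * g⁻¹ * m⁻¹)⁻¹) * g⁻¹⁻¹ =
          g ^ (-(l : ℤ) - 1) * m * (g ^ (-(l : ℤ) - 1))⁻¹ * m⁻¹ by group] at h1)
  have hgw : g * w = w * g :=
    Subgroup.mem_centralizer_iff.mp hwc g (Subgroup.mem_zpowers g)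
  have hgww : g * (w * w) * g⁻¹ = w * w := by rw [← mul_assoc, hgw, mul_assoc w, hgw]; group
  have hw2 : w * w = 1 := hcent _ (h.tGrp_sq hwT) hgww
  have hwmap : Maps Ω u w 1 μ := by
    have h2 := (hmmap 1 (one_mem _))
    rw [mul_one] at h2
    have h3 := (h.maps_uGrp hwm (one_mem _)).mul h2
    rwa [mul_inv_cancel_left] at h3
  have hwa : w • a = a := (hF.mem_nGrp.mp (h.mem_tGrp.mp hwT).1.1).1
  have hw1 : w ≠ 1 := fun e => hμ1 (h.maps_unique hμE (one_mem _) hwmap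
    (by rw [e]; exact h.maps_uGrp (one_mem _) (one_mem _)))
  have hwB : IsB Ω w := by
    refine (hF.isB_or_mem ⟨hw1, hw2⟩ hwa).resolve_left fun hZ => hμ1 ?_
    exact h.maps_unique hμE (one_mem _) hwmap
      (h.maps_uGrp (hF.eGrp_le_uGrp h.isB h.fix_a (hF.mem_eGrp_of hZ hwa)) (one_mem _))
  have hub : (u * 1) • b = b := by rw [mul_one, h.fix_b]
  have hbμ : ∀ {c : Ω}, u • c = c → (u * μ) • c = c → c = a := fun h1 h2 => hF.eq_of_fix_both hμE hμ1 h1 h2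
  have hwb : (u * μ) • w • b = w • b := hwmap.fix hub
  have hwb1 : w • b ≠ b := fun e => h.ne (hbμ h.fix_b (by rwa [e] at hwb))
  obtain ⟨d0, ⟨hd0, hd0w, hd0b⟩, huniq⟩ := hF.existsUnique_swap hwB hwb1
  have hgd : g * d0 * g⁻¹ = d0 := by
    refine huniq _ ⟨hF.ctx.hyp.conj d0 hd0 g, ?_, ?_⟩
    · calc w * (g * d0 * g⁻¹) = g * (w * d0) * g⁻¹ := by rw [← mul_assoc, ← mul_assoc, ← hgw]; group
        _ = g * d0 * (g⁻¹ * (g * w)) * g⁻¹ := by rw [hd0w]; group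
        _ = g * d0 * g⁻¹ * w := by rw [hgw]; group
    · rw [mul_smul, mul_smul, inv_smul_eq_iff.mpr hgb.symm, hd0b, ← mul_smul, hgw, mul_smul, hgb]
  obtain ⟨p, hp⟩ := exists_fix hF.ctx.hyp hd0
  have hwp : w • p = p := (hF.cent_iff hwB hd0 hp).mp hd0w
  have hgp : g • p = p := eq_of_fix hF.ctx.hyp hd0 (by
    conv_lhs => rw [← hgd]
    exact smul_conj hp) hp
  have hpa : p ≠ a := fun e => by
    subst e
    have hdu : u • d0 • b = d0 • b :=
      fix_of_comm (hF.commute_eGrp h.isB.1 h.fix_a (hF.mem_eGrp_of hd0 hp)) h.fix_b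
    rw [hd0b] at hdu
    exact h.ne (smul_left_cancel w ((hbμ hdu hwb).trans hwa.symm))
  obtain ⟨e', he', he1', hge'⟩ := hF.exists_cent_other hwB hwp hwa hpa.symm
    (keeps_of_comm hgw.symm) hgp hga (hF.mem_eGrp_of hd0 hp) (hF.ctx.hyp.inv d0 hd0).1
    (mul_inv_eq_iff_eq_mul.mp hgd)
  exact hz1 (hfree hz he' he1' (by rw [← hgconj he', hge', mul_inv_cancel_right]))

/-- An element of the kernel normalising the centraliser and fixing the first kernel lies in the centraliser. -/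
theorem Std.mem_uGrp_of_fix {g : G} (hg : g ∈ hF.nGrp u a) (hgK : g ∈ hF.kGrp a) (h1 : Maps Ω u g 1 1) :
    g ∈ hF.uGrp u a := by
  obtain ⟨x, hx, d, rfl, hd, hdN, -⟩ := h.exists_mul_two hg h1
  have hdK : d ∈ hF.kGrp a := by
    have h2 := Subgroup.mul_mem _ (inv_mem (hF.mem_uGrp.mp hx).1) hgK
    rwa [inv_mul_cancel_left] at h2
  obtain ⟨v, j, -, -, hj, -, hmap⟩ := h.exists_scalar hdN hdK (mem_two.mp hd).2
  have hj1 := h.scalar_eq_one hdN hdK (mem_two.mp hd).2 hj.1 hmap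
  refine Subgroup.mul_mem _ hx (h.mem_uGrp_of_trivial hdN hdK fun y hy => ?_)
  have h2 := hmap y hy
  rwa [hj1, inv_one, one_mul, mul_one] at h2

end FCtx

end CfsgLib.Bender.Q
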