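import Cfsg.Agent.Lib.Bender.LinearTrans

/-!
A regular commutative group of linear maps over two elements: it is the multiplicative group of a field, and what
normalises it is semilinear.

Blueprint: `blueprint/bender/Q_VI.md` 4.
-/

set_option autoImplicit false
set_option linter.unusedSectionVars false
set_option linter.style.haveILetI false
set_option linter.deprecated false

universe u

namespace CfsgLib.Bender.Q.Singer

open Module
open CfsgLib.SingerFive (mulE mulE_apply autE autE_apply IsSemi)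

variable {V : Type u} [AddCommGroup V] [Module (ZMod 2) V] [Finite V] [Nontrivial V]
  {C : Subgroup (V ≃ₗ[ZMod 2] V)} (hcomm : ∀ a ∈ C, ∀ b ∈ C, a * b = b * a)
  (htr : ∀ v w : V, v ≠ 0 → w ≠ 0 → ∃ a ∈ C, a v = w)
include hcomm htr

/-- The field of a regular commutative group. -/
theorem exists_field : ∃ (K : Type u) (_ : Field K) (_ : Algebra (ZMod 2) K) (_ : Finite K)
    (e : K ≃ₗ[ZMod 2] V), (∀ c ∈ C, ∃ k : Kˣ, ∀ x : K, c (e x) = e ((k : K) * x)) ∧
      ∀ k : Kˣ, ∃ c ∈ C, ∀ x : K, c (e x) = e ((k : K) * x) := by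
  classical
  haveI : Fact (Nat.Prime 2) := ⟨Nat.prime_two⟩
  obtain ⟨v₀, hv₀⟩ := exists_ne (0 : V)
  let S : Set (Module.End (ZMod 2) V) := (fun a : V ≃ₗ[ZMod 2] V => (a : Module.End (ZMod 2) V)) '' C
  have hS : ∀ x ∈ S, ∀ y ∈ S, x * y = y * x := by
    rintro _ ⟨a, ha, rfl⟩ _ ⟨b, hb, rfl⟩
    exact congrArg LinearEquiv.toLinearMap (hcomm a ha b hb)
  let K := Algebra.adjoin (ZMod 2) S
  letI : CommRing K := Algebra.adjoinCommRingOfComm (ZMod 2) hS
  have hKc : ∀ (k : K) (a : V ≃ₗ[ZMod 2] V), a ∈ C → ∀ v,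
      (k : Module.End (ZMod 2) V) (a v) = a ((k : Module.End (ZMod 2) V) v) := by
    intro k a ha v
    have h := congrArg Subtype.val (mul_comm k ⟨_, Algebra.subset_adjoin ⟨a, ha, rfl⟩⟩)
    exact LinearMap.congr_fun h v
  let ev : K →ₗ[ZMod 2] V :=
    { toFun := fun k => (k : Module.End (ZMod 2) V) v₀
      map_add' := fun a b => rfl
      map_smul' := fun c a => rfl }
  have hinj : Function.Injective ev := by
    intro j k h
    refine Subtype.ext (LinearMap.ext fun v => ?_)
    by_cases hv : v = 0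
    · rw [hv, map_zero, map_zero]
    · obtain ⟨a, ha, rfl⟩ := htr v₀ v hv₀ hv
      rw [hKc j a ha, hKc k a ha]
      exact congrArg a h
  let unitOf : C → K := fun a => ⟨_, Algebra.subset_adjoin ⟨a.1, a.2, rfl⟩⟩
  have hne : ∀ k : K, k ≠ 0 → ∃ a : C, k = unitOf a := by
    intro k hk
    obtain ⟨a, ha, e⟩ := htr v₀ (ev k) hv₀ fun h => hk (hinj (h.trans ev.map_zero.symm))
    exact ⟨⟨a, ha⟩, hinj e.symm⟩
  haveI : Nontrivial K := ⟨⟨0, 1, fun h => hv₀ (congrArg ev h).symm⟩⟩
  have hfield : IsField K := ⟨⟨0, 1, zero_ne_one⟩, mul_comm, fun {k} hk => by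
    obtain ⟨a, rfl⟩ := hne k hk
    exact ⟨unitOf a⁻¹, Subtype.ext (LinearMap.ext fun v => (a : V ≃ₗ[ZMod 2] V).apply_symm_apply v)⟩⟩
  letI : Field K := hfield.toField
  have hsurj : Function.Surjective ev := fun w => by
    by_cases hw : w = 0
    · exact ⟨0, by rw [hw]; exact ev.map_zero⟩
    · obtain ⟨a, ha, rfl⟩ := htr v₀ w hv₀ hw
      exact ⟨unitOf ⟨a, ha⟩, rfl⟩
  let e : K ≃ₗ[ZMod 2] V := LinearEquiv.ofBijective ev ⟨hinj, hsurj⟩
  haveI : Finite K := Finite.of_injective e e.injective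
  refine ⟨K, inferInstance, inferInstance, inferInstance, e, fun c hc => ?_, fun k => ?_⟩
  · have h0 : unitOf ⟨c, hc⟩ ≠ 0 := fun h => hv₀ (c.injective (by
      rw [map_zero]; exact congrArg ev h))
    exact ⟨Units.mk0 _ h0, fun x => rfl⟩
  · obtain ⟨⟨c, hc⟩, hk⟩ := hne k k.ne_zero
    exact ⟨c, hc, fun x => by rw [hk]; rfl⟩

/-- A map of prime order normalising the group and commuting with none of its elements generates the Galois
group: the dimension is its order. -/
theorem finrank_eq_prime {g : V ≃ₗ[ZMod 2] V} {p : ℕ} (hp : p.Prime) (hgp : g ^ p = 1) (hg1 : g ≠ 1)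
    (hn : ∀ c ∈ C, g * c * g⁻¹ ∈ C) (hfree : ∀ c ∈ C, g * c = c * g → c = 1) :
    finrank (ZMod 2) V = p := by
  classical
  haveI : Fact (Nat.Prime 2) := ⟨Nat.prime_two⟩
  obtain ⟨K, _, _, _, e, hC, hK⟩ := exists_field hcomm htr
  haveI : FiniteDimensional (ZMod 2) K := Module.Finite.of_finite
  let conj : (K ≃ₗ[ZMod 2] K) ≃* (V ≃ₗ[ZMod 2] V) :=
    { toFun := fun f => e.symm.trans (f.trans e)
      invFun := fun f => e.trans (f.trans e.symm)
      left_inv := fun f => LinearEquiv.ext fun x => by simp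
      right_inv := fun f => LinearEquiv.ext fun x => by simp
      map_mul' := fun f g => LinearEquiv.ext fun x => by simp }
  have hconj : ∀ (f : K ≃ₗ[ZMod 2] K) (x : K), conj f (e x) = e (f x) := fun f x => by
    show e (f (e.symm (e x))) = _
    rw [e.symm_apply_apply]
  have hmul : ∀ k : Kˣ, conj (mulE k) ∈ C := fun k => by
    obtain ⟨c, hc, hce⟩ := hK k
    have : conj (mulE k) = c := LinearEquiv.ext fun v => by
      obtain ⟨x, rfl⟩ := e.surjective v
      rw [hconj, mulE_apply, hce]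
    exact this ▸ hc
  obtain ⟨d, φ, hφ⟩ : IsSemi (conj.symm g) := CfsgLib.Bender.LinearTrans.isSemi_of_normalizes fun k => by
    obtain ⟨k', hk'⟩ := hC _ (hn _ (hmul k))
    refine ⟨k', conj.injective (LinearEquiv.ext fun v => ?_)⟩
    obtain ⟨x, rfl⟩ := e.surjective v
    rw [map_mul, map_mul, map_inv, conj.apply_symm_apply, hk', hconj, mulE_apply]
  -- the fixed field is the prime field
  have hfix : ∀ y : K, φ y = y → y = 0 ∨ y = 1 := fun y hy => by
    by_cases h0 : y = 0
    · exact Or.inl h0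
    right
    have hcom : conj.symm g * mulE (Units.mk0 y h0) = mulE (Units.mk0 y h0) * conj.symm g :=
      LinearEquiv.ext fun x => by
        rw [hφ]
        show (d : K) * φ (y * x) = y * ((d : K) * φ x)
        rw [map_mul, hy]
        ring
    have h1 := congrArg conj hcom
    rw [map_mul, map_mul, conj.apply_symm_apply] at h1
    have h2 : (mulE (Units.mk0 y h0) : K ≃ₗ[ZMod 2] K) = 1 :=
      conj.injective ((hfree _ (hmul _) h1).trans (map_one conj).symm)
    simpa using congrArg (fun f : K ≃ₗ[ZMod 2] K => f 1) h2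
  have hdet : φ ^ p = 1 := by
    have key : ∀ n : ℕ, ∃ d' : Kˣ, ∀ x, (conj.symm g ^ n) x = (d' : K) * (φ ^ n) x := by
      intro n
      induction n with
      | zero => exact ⟨1, fun x => by simp⟩
      | succ n ih =>
        obtain ⟨d', hd'⟩ := ih
        refine ⟨d' * Units.map ((φ ^ n : K ≃ₐ[ZMod 2] K) : K →* K) d, fun x => ?_⟩
        rw [pow_succ, pow_succ]
        show (conj.symm g ^ n) (conj.symm g x) = _
        rw [hd', hφ]
        show (d' : K) * (φ ^ n) ((d : K) * φ x) = _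
        rw [map_mul, Units.val_mul, ← mul_assoc]
        rfl
    obtain ⟨d', hd'⟩ := key p
    have h1 : conj.symm g ^ p = 1 := by rw [← map_pow, hgp, map_one]
    have hd1 : (d' : K) = 1 := by
      have h3 := hd' 1
      rw [h1] at h3
      simpa using h3.symm
    refine AlgEquiv.ext fun x => ?_
    have h3 := hd' x
    rw [h1, hd1, one_mul] at h3
    exact h3.symm
  have hne : φ ≠ 1 := fun h => hg1 (by
    have hall : ∀ y : K, y = 0 ∨ y = 1 := fun y => hfix y (by rw [h]; rfl)
    refine LinearEquiv.ext fun v => ?_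
    obtain ⟨x, rfl⟩ := e.surjective v
    rcases hall x with rfl | rfl
    · simp
    · rcases hall (conj.symm g 1) with h0 | h0
      · exact absurd ((conj.symm g).injective (h0.trans (map_zero _).symm)) one_ne_zero
      · have := congrArg e h0
        rw [← hconj, conj.apply_symm_apply] at this
        exact this)
  have hord : orderOf φ = p := haveI := Fact.mk hp; orderOf_eq_prime hdet hne
  have htop : Subgroup.zpowers φ = ⊤ := by
    rw [← IntermediateField.fixingSubgroup_fixedField (Subgroup.zpowers φ)]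
    refine eq_top_iff.mpr fun ψ _ => (IntermediateField.mem_fixingSubgroup_iff _ _).mpr fun y hy => ?_
    rcases hfix y (hy ⟨φ, Subgroup.mem_zpowers φ⟩) with rfl | rfl
    · exact map_zero ψ
    · exact map_one ψ
  rw [← e.finrank_eq, ← IsGalois.card_aut_eq_finrank (ZMod 2) K, ← Subgroup.card_top, ← htop, Nat.card_zpowers,
    hord]

/-- The normaliser has order at most `(2 ^ l - 1) * l`. -/
theorem card_le_of_normalizes {H : Subgroup (V ≃ₗ[ZMod 2] V)}
    (hH : ∀ h ∈ H, ∀ c ∈ C, h * c * h⁻¹ ∈ C) :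
    Nat.card H ≤ (2 ^ finrank (ZMod 2) V - 1) * finrank (ZMod 2) V := by
  classical
  haveI : Fact (Nat.Prime 2) := ⟨Nat.prime_two⟩
  obtain ⟨K, _, _, _, e, hC, hK⟩ := exists_field hcomm htr
  haveI : FiniteDimensional (ZMod 2) K := Module.Finite.of_finite
  have hcard : Nat.card Kˣ = 2 ^ finrank (ZMod 2) V - 1 := by
    rw [Nat.card_units, Module.natCard_eq_pow_finrank (K := ZMod 2), Nat.card_zmod, e.finrank_eq]
  rw [← hcard, ← e.finrank_eq, ← IsGalois.card_aut_eq_finrank (ZMod 2) K, ← Nat.card_prod]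
  have hsemi : ∀ h : H, ∃ p : Kˣ × (K ≃ₐ[ZMod 2] K), ∀ x : K, (h : V ≃ₗ[ZMod 2] V) (e x) = e ((p.1 : K) * p.2 x) := by
    rintro ⟨h, hh⟩
    obtain ⟨d, φ, hφ⟩ : IsSemi (e.trans (h.trans e.symm)) :=
      CfsgLib.Bender.LinearTrans.isSemi_of_normalizes fun k => by
        obtain ⟨c, hc, hce⟩ := hK k
        obtain ⟨k', hk'⟩ := hC _ (hH h hh c hc)
        refine ⟨k', mul_inv_eq_iff_eq_mul.mpr (LinearEquiv.ext fun x => e.injective ?_)⟩
        show e (e.symm (h (e ((k : K) * x)))) = e ((k' : K) * e.symm (h (e x)))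
        rw [e.apply_symm_apply, ← hce, ← hk', e.apply_symm_apply]
        show h (c (e x)) = h (c (h⁻¹ (h (e x))))
        rw [← LinearEquiv.mul_apply h⁻¹, inv_mul_cancel]
        rfl
    refine ⟨(d, φ), fun x => ?_⟩
    have := congrArg (fun f : K ≃ₗ[ZMod 2] K => e (f x)) hφ
    simpa using this
  choose F hFe using hsemi
  refine Nat.card_le_card_of_injective F fun h h' hh => Subtype.ext (LinearEquiv.ext fun v => ?_)
  obtain ⟨x, rfl⟩ := e.surjective v
  rw [hFe, hFe, hh]

/-- What normalises the group and fixes a vector is cyclic, of order dividing the dimension. -/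
theorem cyclic_of_fix {H : Subgroup (V ≃ₗ[ZMod 2] V)} (hH : ∀ h ∈ H, ∀ c ∈ C, h * c * h⁻¹ ∈ C) {v₀ : V}
    (hv₀ : v₀ ≠ 0) (hfix : ∀ h ∈ H, h v₀ = v₀) :
    IsCyclic H ∧ Nat.card H ∣ finrank (ZMod 2) V := by
  classical
  haveI : Fact (Nat.Prime 2) := ⟨Nat.prime_two⟩
  obtain ⟨K, _, _, _, e, hC, hK⟩ := exists_field hcomm htr
  haveI : FiniteDimensional (ZMod 2) K := Module.Finite.of_finite
  have hsemi : ∀ h : H, ∃ p : Kˣ × (K ≃ₐ[ZMod 2] K), ∀ x : K, (h : V ≃ₗ[ZMod 2] V) (e x) = e ((p.1 : K) * p.2 x) := by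
    rintro ⟨h, hh⟩
    obtain ⟨d, φ, hφ⟩ : IsSemi (e.trans (h.trans e.symm)) :=
      CfsgLib.Bender.LinearTrans.isSemi_of_normalizes fun k => by
        obtain ⟨c, hc, hce⟩ := hK k
        obtain ⟨k', hk'⟩ := hC _ (hH h hh c hc)
        refine ⟨k', mul_inv_eq_iff_eq_mul.mpr (LinearEquiv.ext fun x => e.injective ?_)⟩
        show e (e.symm (h (e ((k : K) * x)))) = e ((k' : K) * e.symm (h (e x)))
        rw [e.apply_symm_apply, ← hce, ← hk', e.apply_symm_apply]
        show h (c (e x)) = h (c (h⁻¹ (h (e x))))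
        rw [← LinearEquiv.mul_apply h⁻¹, inv_mul_cancel]
        rfl
    refine ⟨(d, φ), fun x => ?_⟩
    have := congrArg (fun f : K ≃ₗ[ZMod 2] K => e (f x)) hφ
    simpa using this
  choose F hFe using hsemi
  have huniq : ∀ (h : H) (d : K) (φ : K ≃ₐ[ZMod 2] K), (∀ x : K, (h : V ≃ₗ[ZMod 2] V) (e x) = e (d * φ x)) →
      (F h).2 = φ := by
    intro h d φ hφ
    have h1 : ((F h).1 : K) = d := by
      have h2 := e.injective ((hFe h 1).symm.trans (hφ 1))
      simpa using h2
    refine AlgEquiv.ext fun x => ?_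
    have h2 := e.injective ((hFe h x).symm.trans (hφ x))
    rw [← h1] at h2
    exact mul_left_cancel₀ (F h).1.ne_zero h2
  let θ : H →* (K ≃ₐ[ZMod 2] K) := MonoidHom.mk' (fun h => (F h).2) fun g g' =>
    huniq _ ((F g).1 * (F g).2 (F g').1) _ fun x => by
      show (g : V ≃ₗ[ZMod 2] V) ((g' : V ≃ₗ[ZMod 2] V) (e x)) = _
      rw [hFe g', hFe g, map_mul ((F g).2), mul_assoc]
      rfl
  obtain ⟨x₀, rfl⟩ := e.surjective v₀
  have hx₀ : x₀ ≠ 0 := fun h => hv₀ (by rw [h, map_zero])
  have hinj : Function.Injective θ := (injective_iff_map_eq_one θ).mpr fun h hh => by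
    have h1 : (F h).2 = 1 := hh
    have h2 := e.injective ((hfix h h.2).symm.trans (hFe h x₀))
    rw [h1] at h2
    have h3 : ((F h).1 : K) = 1 := mul_right_cancel₀ hx₀ ((one_mul x₀).trans h2).symm
    refine Subtype.ext (LinearEquiv.ext fun v => ?_)
    obtain ⟨x, rfl⟩ := e.surjective v
    rw [hFe, h1, h3, one_mul]
    rfl
  refine ⟨isCyclic_of_injective θ hinj, ?_⟩
  rw [← e.finrank_eq, ← IsGalois.card_aut_eq_finrank (ZMod 2) K]
  exact Subgroup.card_dvd_of_injective θ hinj

end CfsgLib.Bender.Q.Singer
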