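import Cfsg.Agent.Lib.Bender.Q.Full.Str

/-!
At most `q ^ 2 + 1` fixed points: what centralises a full involution and the members at one of its fixed points and
fixes a second one fixes all of them, and squares in the regular group are members.

Blueprint: `blueprint/bender/Q_VI.md` 2.1.
-/

set_option autoImplicit false
set_option linter.unusedSectionVars false
set_option linter.style.haveILetI false

universe u

namespace CfsgLib.Bender.Q

open MulAction Cfsg CfsgLib.SuzukiRankOne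
open CfsgLib.Bender.TwoClosed (IsInv two mem_two smul_conj)

variable {G Ω : Type u} [Group G] [MulAction G Ω] {Z : Set G} [Finite G] [FaithfulSMul G Ω]

namespace FCtx

/-- No full involution fixes more than `q ^ 2 + 1` points. -/
def Small (hF : FCtx G Ω Z) : Prop :=
  ∀ (u : G) (a : Ω), IsB Ω u → u • a = a → fixCard Ω u ≤ Nat.card (hF.eGrp a) ^ 2 + 1

variable (hF : FCtx G Ω Z) {u : G} (hu : IsB Ω u) {a b : Ω} (ha : u • a = a) (hub : u • b = b) (hba : b ≠ a)
include hF hu ha hub hba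

/-- With `q ^ 2 + 1` fixed points the root of a matching pair is no involution. -/
theorem not_rsq {t e r : G} (hq : fixCard Ω u = Nat.card (hF.eGrp a) ^ 2 + 1) (he : e ∈ hF.eGrp a) (he1 : e ≠ 1)
    (h : hF.Match hu ha b t e r) : ¬ Agree Ω u (r * r) 1 := by
  intro hr2
  obtain ⟨ht, hta, hr, hm⟩ := h
  obtain ⟨htW, Q, hS, hqq, h4, hp⟩ := hF.exists_setup hu ha hub hba ht hta
  obtain ⟨hrW, hrQ⟩ := (hF.mem_qGrp_iff hu ha hS hp).mp hr
  have heW := hF.eGrp_le_wGrp hu ha he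
  have hR : Rsq (⟨a, hF.mem_centres_w hu ha⟩ : centres Ω Z (wGrp Z u)) (img hF.ctx.hyp (wGrp Z u) ⟨t, htW⟩) Q := by
    refine rsq_of_one hS (s := img hF.ctx.hyp (wGrp Z u) ⟨e, heW⟩) ⟨Subtype.ext (hF.eGrp_fix he),
      img_isInv hF.ctx.hyp (hF.isTopOdd_w hu).toIsTop (x := ⟨e, heW⟩) (hF.mem_of_mem_eGrp he he1).1⟩ hrQ ?_ ?_
    · rw [← map_inv, ← map_mul, ← map_mul, ← map_mul, ← map_mul, hF.img_eq_iff hu]
      exact hm
    · rw [← map_mul, ← map_one (img hF.ctx.hyp (wGrp Z u)), hF.img_eq_iff hu]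
      exact hr2
  have hcard : Nat.card Q = Nat.card (hF.eGrp a) ^ 2 := by
    have h := CfsgLib.RankOne.card_points hS
    have h' := congrArg Set.ncard (hF.centres_w hu)
    rw [Nat.card_coe_set_eq] at h
    rw [fixCard] at hq
    omega
  have h4q := hF.four_le_card a
  rcases Ext.shape_cases hS h4 with ⟨-, h | h⟩ | ⟨hn, -⟩
  · rw [hcard, hqq] at h
    nlinarith
  · rw [hcard, hqq] at h
    nlinarith
  · exact hn hR

/-- The conjugates of the root under the torus lie in different cosets of the members. -/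
theorem torus_root_ne {t e r : G} (hq : fixCard Ω u = Nat.card (hF.eGrp a) ^ 2 + 1) (he : e ∈ hF.eGrp a) (he1 : e ≠ 1)
    (h : hF.Match hu ha b t e r) {j : G} (hj : j ∈ jGrp Z a b) {x : G} (hx : x ∈ hF.eGrp a)
    (hjr : Agree Ω u (j * r * j⁻¹) (x * r)) : j = 1 := by
  by_contra hj1
  obtain ⟨hja, hjb⟩ := hF.jGrp_fix hba hj
  have hjk := keeps_of_comm (Ω := Ω) (hF.commute_jGrp hba hu ha hub hj)
  have hconjE : ∀ {y : G}, y ∈ hF.eGrp a → j * y * j⁻¹ ∈ hF.eGrp a := fun {y} hy => by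
    have := hF.eGrp_conj (g := j) hy
    rwa [hja] at this
  obtain ⟨⟨y, hy⟩, hyx⟩ := (Finite.injective_iff_surjective (f := fun y : hF.eGrp a =>
    (⟨j * y * j⁻¹ * y, mul_mem (hconjE y.2) y.2⟩ : hF.eGrp a))).mp (fun y y' hyy => by
      by_contra hne
      have h1 : j * y * j⁻¹ * y = j * y' * j⁻¹ * y' := congrArg Subtype.val hyy
      have hne1 : (y : G) * y' ≠ 1 := fun e' => hne (Subtype.ext (by
        rw [mul_eq_one_iff_eq_inv.mp e', inv_eq_of_mul_eq_one_right (hF.eGrp_sq y'.2)]))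
      refine hj1 (hF.jGrp_free hba hj (mul_mem y.2 y'.2) hne1 (mul_inv_eq_iff_eq_mul.mp ?_))
      calc j * ((y : G) * y') * j⁻¹ = (j * y * j⁻¹) * (j * y' * j⁻¹) := by group
        _ = (j * y * j⁻¹ * y) * ((y : G) * (j * y' * j⁻¹)) := by
            simp [mul_assoc, ← mul_assoc (y : G) y, hF.eGrp_sq y.2]
        _ = (j * y' * j⁻¹ * y') * ((j * y' * j⁻¹) * (y : G)) := by rw [h1, hF.eGrp_comm y.2 (hconjE y'.2)]
        _ = (y : G) * y' * ((j * y' * j⁻¹) * (j * y' * j⁻¹)) := by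
            rw [hF.eGrp_comm (hconjE y'.2) y'.2, mul_assoc, ← mul_assoc (j * (y' : G) * j⁻¹),
              hF.eGrp_comm (mul_mem (hconjE y'.2) (hconjE y'.2)) y.2, ← mul_assoc, hF.eGrp_comm y'.2 y.2]
        _ = (y : G) * y' := by rw [hF.eGrp_sq (hconjE y'.2), mul_one]) ⟨x, hx⟩
  have hyx' : j * y * j⁻¹ * y = x := congrArg Subtype.val hyx
  -- `y * r` is fixed by `j` on the fixed points
  have hfix : Agree Ω u (j * (y * r) * j⁻¹) (y * r) := by
    have h1 := hjr.mul_left (z := j * y * j⁻¹)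
    have h2 : j * y * j⁻¹ * (x * r) = y * r := by
      rw [← hyx', ← mul_assoc, ← mul_assoc, hF.eGrp_sq (hconjE hy), one_mul]
    rw [h2, show j * y * j⁻¹ * (j * r * j⁻¹) = j * (y * r) * j⁻¹ by group] at h1
    exact h1
  have hq2 : y * r ∈ hF.qGrp hu ha := Subgroup.mul_mem _ (hF.eGrp_le_qGrp hu ha hy) h.2.2.1
  have hp : j • (y * r) • b = (y * r) • b := by
    have h1 := hfix b hub
    rwa [mul_smul, mul_smul, inv_smul_eq_iff.mpr hjb.symm] at h1
  rcases hF.jGrp_fix_only hba hj hj1 hp with h1 | h1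
  · exact hba (smul_left_cancel (y * r) (h1.trans (hF.qGrp_fix hu ha hq2).symm))
  · have h2 := (hF.qGrp_agree_one hu ha hq2 hub hba h1).mul_left (z := y)
    rw [← mul_assoc, hF.eGrp_sq hy, one_mul, mul_one] at h2
    refine hF.not_rsq hu ha hub hba hq he he1 h ?_
    have h3 := (h2.mul_right (z := r) (hF.qGrp_comm hu ha h.2.2.1)).trans (h2.mul_left (z := y))
    rwa [hF.eGrp_sq hy] at h3

/-- With `q ^ 2 + 1` fixed points they are covered by the members and the conjugates of the root. -/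
theorem cover_two {t e r : G} (hq : fixCard Ω u = Nat.card (hF.eGrp a) ^ 2 + 1) (he : e ∈ hF.eGrp a) (he1 : e ≠ 1)
    (h : hF.Match hu ha b t e r) {c : Ω} (hc : u • c = c) (hca : c ≠ a) :
    ∃ x ∈ hF.eGrp a, c = x • b ∨ ∃ j ∈ jGrp Z a b, c = (x * (j * r * j⁻¹)) • b := by
  haveI := finite_points hF.ctx.hyp
  have hr := h.2.2.1
  have hconj : ∀ {j : G}, j ∈ jGrp Z a b → j * r * j⁻¹ ∈ hF.qGrp hu ha := fun hj =>
    hF.qGrp_conj hu ha (keeps_of_comm (hF.commute_jGrp hba hu ha hub hj)) (hF.jGrp_fix hba hj).1 hr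
  let g : hF.eGrp a × Option (jGrp Z a b) → G := fun p => p.1 * p.2.elim 1 fun j => (j : G) * r * (j : G)⁻¹
  have hg : ∀ p, g p ∈ hF.qGrp hu ha := by
    rintro ⟨x, _ | j⟩
    · exact Subgroup.mul_mem _ (hF.eGrp_le_qGrp hu ha x.2) (one_mem _)
    · exact Subgroup.mul_mem _ (hF.eGrp_le_qGrp hu ha x.2) (hconj j.2)
  let f : hF.eGrp a × Option (jGrp Z a b) → {c : Ω // u • c = c ∧ c ≠ a} := fun p =>
    ⟨g p • b, fix_of_comm (hF.qGrp_comm hu ha (hg p)) hub, fun e' =>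
      hba (smul_left_cancel (g p) (e'.trans (hF.qGrp_fix hu ha (hg p)).symm))⟩
  have hne : ∀ {x : G}, x ∈ hF.eGrp a → ∀ {j : G}, j ∈ jGrp Z a b → ¬ Agree Ω u (j * r * j⁻¹) x := by
    intro x hx j hj hjr
    have hk := keeps_of_comm (Ω := Ω) (hF.commute_jGrp hba hu ha hub hj)
    have h1 := hF.agree_conj hu (hF.keeps_inv hu hk) hjr
    rw [show j⁻¹ * (j * r * j⁻¹) * j⁻¹⁻¹ = r by group] at h1
    have hx' : j⁻¹ * x * j⁻¹⁻¹ ∈ hF.eGrp a := by
      have := hF.eGrp_conj (g := j⁻¹) hx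
      rwa [(hF.jGrp_fix hba (inv_mem hj)).1] at this
    refine hF.not_rsq hu ha hub hba hq he he1 h ?_
    have h2 := (h1.mul_right (z := r) (hF.qGrp_comm hu ha hr)).trans (h1.mul_left (z := _))
    rwa [hF.eGrp_sq hx'] at h2
  have hinj : Function.Injective f := by
    rintro ⟨x, o⟩ ⟨x', o'⟩ hpp
    have hag := hF.qGrp_agree hu ha (hg (x, o)) (hg (x', o')) hub hba (congrArg Subtype.val hpp)
    have hag' := hag.mul_left (z := (x' : G))
    rcases o with _ | j <;> rcases o' with _ | j' <;> simp only [g, Option.elim, mul_one] at hag hag'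
    · rw [hF.eGrp_eq_of_agree hu x.2 x'.2 hag |> Subtype.ext (a1 := x) (a2 := x')]
    · rw [← mul_assoc (x' : G) x', hF.eGrp_sq x'.2, one_mul] at hag'
      exact absurd hag'.symm (hne (mul_mem x'.2 x.2) j'.2)
    · rw [← mul_assoc, hF.eGrp_sq x'.2] at hag'
      have h1 := hag.mul_left (z := (x : G))
      rw [← mul_assoc, hF.eGrp_sq x.2, one_mul] at h1
      exact absurd h1 (hne (mul_mem x.2 x'.2) j.2)
    · rw [← mul_assoc (x' : G) x', hF.eGrp_sq x'.2, one_mul, ← mul_assoc (x' : G) x] at hag'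
      have hk := keeps_of_comm (Ω := Ω) (hF.commute_jGrp hba hu ha hub j'.2)
      have h1 := hF.agree_conj hu (hF.keeps_inv hu hk) hag'
      rw [show (j' : G)⁻¹ * ((j' : G) * r * (j' : G)⁻¹) * (j' : G)⁻¹⁻¹ = r by group] at h1
      set y := (j' : G)⁻¹ * ((x' : G) * x) * (j' : G)⁻¹⁻¹ with hy
      have hym : y ∈ hF.eGrp a := by
        have := hF.eGrp_conj (g := (j' : G)⁻¹) (mul_mem x'.2 x.2)
        rwa [(hF.jGrp_fix hba (inv_mem j'.2)).1] at this
      have h2 : Agree Ω u (((j' : G)⁻¹ * j) * r * ((j' : G)⁻¹ * j)⁻¹) (y * r) := by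
        have h3 := h1.mul_left (z := y)
        rw [show y * ((j' : G)⁻¹ * ((x' : G) * x * ((j : G) * r * (j : G)⁻¹)) * (j' : G)⁻¹⁻¹) =
          y * y * (((j' : G)⁻¹ * j) * r * ((j' : G)⁻¹ * j)⁻¹) by rw [hy]; group, hF.eGrp_sq hym, one_mul] at h3
        exact h3
      have hjj : j = j' := Subtype.ext (inv_mul_eq_one.mp
        (hF.torus_root_ne hu ha hub hba hq he he1 h (mul_mem (inv_mem j'.2) j.2) hym h2)).symm
      subst hjj
      have h4 : Agree Ω u (x : G) x' := by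
        have h5 := hag.mul_right (z := ((j : G) * r * (j : G)⁻¹)⁻¹)
          (wGrp_comm (inv_mem (hF.qGrp_le hu ha (hconj j.2))))
        simpa [mul_assoc] using h5
      rw [Subtype.ext (hF.eGrp_eq_of_agree hu x.2 x'.2 h4) (a1 := x) (a2 := x')]
  have hcard : Nat.card {c : Ω // u • c = c ∧ c ≠ a} = Nat.card (hF.eGrp a × Option (jGrp Z a b)) := by
    haveI : Finite (jGrp Z a b) := inferInstance
    rw [Nat.card_prod, Finite.card_option, hF.card_jGrp hba]
    have h1 : {c : Ω | u • c = c ∧ c ≠ a} = {c : Ω | u • c = c} \ {a} := rfl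
    show Nat.card ({c : Ω | u • c = c ∧ c ≠ a} : Set Ω) = _
    rw [Nat.card_coe_set_eq, h1, Set.ncard_diff_singleton_of_mem (s := {c : Ω | u • c = c}) ha]
    rw [fixCard] at hq
    rw [hq, pow_two, Nat.add_sub_cancel]
  obtain ⟨⟨x, o⟩, hp⟩ := ((Nat.bijective_iff_injective_and_card f).mpr ⟨hinj, hcard.symm⟩).2 ⟨c, hc, hca⟩
  have hp' : g (x, o) • b = c := congrArg Subtype.val hp
  rcases o with _ | j
  · exact ⟨x, x.2, Or.inl (by rw [← hp']; simp only [g, Option.elim, mul_one])⟩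
  · exact ⟨x, x.2, Or.inr ⟨j, j.2, hp'.symm⟩⟩

end FCtx

end CfsgLib.Bender.Q

namespace CfsgLib.Bender.Q

open MulAction Cfsg CfsgLib.SuzukiRankOne
open CfsgLib.Bender.TwoClosed (IsInv two mem_two smul_conj)

variable {G Ω : Type u} [Group G] [MulAction G Ω] {Z : Set G}

theorem Agree.mul {u x y x' y' : G} (h : Agree Ω u x y) (h' : Agree Ω u x' y') (hy : u * y' = y' * u) :
    Agree Ω u (x * x') (y * y') := (h'.mul_left (z := x)).trans (h.mul_right hy)

theorem Agree.pow {u x y : G} (h : Agree Ω u x y) (hy : u * y = y * u) : ∀ n : ℕ, Agree Ω u (x ^ n) (y ^ n)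
  | 0 => by rw [pow_zero, pow_zero]; exact Agree.refl u 1
  | n + 1 => by
    rw [pow_succ, pow_succ]
    exact (h.pow hy n).mul h hy

variable [Finite G] [FaithfulSMul G Ω]

namespace FCtx

variable (hF : FCtx G Ω Z) (hs : hF.Small) {u : G} (hu : IsB Ω u) {a : Ω} (ha : u • a = a)
include hF hs hu ha

theorem small_cases : fixCard Ω u = Nat.card (hF.eGrp a) + 1 ∨ fixCard Ω u = Nat.card (hF.eGrp a) ^ 2 + 1 := by
  have h := hs u a hu ha
  have h4 := hF.four_le_card a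
  have hlt : Nat.card (hF.eGrp a) ^ 2 < Nat.card (hF.eGrp a) ^ 3 :=
    Nat.pow_lt_pow_right (by omega) (by omega)
  rcases hF.fixCard_cases hu ha with h1 | h1 | h1
  · exact Or.inl h1
  · exact Or.inr h1
  · omega

omit hs in
/-- With `q + 1` fixed points the members move one of them to all the others. -/
theorem exists_eGrp_smul {b : Ω} (hub : u • b = b) (hba : b ≠ a) (hq : fixCard Ω u = Nat.card (hF.eGrp a) + 1)
    {c : Ω} (hc : u • c = c) (hca : c ≠ a) : ∃ x ∈ hF.eGrp a, x • b = c := by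
  haveI := finite_points hF.ctx.hyp
  let f : hF.eGrp a → {c : Ω // u • c = c ∧ c ≠ a} := fun x => ⟨(x : G) • b,
    fix_of_comm (hF.commute_eGrp hu.1 ha x.2) hub, fun e' =>
      hba (smul_left_cancel (x : G) (e'.trans (hF.eGrp_fix x.2).symm))⟩
  have hinj : Function.Injective f := fun x y hxy => Subtype.ext (inv_mul_eq_one.mp
    (hF.eGrp_semiregular (mul_mem (inv_mem y.2) x.2) (by
      rw [mul_smul, show (x : G) • b = (y : G) • b from congrArg Subtype.val hxy, inv_smul_smul]) hba)).symm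
  have hcard : Nat.card {c : Ω // u • c = c ∧ c ≠ a} = Nat.card (hF.eGrp a) := by
    show Nat.card ({c : Ω | u • c = c ∧ c ≠ a} : Set Ω) = _
    rw [Nat.card_coe_set_eq, show {c : Ω | u • c = c ∧ c ≠ a} = {c : Ω | u • c = c} \ {a} from rfl,
      Set.ncard_diff_singleton_of_mem (s := {c : Ω | u • c = c}) ha]
    rw [fixCard] at hq
    omega
  obtain ⟨x, hx⟩ := ((Nat.bijective_iff_injective_and_card f).mpr ⟨hinj, hcard.symm⟩).2 ⟨c, hc, hca⟩
  exact ⟨x, x.2, congrArg Subtype.val hx⟩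

/-- What centralises `u` and the members at one of its fixed points and fixes another one fixes all. -/
theorem agree_one_of_fix {b : Ω} (hub : u • b = b) (hba : b ≠ a) {x : G} (hxu : u * x = x * u)
    (hx : x ∈ hF.kGrp a) (hxb : x • b = b) : Agree Ω u x 1 := by
  obtain ⟨hxa, hxe⟩ := hF.mem_kGrp.mp hx
  intro c hc
  rw [one_smul]
  by_cases hca : c = a
  · rw [hca, hxa]
  rcases hF.small_cases hs hu ha with hq | hq
  · obtain ⟨y, hy, rfl⟩ := hF.exists_eGrp_smul hu ha hub hba hq hc hca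
    rw [← mul_smul, ← hxe y hy, mul_smul, hxb]
  obtain ⟨e, he, he1⟩ := hF.exists_mem_eGrp_ne_one a
  obtain ⟨t, r, hm⟩ := hF.exists_match hu ha hub hba he he1
  obtain ⟨y, hy, rfl | ⟨j, hj, rfl⟩⟩ := hF.cover_two hu ha hub hba hq he he1 hm hc hca
  · rw [← mul_smul, ← hxe y hy, mul_smul, hxb]
  have hk := keeps_of_comm (Ω := Ω) hxu
  have h1 := hF.match_conj hu ha hub hba hk hxa hxb hm
  rw [← hxe e he, mul_inv_cancel_right] at h1
  have ht := hF.match_swap_unique hu ha hub hba he he1 h1 hm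
  rw [ht] at h1
  have hr := (hF.match_unique hu ha hub hba he he1 he he1 h1 hm).2
  have hj' := hF.commute_jGrp hba hu ha hub hj
  have h2 := ((hF.agree_conj hu (keeps_of_comm hj') hr).mul_left (z := y)) b hub
  have hxy : x * y * x⁻¹ = y := by rw [← hxe y hy, mul_inv_cancel_right]
  have hxj : x * j * x⁻¹ = j := by rw [hF.commute_kGrp_jGrp hba hx hxb hj, mul_inv_cancel_right]
  calc x • (y * (j * r * j⁻¹)) • b
      = ((x * y * x⁻¹) * ((x * j * x⁻¹) * (x * r * x⁻¹) * (x * j * x⁻¹)⁻¹) * x) • b := by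
        rw [← mul_smul]; congr 1; group
    _ = (y * (j * r * j⁻¹)) • b := by rw [hxy, hxj, mul_smul, hxb, h2]

/-- Squares in the regular group act as members at the point. -/
theorem exists_eGrp_sq_agree {x : G} (hx : x ∈ hF.qGrp hu ha) : ∃ e ∈ hF.eGrp a, Agree Ω u (x * x) e := by
  classical
  obtain ⟨b, hba, hub⟩ := hF.exists_other hu a
  have hxm := Subgroup.mul_mem _ hx hx
  have hfix : u • (x * x) • b = (x * x) • b := fix_of_comm (hF.qGrp_comm hu ha hxm) hub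
  have hne : ∀ {y : G}, y ∈ hF.qGrp hu ha → y • b ≠ a := fun hy e =>
    hba (smul_left_cancel _ (e.trans (hF.qGrp_fix hu ha hy).symm))
  rcases hF.small_cases hs hu ha with hq | hq
  · obtain ⟨e, he, hee⟩ := hF.exists_eGrp_smul hu ha hub hba hq hfix (hne hxm)
    exact ⟨e, he, hF.qGrp_agree hu ha hxm (hF.eGrp_le_qGrp hu ha he) hub hba hee.symm⟩
  obtain ⟨e, he, he1⟩ := hF.exists_mem_eGrp_ne_one a
  obtain ⟨t, r, hm⟩ := hF.exists_match hu ha hub hba he he1
  have hr := hm.2.2.1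
  have hru := hF.qGrp_comm hu ha hr
  have hconj : ∀ {j : G}, j ∈ jGrp Z a b → j * r * j⁻¹ ∈ hF.qGrp hu ha := fun hj =>
    hF.qGrp_conj hu ha (keeps_of_comm (hF.commute_jGrp hba hu ha hub hj)) (hF.jGrp_fix hba hj).1 hr
  have hcov : ∀ {y : G}, y ∈ hF.qGrp hu ha →
      ∃ w ∈ hF.eGrp a, Agree Ω u y w ∨ ∃ j ∈ jGrp Z a b, Agree Ω u y (w * (j * r * j⁻¹)) := by
    intro y hy
    obtain ⟨w, hw, h | ⟨j, hj, h⟩⟩ :=
      hF.cover_two hu ha hub hba hq he he1 hm (fix_of_comm (hF.qGrp_comm hu ha hy) hub) (hne hy)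
    · exact ⟨w, hw, Or.inl (hF.qGrp_agree hu ha hy (hF.eGrp_le_qGrp hu ha hw) hub hba h)⟩
    · exact ⟨w, hw, Or.inr ⟨j, hj, hF.qGrp_agree hu ha hy
        (Subgroup.mul_mem _ (hF.eGrp_le_qGrp hu ha hw) (hconj hj)) hub hba h⟩⟩
  have hrr : ∃ w ∈ hF.eGrp a, Agree Ω u (r * r) w := by
    obtain ⟨w, hw, h | ⟨j, hj, h⟩⟩ := hcov (Subgroup.mul_mem _ hr hr)
    · exact ⟨w, hw, h⟩
    exfalso
    have hex : ∃ k : ℕ, ∃ w ∈ hF.eGrp a, Agree Ω u (r ^ 2 ^ k) w := hr.2.2.imp fun k hk => ⟨1, one_mem _, hk⟩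
    obtain ⟨w0, hw0, h0⟩ := Nat.find_spec hex
    rcases hk : Nat.find hex with _ | k
    · rw [hk, pow_zero, pow_one] at h0
      have h2 := (h0.mul h0 (hF.commute_eGrp hu.1 ha hw0))
      rw [hF.eGrp_sq hw0] at h2
      exact hF.not_rsq hu ha hub hba hq he he1 hm h2
    rw [hk, pow_succ', pow_mul, pow_two] at h0
    refine Nat.find_min hex (m := k) (by omega) ?_
    have hcu : u * (w * (j * r * j⁻¹)) = (w * (j * r * j⁻¹)) * u :=
      hF.qGrp_comm hu ha (Subgroup.mul_mem _ (hF.eGrp_le_qGrp hu ha hw) (hconj hj))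
    have h2 := ((h.pow hcu (2 ^ k)).symm).trans h0
    have hwc : Commute w (j * r * j⁻¹) := (hF.qGrp_comm_eGrp hu ha (hconj hj) hw).symm
    rw [hwc.mul_pow, conj_pow] at h2
    have hwk : w ^ 2 ^ k ∈ hF.eGrp a := pow_mem hw _
    have h3 := h2.mul_left (z := (w ^ 2 ^ k)⁻¹)
    rw [inv_mul_cancel_left] at h3
    have h4 := hF.agree_conj hu (hF.keeps_inv hu (keeps_of_comm (hF.commute_jGrp hba hu ha hub hj))) h3
    rw [show j⁻¹ * (j * r ^ 2 ^ k * j⁻¹) * j⁻¹⁻¹ = r ^ 2 ^ k by group] at h4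
    refine ⟨_, ?_, h4⟩
    have := hF.eGrp_conj (g := j⁻¹) (mul_mem (inv_mem hwk) hw0)
    rwa [(hF.jGrp_fix hba (inv_mem hj)).1] at this
  obtain ⟨w, hw, h | ⟨j, hj, h⟩⟩ := hcov hx
  · refine ⟨1, one_mem _, ?_⟩
    have h2 := h.mul h (hF.commute_eGrp hu.1 ha hw)
    rwa [hF.eGrp_sq hw] at h2
  · obtain ⟨w', hw', h'⟩ := hrr
    have hja := (hF.jGrp_fix hba hj).1
    refine ⟨j * w' * j⁻¹, ?_, ?_⟩
    · have := hF.eGrp_conj (g := j) hw'
      rwa [hja] at this
    have hwm := Subgroup.mul_mem _ (hF.eGrp_le_qGrp hu ha hw) (hconj hj)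
    have h2 := h.mul h (hF.qGrp_comm hu ha hwm)
    have hwc : Commute w (j * r * j⁻¹) := (hF.qGrp_comm_eGrp hu ha (hconj hj) hw).symm
    have e2 : w * (j * r * j⁻¹) * (w * (j * r * j⁻¹)) = j * (r * r) * j⁻¹ := by
      rw [← pow_two, hwc.mul_pow, pow_two, pow_two, hF.eGrp_sq hw, one_mul, conj_mul]
    rw [e2] at h2
    exact h2.trans (hF.agree_conj hu (keeps_of_comm (hF.commute_jGrp hba hu ha hub hj)) h')

end FCtx

end CfsgLib.Bender.Q
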