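import Cfsg.Agent.Lib.Bender.Q.Full.Kernel

/-!
The standing choice: a full involution central in a Sylow subgroup of the stabiliser of two of its fixed points; its
kernel is a Sylow subgroup of the kernel there, and the parameters matching the kernels.

Blueprint: `blueprint/bender/Q_VI.md` 2.3, 2.4.
-/

set_option autoImplicit false
set_option linter.unusedSectionVars false
set_option linter.style.haveILetI false

universe u

namespace CfsgLib.Bender.Q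

open MulAction Cfsg
open CfsgLib.Bender.TwoClosed (IsInv two mem_two smul_conj MaxP exists_maxP mem_normalizer_of_conj
  conj_mem_of_normalizer)

variable {G Ω : Type u} [Group G] [MulAction G Ω] {Z : Set G} [Finite G] [FaithfulSMul G Ω]

namespace FCtx

/-- The standing choice. -/
structure Std (hF : FCtx G Ω Z) (u : G) (a b : Ω) (T : Subgroup G) : Prop where
  small : hF.Small
  isB : IsB Ω u
  fix_a : u • a = a
  fix_b : u • b = b
  ne : b ≠ a
  maxP : MaxP 2 (two a b) T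
  mem : u ∈ T
  central : ∀ x ∈ T, u * x = x * u

variable (hF : FCtx G Ω Z)
include hF

theorem exists_std (hs : hF.Small) {a b : Ω} (hba : b ≠ a) : ∃ (u : G) (T : Subgroup G), hF.Std u a b T := by
  haveI : Fact (Nat.Prime 2) := ⟨Nat.prime_two⟩
  obtain ⟨u0, hu0, hua, hub⟩ := hF.exists_isB_fix hba
  obtain ⟨T, hle, hT⟩ := exists_maxP (K := two a b) (isPGroup_zpowers hu0.1)
    (Subgroup.zpowers_le.mpr (mem_two.mpr ⟨hua, hub⟩))
  haveI : Group.IsNilpotent T := hT.isPGroup.isNilpotent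
  haveI : ((hF.kGrp a).subgroupOf T).Normal := ⟨fun k hk x =>
    hF.kGrp_normal (mem_two.mp (hT.le x.2)).1 hk⟩
  have hne : (hF.kGrp a).subgroupOf T ≠ ⊥ := fun e => hu0.1.1 (by
    have h : (⟨u0, hle (Subgroup.mem_zpowers u0)⟩ : T) ∈ (hF.kGrp a).subgroupOf T := hF.isB_mem_kGrp hu0 hua
    rw [e, Subgroup.mem_bot] at h
    exact congrArg Subtype.val h)
  have hN := CfsgLib.inf_center_ne_bot_of_nilpotent hne
  set N := (hF.kGrp a).subgroupOf T ⊓ Subgroup.center T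
  haveI : Nontrivial N := (Subgroup.nontrivial_iff_ne_bot _).mpr hN
  obtain ⟨n, hn0, hn⟩ := (hT.isPGroup.to_subgroup N).nontrivial_iff_card.mp inferInstance
  obtain ⟨z, hz⟩ := exists_prime_orderOf_dvd_card' (G := N) 2 (hn ▸ dvd_pow_self 2 (by omega))
  obtain ⟨hz2, hz1⟩ := CfsgLib.Involutions.orderOf_eq_two_iff'.mp hz
  set u : G := ((z : T) : G) with hudef
  obtain ⟨hua', hub'⟩ := mem_two.mp (hT.le (z : T).2)
  have hi : IsInv u := ⟨fun e => hz1 (Subtype.ext (Subtype.ext e)),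
    congrArg (fun w : N => ((w : T) : G)) hz2⟩
  refine ⟨u, T, hs, hF.isB_of_fix_two hi hba.symm hua' hub', hua', hub', hba, hT, (z : T).2, fun x hx => ?_⟩
  exact (congrArg Subtype.val (Subgroup.mem_center_iff.mp (Subgroup.mem_inf.mp z.2).2 ⟨x, hx⟩)).symm

variable {hF} {u : G} {a b : Ω} {T : Subgroup G} (h : hF.Std u a b T)
include h

theorem Std.uKer_le_two : hF.uKer u a ≤ two a b := fun x hx =>
  mem_two.mpr ⟨hF.uGrp_fix (hF.uKer_le hx), ((hF.mem_uKer.mp hx).2 b h.fix_b).trans (one_smul G b)⟩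

theorem Std.uKer_eq : hF.uKer u a = T ⊓ hF.kGrp a := by
  haveI : Fact (Nat.Prime 2) := ⟨Nat.prime_two⟩
  refine le_antisymm (le_inf ?_ fun x hx => (hF.mem_uGrp.mp (hF.uKer_le hx)).1) fun x hx => ?_
  · have hn : T ≤ Subgroup.normalizer (hF.uKer u a : Set G) := fun t ht => mem_normalizer_of_conj fun x hx => by
      have h1 := hF.uKer_conj_gen (g := t) hx
      rwa [(mem_two.mp (h.maxP.le ht)).1, ← h.central t ht, mul_inv_cancel_right] at h1
    have hp : IsPGroup 2 ↥(T ⊔ hF.uKer u a) :=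
      IsPGroup.to_sup_of_normal_right' h.maxP.isPGroup
        ((hF.isPGroup_uGrp h.isB h.fix_a h.small).to_le hF.uKer_le) hn
    exact le_sup_right.trans (h.maxP.eq_of_le hp (sup_le h.maxP.le h.uKer_le_two) le_sup_left).le
  · obtain ⟨hxa, hxb⟩ := mem_two.mp (h.maxP.le hx.1)
    exact hF.uKer_of_fix h.isB h.fix_a h.small (hF.mem_uGrp.mpr ⟨hx.2, h.central x hx.1⟩) h.fix_b h.ne hxb

/-- The kernel is a Sylow subgroup of the kernel of the two points. -/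
theorem Std.uKer_maxP : MaxP 2 (two a b ⊓ hF.kGrp a) (hF.uKer u a) := by
  haveI : Fact (Nat.Prime 2) := ⟨Nat.prime_two⟩
  have h1 := maxP_inf_normal h.maxP (inf_le_left : two a b ⊓ hF.kGrp a ≤ two a b) fun g hg o ho =>
    ⟨Subgroup.mul_mem _ (Subgroup.mul_mem _ hg ho.1) (inv_mem hg), hF.kGrp_normal (mem_two.mp hg).1 ho.2⟩
  rwa [← inf_assoc, inf_eq_left.mpr h.maxP.le, ← h.uKer_eq] at h1

/-- Every full involution fixing `a` is conjugate into the kernel by an element fixing `a`. -/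
theorem Std.exists_conj {w : G} (hw : IsB Ω w) (hwa : w • a = a) :
    ∃ g : G, g • a = a ∧ g * w * g⁻¹ ∈ hF.uKer u a := by
  haveI : Fact (Nat.Prime 2) := ⟨Nat.prime_two⟩
  obtain ⟨b', hb', hwb⟩ := hF.exists_other hw a
  obtain ⟨g0, hg1, hg2⟩ := hF.ctx.two_trans hb' h.ne
  have hw' := hw.conj g0
  have hmem : g0 * w * g0⁻¹ ∈ two a b ⊓ hF.kGrp a := by
    have h1 : (g0 * w * g0⁻¹) • a = a := hg1 ▸ smul_conj hwa
    exact ⟨mem_two.mpr ⟨h1, hg2 ▸ smul_conj hwb⟩, hF.isB_mem_kGrp hw' h1⟩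
  obtain ⟨R, hle, hR⟩ := exists_maxP (isPGroup_zpowers hw'.1) (Subgroup.zpowers_le.mpr hmem)
  obtain ⟨k, hk, hkR⟩ := hR.conj h.uKer_maxP
  refine ⟨k * g0, by rw [mul_smul, hg1, (mem_two.mp hk.1).1], ?_⟩
  have h2 := (hkR _).mp (hle (Subgroup.mem_zpowers (g0 * w * g0⁻¹)))
  rwa [show k * g0 * w * (k * g0)⁻¹ = k * (g0 * w * g0⁻¹) * k⁻¹ by group]

theorem Std.isB_of_mem {v : G} (hv : v ∈ hF.uKer u a) (hv1 : v ≠ 1) : IsB Ω v ∧ v • a = a ∧ v • b = b := by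
  obtain ⟨hva, hvb⟩ := mem_two.mp (h.uKer_le_two hv)
  exact ⟨hF.isB_of_fix_two ⟨hv1, hF.uKer_sq h.isB h.fix_a h.small hv⟩ h.ne.symm hva hvb, hva, hvb⟩

/-- The elements of the kernel share its groups. -/
theorem Std.groups_eq {v : G} (hv : v ∈ hF.uKer u a) (hv1 : v ≠ 1) :
    hF.uGrp v a = hF.uGrp u a ∧ hF.uKer v a = hF.uKer u a := by
  obtain ⟨hB, hva, hvb⟩ := h.isB_of_mem hv hv1
  have hle : hF.uGrp u a ≤ hF.uGrp v a := fun x hx => hF.mem_uGrp.mpr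
    ⟨(hF.mem_uGrp.mp hx).1, hF.uKer_central h.isB h.fix_a h.small hv hx⟩
  have hle' : hF.uKer u a ≤ hF.uKer v a := fun x hx =>
    hF.uKer_of_fix hB hva h.small (hle (hF.uKer_le hx)) hvb h.ne (mem_two.mp (h.uKer_le_two hx)).2
  have heq : hF.uKer v a = hF.uKer u a := h.uKer_maxP.eq_of_le
    ((hF.isPGroup_uGrp hB hva h.small).to_le hF.uKer_le)
    (fun x hx => ⟨mem_two.mpr ⟨hF.uGrp_fix (hF.uKer_le hx),
      ((hF.mem_uKer.mp hx).2 b hvb).trans (one_smul G b)⟩, (hF.mem_uGrp.mp (hF.uKer_le hx)).1⟩) hle'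
  refine ⟨(Subgroup.eq_of_le_of_card_ge hle (le_of_eq ?_)).symm, heq⟩
  rw [hF.card_uGrp hB hva h.small, hF.card_uGrp h.isB h.fix_a h.small, heq, hF.fixCard_eq hB h.isB]

theorem Std.conj_eGrp {j x : G} (hj : j ∈ jGrp Z a b) (hx : x ∈ hF.eGrp a) : j * x * j⁻¹ ∈ hF.eGrp a := by
  have := hF.eGrp_conj (g := j) hx
  rwa [(hF.jGrp_fix h.ne hj).1] at this

/-- The parameter of an element of the kernel. -/
def Std.Par (_ : hF.Std u a b T) (v j : G) : Prop :=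
  j ∈ jGrp Z a b ∧ ∀ x ∈ hF.eGrp a, v * (j * x * j⁻¹) ∈ hF.uKer (u * x) a

theorem Std.exists_par {v : G} (hv : v ∈ hF.uKer u a) (hv1 : v ≠ 1) : ∃ j, h.Par v j := by
  obtain ⟨e0, he0, he01⟩ := hF.exists_mem_eGrp_ne_one a
  obtain ⟨y, ⟨hy, hvy⟩, -⟩ := hF.exists_eps h.isB h.fix_a h.small hv he0
  have hy1 : y ≠ 1 := fun e => hv1 (hF.eq_one_of_agree_two h.isB h.fix_a h.small hv he0 he01
    (by rw [e, mul_one] at hvy; exact (hF.mem_uKer.mp hvy).2))
  obtain ⟨j, hj, hjy⟩ := hF.exists_jGrp_eq h.ne he0 he01 hy hy1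
  refine ⟨j, hj, fun x hx => ?_⟩
  by_cases hx1 : x = 1
  · rwa [hx1, mul_one, mul_one, mul_inv_cancel, mul_one]
  obtain ⟨k, hk, hkx⟩ := hF.exists_jGrp_eq h.ne he0 he01 hx hx1
  have h1 := hF.uKer_conj_gen (g := k) hvy
  have hku := hF.commute_jGrp h.ne h.isB h.fix_a h.fix_b hk
  obtain ⟨hvU, -⟩ := hF.mem_uKer.mp hv
  have hvk : v * k = k * v := hF.commute_kGrp_jGrp h.ne (hF.mem_uGrp.mp hvU).1
    (mem_two.mp (h.uKer_le_two hv)).2 hk
  rw [(hF.jGrp_fix h.ne hk).1, ← conj_mul, ← conj_mul, ← hku, mul_inv_cancel_right, hkx, ← hvk,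
    mul_inv_cancel_right] at h1
  rwa [show k * y * k⁻¹ = j * x * j⁻¹ by
    rw [← hjy, ← hkx]
    calc k * (j * e0 * j⁻¹) * k⁻¹ = (k * j) * e0 * (k * j)⁻¹ := by group
      _ = j * (k * e0 * k⁻¹) * j⁻¹ := by rw [hF.jGrp_comm h.ne hk hj]; group] at h1

theorem Std.par_unique {v j j' : G} (hv : v ∈ hF.uKer u a) (hj : h.Par v j) (hj' : h.Par v j') : j = j' := by
  obtain ⟨e0, he0, he01⟩ := hF.exists_mem_eGrp_ne_one a
  exact hF.jGrp_conj_inj h.ne hj.1 hj'.1 he0 he01 ((hF.exists_eps h.isB h.fix_a h.small hv he0).unique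
    ⟨h.conj_eGrp hj.1 he0, hj.2 e0 he0⟩ ⟨h.conj_eGrp hj'.1 he0, hj'.2 e0 he0⟩)

theorem Std.par_self : h.Par u 1 := ⟨one_mem _, fun x hx => by
  rw [one_mul, inv_one, mul_one]
  exact hF.self_mem_uKer (hF.isB_mul_eGrp h.isB h.fix_a hx) (by rw [mul_smul, hF.eGrp_fix hx, h.fix_a])⟩

theorem Std.par_inj {v v' j : G} (hv : v ∈ hF.uKer u a) (hv' : v' ∈ hF.uKer u a) (hj : h.Par v j)
    (hj' : h.Par v' j) : v = v' := by
  obtain ⟨e0, he0, he01⟩ := hF.exists_mem_eGrp_ne_one a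
  have hy := h.conj_eGrp hj.1 he0
  have hm := Subgroup.mul_mem _ (hj.2 e0 he0) (hj'.2 e0 he0)
  have hc : Commute (j * e0 * j⁻¹) v' := hF.uGrp_comm_eGrp (hF.uKer_le hv') hy
  rw [mul_assoc v, ← mul_assoc (j * e0 * j⁻¹) v', hc.eq, mul_assoc v', hF.eGrp_sq hy, mul_one] at hm
  have h1 := hF.eq_one_of_agree_two h.isB h.fix_a h.small (Subgroup.mul_mem _ hv hv') he0 he01
    (hF.mem_uKer.mp hm).2
  rw [mul_eq_one_iff_eq_inv.mp h1, inv_eq_of_mul_eq_one_right (hF.uKer_sq h.isB h.fix_a h.small hv')]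

/-- The fixed points of the products of the kernel with the members. -/
theorem Std.fix_eq {v j x : G} (hv : v ∈ hF.uKer u a) (hv1 : v ≠ 1) (hj : h.Par v j) (hx : x ∈ hF.eGrp a) :
    {c : Ω | (v * (j * x * j⁻¹)) • c = c} = {c : Ω | (u * x) • c = c} := by
  haveI := finite_points hF.ctx.hyp
  obtain ⟨hB, hva, -⟩ := h.isB_of_mem hv hv1
  have hB1 := hF.isB_mul_eGrp hB hva (h.conj_eGrp hj.1 hx)
  have hB2 := hF.isB_mul_eGrp h.isB h.fix_a hx
  refine (Set.eq_of_subset_of_ncard_le (fun c hc => ((hF.mem_uKer.mp (hj.2 x hx)).2 c hc).trans (one_smul G c))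
    (hF.fixCard_eq hB1 hB2).le (Set.toFinite _)).symm

theorem Std.fix_inj {x x' : G} (hx : x ∈ hF.eGrp a) (hx' : x' ∈ hF.eGrp a)
    (he : {c : Ω | (u * x) • c = c} = {c : Ω | (u * x') • c = c}) : x = x' := by
  by_contra hne
  have hB := hF.isB_mul_eGrp h.isB h.fix_a hx
  obtain ⟨g, hga, hg⟩ := hF.exists_other hB a
  have hg' : (u * x * (x * x')) • g = g := by
    rw [mul_assoc u, ← mul_assoc x x, hF.eGrp_sq hx, one_mul]
    exact he.le hg
  refine hga (hF.eq_of_fix_both (mul_mem hx hx') ?_ hg hg')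
  exact fun e => hne ((mul_eq_one_iff_eq_inv.mp e).trans (inv_eq_of_mul_eq_one_right (hF.eGrp_sq hx')))

/-- A full involution of the group is a product of an element of the kernel with a member. -/
theorem Std.exists_mul {w : G} (hw : IsB Ω w) (hwU : w ∈ hF.uGrp u a) :
    ∃ e ∈ hF.eGrp a, ∃ v ∈ hF.uKer u a, v ≠ 1 ∧ w = v * e := by
  obtain ⟨e, he, v, hv, rfl⟩ := hF.exists_mul_of_sq h.isB h.fix_a h.small hwU hw.1.2
  refine ⟨e, he, v, hv, fun e1 => ?_, hF.uGrp_comm_eGrp (hF.uKer_le hv) he⟩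
  rw [e1, mul_one] at hw
  exact hF.isB_not_mem hw (hF.mem_of_mem_eGrp he hw.1.1).1

end FCtx

end CfsgLib.Bender.Q
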