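import Cfsg.Agent.Lib.Bender.Q.Full.Count

/-!
The structure equation of the set-up at a fixed point, read in the group: it matches the members at the point with
the swappers, compatibly with everything preserving the fixed points.

Blueprint: `blueprint/bender/Q_VI.md` 0, 2.1.
-/

set_option autoImplicit false
set_option linter.unusedSectionVars false
set_option linter.style.haveILetI false

universe u

namespace CfsgLib.Bender.Q

open MulAction Cfsg CfsgLib.SuzukiRankOne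
open CfsgLib.Bender.TwoClosed (IsInv two mem_two smul_conj)

variable {G Ω : Type u} [Group G] [MulAction G Ω] {Z : Set G}

/-- `g` maps fixed points of `u` to fixed points of `u`. -/
def Keeps (Ω : Type u) {G : Type u} [Group G] [MulAction G Ω] (u g : G) : Prop :=
  ∀ c : Ω, u • c = c → u • g • c = g • c

theorem keeps_of_comm {u g : G} (h : u * g = g * u) : Keeps Ω u g := fun _ hc => fix_of_comm h hc

variable [Finite G] [FaithfulSMul G Ω]

namespace FCtx

variable (hF : FCtx G Ω Z) {u : G} (hu : IsB Ω u)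
include hF hu

theorem keeps_inv {g : G} (hg : Keeps Ω u g) : Keeps Ω u g⁻¹ := by
  haveI := finite_points hF.ctx.hyp
  intro c hc
  let f : {c : Ω // u • c = c} → {c : Ω // u • c = c} := fun c => ⟨g • c.1, hg c.1 c.2⟩
  obtain ⟨⟨d, hd⟩, hdc⟩ := (Finite.injective_iff_surjective (f := f)).mp
    (fun x y h => Subtype.ext (smul_left_cancel g (congrArg Subtype.val h))) ⟨c, hc⟩
  rw [show g⁻¹ • c = d from inv_smul_eq_iff.mpr (congrArg Subtype.val hdc).symm, hd]

theorem wGrp_conj {g x : G} (hg : Keeps Ω u g) (hx : x ∈ wGrp Z u) : g * x * g⁻¹ ∈ wGrp Z u := by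
  induction hx using Subgroup.closure_induction with
  | mem z hz =>
    obtain ⟨p, hp⟩ := exists_fix hF.ctx.hyp hz.1
    exact hF.mem_wGrp hu (hF.ctx.hyp.conj z hz.1 g) (smul_conj hp)
      (hg p ((hF.cent_iff hu hz.1 hp).mp (mem_cent_iff.mp hz.2)))
  | one => simp
  | mul y z _ _ iy iz => rw [← conj_mul]; exact Subgroup.mul_mem _ iy iz
  | inv y _ iy => rw [← conj_inv]; exact inv_mem iy

theorem agree_conj {g x y : G} (hg : Keeps Ω u g) (h : Agree Ω u x y) :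
    Agree Ω u (g * x * g⁻¹) (g * y * g⁻¹) := fun c hc => by
  rw [mul_smul, mul_smul, mul_smul, mul_smul, h _ (hF.keeps_inv hu hg c hc)]

variable {a : Ω} (ha : u • a = a)
include ha

theorem qGrp_conj {g x : G} (hg : Keeps Ω u g) (hga : g • a = a) (hx : x ∈ hF.qGrp hu ha) :
    g * x * g⁻¹ ∈ hF.qGrp hu ha := by
  obtain ⟨hxW, hxa, k, hk⟩ := hx
  refine ⟨hF.wGrp_conj hu hg hxW, by rw [mul_smul, mul_smul, inv_smul_eq_iff.mpr hga.symm, hxa, hga], k, ?_⟩
  have h := hF.agree_conj hu hg hk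
  rwa [mul_one, mul_inv_cancel, ← conj_pow] at h

/-- An element of the regular group with trivial square on the fixed points acts as a member at the point. -/
theorem exists_eGrp_agree {x : G} (hx : x ∈ hF.qGrp hu ha) (h : Agree Ω u (x * x) 1) :
    ∃ e ∈ hF.eGrp a, Agree Ω u x e := by
  by_cases h1 : Agree Ω u x 1
  · exact ⟨1, one_mem _, h1⟩
  have hxW := hF.qGrp_le hu ha hx
  have hi : IsInv (img hF.ctx.hyp (wGrp Z u) ⟨x, hxW⟩) := by
    refine ⟨fun e => h1 ?_, ?_⟩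
    · rw [← map_one (img hF.ctx.hyp (wGrp Z u)), hF.img_eq_iff hu] at e
      exact e
    · rw [← map_mul, ← map_one (img hF.ctx.hyp (wGrp Z u)), hF.img_eq_iff hu]
      exact h
  obtain ⟨z, hz, hze⟩ := exists_inv_lift hF.ctx.hyp hF.ctx.below (hF.isTopOdd_w hu) hi
  rw [hF.img_eq_iff hu] at hze
  have hza : (z : G) • a = a := (hze a ha).trans (hF.qGrp_fix hu ha hx)
  exact ⟨z, hF.mem_eGrp_of hz hza, hze.symm⟩

/-- `t` and `e` match by the structure equation. -/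
def Match (b : Ω) (t e r : G) : Prop :=
  t ∈ Z ∧ t • a = b ∧ r ∈ hF.qGrp hu ha ∧ Agree Ω u (t * e * t) (r⁻¹ * t * r)

variable {b : Ω} (hub : u • b = b) (hba : b ≠ a)
include hub hba

theorem match_conj {g t e r : G} (hg : Keeps Ω u g) (hga : g • a = a) (hgb : g • b = b)
    (h : hF.Match hu ha b t e r) :
    hF.Match hu ha b (g * t * g⁻¹) (g * e * g⁻¹) (g * r * g⁻¹) := by
  obtain ⟨ht, hta, hr, he⟩ := h
  refine ⟨hF.ctx.hyp.conj t ht g, by rw [mul_smul, mul_smul, inv_smul_eq_iff.mpr hga.symm, hta, hgb],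
    hF.qGrp_conj hu ha hg hga hr, ?_⟩
  have h := hF.agree_conj hu hg he
  convert h using 1 <;> group

theorem match_unique {t e e' r r' : G} (he : e ∈ hF.eGrp a) (he1 : e ≠ 1) (he' : e' ∈ hF.eGrp a) (he1' : e' ≠ 1)
    (h : hF.Match hu ha b t e r) (h' : hF.Match hu ha b t e' r') : e = e' ∧ Agree Ω u r r' := by
  obtain ⟨ht, hta, hr, hm⟩ := h
  obtain ⟨-, -, hr', hm'⟩ := h'
  obtain ⟨htW, Q, hS, -, h4, hp⟩ := hF.exists_setup hu ha hub hba ht hta
  obtain ⟨hrW, hrQ⟩ := (hF.mem_qGrp_iff hu ha hS hp).mp hr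
  obtain ⟨hrW', hrQ'⟩ := (hF.mem_qGrp_iff hu ha hS hp).mp hr'
  set X := wGrp Z u
  have heW := hF.eGrp_le_wGrp hu ha he
  have heW' := hF.eGrp_le_wGrp hu ha he'
  have hinv : ∀ {e : G} (he : e ∈ hF.eGrp a) (he1 : e ≠ 1) (heW : e ∈ X),
      img hF.ctx.hyp X ⟨e, heW⟩ ∈ involutionsIn (stabilizer (topGrp hF.ctx.hyp X)
        (⟨a, hF.mem_centres_w hu ha⟩ : centres Ω Z X) : Set (topGrp hF.ctx.hyp X)) := fun {e} he he1 heW =>
    ⟨Subtype.ext (hF.eGrp_fix he),
      img_isInv hF.ctx.hyp (hF.isTopOdd_w hu).toIsTop (x := ⟨e, heW⟩) (hF.mem_of_mem_eGrp he he1).1⟩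
  obtain ⟨p, -, huniq⟩ := CfsgLib.RankOne.structure_eq hS
  have key : ∀ {e r : G} (heW : e ∈ X) (hrW : r ∈ X), Agree Ω u (t * e * t) (r⁻¹ * t * r) →
      img hF.ctx.hyp X ⟨t, htW⟩ * img hF.ctx.hyp X ⟨e, heW⟩ * img hF.ctx.hyp X ⟨t, htW⟩ =
        (img hF.ctx.hyp X ⟨r, hrW⟩)⁻¹ * img hF.ctx.hyp X ⟨t, htW⟩ * img hF.ctx.hyp X ⟨r, hrW⟩ := by
    intro e r heW hrW hm
    rw [← map_inv, ← map_mul, ← map_mul, ← map_mul, ← map_mul, hF.img_eq_iff hu]
    exact hm
  have e1 := (huniq (_, _) ⟨hinv he he1 heW, hrQ, key heW hrW hm⟩).trans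
    (huniq (_, _) ⟨hinv he' he1' heW', hrQ', key heW' hrW' hm'⟩).symm
  obtain ⟨e2, e3⟩ := Prod.mk.inj e1
  exact ⟨hF.eGrp_eq_of_agree hu he he' ((hF.img_eq_iff hu).mp e2), (hF.img_eq_iff hu).mp e3⟩

theorem match_swap_unique {t t' e r r' : G} (he : e ∈ hF.eGrp a) (he1 : e ≠ 1)
    (h : hF.Match hu ha b t e r) (h' : hF.Match hu ha b t' e r') : t = t' := by
  obtain ⟨k, hk, hke⟩ := hF.exists_jGrp_conj hba h.1 h.2.1 h'.1 h'.2.1
  obtain ⟨hka, hkb⟩ := hF.jGrp_fix hba hk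
  have h2 := hF.match_conj hu ha hub hba (keeps_of_comm (hF.commute_jGrp hba hu ha hub hk)) hka hkb h
  rw [hke] at h2
  have he2 : k * e * k⁻¹ ∈ hF.eGrp a := by
    have h3 := hF.eGrp_conj (g := k) he
    rwa [hka] at h3
  have h4 := (hF.match_unique hu ha hub hba he2 (fun e' => he1 (conj_eq_one_iff.mp e')) he he1 h2 h').1
  have hk1 := hF.jGrp_free hba hk he he1 (mul_inv_eq_iff_eq_mul.mp h4)
  rw [← hke, hk1, one_mul, inv_one, mul_one]

theorem exists_match {e : G} (he : e ∈ hF.eGrp a) (he1 : e ≠ 1) : ∃ t r : G, hF.Match hu ha b t e r := by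
  obtain ⟨c, hc, hca, -⟩ := exists_swap hF.ctx.hyp hba.symm
  obtain ⟨hcW, Q, hS, -, h4, hp⟩ := hF.exists_setup hu ha hub hba hc hca
  set X := wGrp Z u
  obtain ⟨⟨s, r0⟩, ⟨hs, hr0, hm⟩, -⟩ := CfsgLib.RankOne.structure_eq hS
  obtain ⟨z, hz, hze⟩ := exists_inv_lift hF.ctx.hyp hF.ctx.below (hF.isTopOdd_w hu) (y := s) hs.2
  obtain ⟨r, hr, hre⟩ := hF.exists_qGrp_lift hu ha hS hp hr0
  have hza : (z : G) • a = a := by
    rw [← img_smul (hQ := hF.ctx.hyp) z ⟨a, hF.mem_centres_w hu ha⟩, hze]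
    exact congrArg Subtype.val (mem_stabilizer_iff.mp hs.1)
  have hm' : hF.Match hu ha b c z r := by
    refine ⟨hc, hca, hr, (hF.img_eq_iff hu (x := ⟨c, hcW⟩ * z * ⟨c, hcW⟩) (y := r⁻¹ * ⟨c, hcW⟩ * r)).mp ?_⟩
    rw [map_mul, map_mul, map_mul, map_mul, map_inv, hze, hre]
    exact hm
  obtain ⟨k, hk, hke⟩ := hF.exists_jGrp_eq hba (hF.mem_eGrp_of hz hza) (hF.ctx.hyp.inv _ hz).1 he he1
  obtain ⟨hka, hkb⟩ := hF.jGrp_fix hba hk
  have h := hF.match_conj hu ha hub hba (keeps_of_comm (hF.commute_jGrp hba hu ha hub hk)) hka hkb hm'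
  rw [hke] at h
  exact ⟨_, _, h⟩

/-- An element keeping the fixed points, fixing two of them and centralising a member at one centralises a swapper
and a member at the other. -/
theorem exists_cent_other {g e : G} (hg : Keeps Ω u g) (hga : g • a = a) (hgb : g • b = b) (he : e ∈ hF.eGrp a)
    (he1 : e ≠ 1) (hge : g * e = e * g) : ∃ e' ∈ hF.eGrp b, e' ≠ 1 ∧ g * e' = e' * g := by
  obtain ⟨t, r, hm⟩ := hF.exists_match hu ha hub hba he he1
  have h := hF.match_conj hu ha hub hba hg hga hgb hm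
  rw [hge, mul_inv_cancel_right] at h
  have hgt := mul_inv_eq_iff_eq_mul.mp (hF.match_swap_unique hu ha hub hba he he1 h hm)
  have h2 := hF.eGrp_conj (g := t) he
  rw [hm.2.1] at h2
  refine ⟨_, h2, fun e' => he1 (conj_eq_one_iff.mp e'), ?_⟩
  exact (Commute.mul_right (Commute.mul_right hgt hge) (Commute.inv_right hgt)).eq

end FCtx

end CfsgLib.Bender.Q
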