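import Cfsg.Agent.Lib.Bender.Q.Full.Dicho

/-!
The case `f = q ^ 2`: in the centraliser of a full involution the squares are the members, the commutators with one
element do not fill just a line, and `q` is not four.

Blueprint: `blueprint/bender/Q_VI.md` 6.
-/

set_option autoImplicit false
set_option linter.unusedSectionVars false
set_option linter.style.haveILetI false
set_option linter.deprecated false

universe u

namespace CfsgLib.Bender.Q

open MulAction Cfsg CfsgLib.SuzukiRankOne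
open CfsgLib.Bender.TwoClosed (IsInv two mem_two smul_conj MaxP exists_maxP mem_normalizer_of_conj
  conj_mem_of_normalizer)

variable {G Ω : Type u} [Group G] [MulAction G Ω] {Z : Set G} [Finite G] [FaithfulSMul G Ω]

namespace FCtx

variable {hF : FCtx G Ω Z} {u : G} {a b : Ω} {T : Subgroup G} (h : hF.Std u a b T)
  (hq : fixCard Ω u = Nat.card (hF.eGrp a) ^ 2 + 1)
include h hq

theorem Std.card_uGrp_suz :
    Nat.card (hF.uGrp u a) = Nat.card (hF.eGrp a) * Nat.card (hF.eGrp a) * Nat.card (hF.uKer u a) := by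
  rw [hF.card_uGrp h.isB h.fix_a h.small, hq, Nat.add_sub_cancel, pow_two]

theorem Std.card_points_suz : Nat.card Ω = Nat.card (hF.eGrp a) * Nat.card (hF.eGrp a) * Nat.card (hF.eGrp a) *
    (Nat.card (hF.eGrp a) * (Nat.card (hF.eGrp a) - 1) + 1) + 1 := by
  obtain ⟨f, -, hf, hn⟩ := hF.exists_f a
  have hfu := hf u h.isB
  rw [hn, show f = Nat.card (hF.eGrp a) * Nat.card (hF.eGrp a) by rw [← pow_two]; omega]
  ring

/-- The elements of square one of the centraliser are central in it. -/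
theorem Std.central_of_sq {x y : G} (hx : x ∈ hF.uGrp u a) (h2 : x * x = 1) (hy : y ∈ hF.uGrp u a) :
    x * y = y * x := by
  obtain ⟨e, he, v, hv, rfl⟩ := hF.exists_mul_of_sq h.isB h.fix_a h.small hx h2
  rw [mul_assoc, hF.uKer_central h.isB h.fix_a h.small hv hy, ← mul_assoc, hF.uGrp_comm_eGrp hy he, mul_assoc]

theorem Std.sq_of_dec {e v : G} (he : e ∈ hF.eGrp a) (hv : v ∈ hF.uKer u a) : e * v * (e * v) = 1 := by
  rw [show e * v * (e * v) = e * (v * e) * v by group, ← hF.uGrp_comm_eGrp (hF.uKer_le hv) he,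
    show e * (e * v) * v = e * e * (v * v) by group, hF.eGrp_sq he, hF.uKer_sq h.isB h.fix_a h.small hv, mul_one]

theorem Std.jGrp_conj_uGrp {j x : G} (hj : j ∈ jGrp Z a b) (hx : x ∈ hF.uGrp u a) :
    j * x * j⁻¹ ∈ hF.uGrp u a :=
  conj_mem_of_normalizer (hF.mem_nGrp.mp (h.jGrp_le_nGrp hj)).2 hx

theorem Std.exists_root {e : G} (he : e ∈ hF.eGrp a) : ∃ x ∈ hF.uGrp u a, x * x = e := by
  by_cases he1 : e = 1
  · exact ⟨1, one_mem _, by rw [he1, one_mul]⟩
  obtain ⟨x, hx, hx2⟩ : ∃ x ∈ hF.uGrp u a, x * x ≠ 1 := by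
    by_contra hno
    push Not at hno
    have h1 := Nat.card_le_card_of_surjective
      (fun p : hF.eGrp a × hF.uKer u a => (⟨p.1 * p.2, Subgroup.mul_mem _
        (hF.eGrp_le_uGrp h.isB h.fix_a p.1.2) (hF.uKer_le p.2.2)⟩ : hF.uGrp u a)) (by
      rintro ⟨x, hx⟩
      obtain ⟨e, he, v, hv, rfl⟩ := hF.exists_mul_of_sq h.isB h.fix_a h.small hx (hno x hx)
      exact ⟨⟨⟨e, he⟩, ⟨v, hv⟩⟩, rfl⟩)
    rw [h.card_uGrp_suz hq, Nat.card_prod] at h1
    have h4 := hF.four_le_card a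
    have h5 : Nat.card (hF.eGrp a) * Nat.card (hF.uKer u a) * 4 ≤
        Nat.card (hF.eGrp a) * Nat.card (hF.uKer u a) * Nat.card (hF.eGrp a) := Nat.mul_le_mul_left _ h4
    have h6 : 0 < Nat.card (hF.eGrp a) * Nat.card (hF.uKer u a) := Nat.mul_pos (by omega) Nat.card_pos
    rw [mul_right_comm] at h1
    omega
  obtain ⟨j, hj, hje⟩ := hF.exists_jGrp_eq h.ne (hF.uGrp_sq h.isB h.fix_a h.small hx) hx2 he he1
  exact ⟨j * x * j⁻¹, h.jGrp_conj_uGrp hq hj hx, by rw [← hje, conj_mul]⟩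

/-- Elements with the same square differ by an element of square one. -/
theorem Std.sq_class {x y : G} (hx : x ∈ hF.uGrp u a) (hy : y ∈ hF.uGrp u a) (he : x * x = y * y) :
    x⁻¹ * y * (x⁻¹ * y) = 1 := by
  classical
  choose r hrU hr2 using fun e : hF.eGrp a => h.exists_root hq e.2
  let Φ : hF.eGrp a × hF.eGrp a × hF.uKer u a → hF.uGrp u a := fun p => ⟨r p.1 * (p.2.1 * p.2.2),
    Subgroup.mul_mem _ (hrU _) (Subgroup.mul_mem _ (hF.eGrp_le_uGrp h.isB h.fix_a p.2.1.2) (hF.uKer_le p.2.2.2))⟩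
  have hsq : ∀ p, (Φ p : G) * (Φ p : G) = p.1 := by
    rintro ⟨e, e', v⟩
    show r e * ((e' : G) * v) * (r e * ((e' : G) * v)) = e
    have hd : (e' : G) * v ∈ hF.uGrp u a :=
      Subgroup.mul_mem _ (hF.eGrp_le_uGrp h.isB h.fix_a e'.2) (hF.uKer_le v.2)
    rw [show r e * ((e' : G) * v) * (r e * ((e' : G) * v)) = r e * (((e' : G) * v) * r e) * ((e' : G) * v) by group,
      h.central_of_sq hq hd (h.sq_of_dec hq e'.2 v.2) (hrU e),
      show r e * (r e * ((e' : G) * v)) * ((e' : G) * v) = r e * r e * ((e' : G) * v * ((e' : G) * v)) by group,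
      h.sq_of_dec hq e'.2 v.2, mul_one, hr2]
  have hinj : Function.Injective Φ := by
    rintro ⟨e, e', v⟩ ⟨f, f', w⟩ hp
    obtain rfl : e = f := Subtype.ext (by
      have h1 := hsq (e, e', v)
      rw [hp, hsq] at h1
      exact h1.symm)
    have h2 : (e' : G) * v = f' * w := mul_left_cancel (congrArg Subtype.val hp :)
    have h3 : (f' : G)⁻¹ * e' = w * (v : G)⁻¹ := by
      rw [eq_mul_inv_iff_mul_eq, mul_assoc, h2, inv_mul_cancel_left]
    have h4 := hF.eGrp_inf_uKer h.isB h.fix_a (mul_mem (inv_mem f'.2) e'.2)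
      (h3 ▸ mul_mem w.2 (inv_mem v.2))
    obtain rfl : e' = f' := Subtype.ext (inv_mul_eq_one.mp h4).symm
    obtain rfl : v = w := Subtype.ext (mul_left_cancel h2)
    rfl
  have hbij := (Nat.bijective_iff_injective_and_card Φ).mpr ⟨hinj, by
    rw [Nat.card_prod, Nat.card_prod, h.card_uGrp_suz hq, mul_assoc]⟩
  obtain ⟨⟨e, e', v⟩, hp⟩ := hbij.2 ⟨x, hx⟩
  obtain ⟨⟨f, f', w⟩, hp'⟩ := hbij.2 ⟨y, hy⟩
  obtain rfl : e = f := Subtype.ext (by
    have h1 := hsq (e, e', v)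
    have h2 := hsq (f, f', w)
    rw [hp] at h1
    rw [hp'] at h2
    exact h1.symm.trans (he.trans h2))
  have hx' : x = r e * ((e' : G) * v) := (congrArg Subtype.val hp).symm
  have hy' : y = r e * ((f' : G) * w) := (congrArg Subtype.val hp').symm
  have hd : (e' : G) * v ∈ hF.uGrp u a :=
    Subgroup.mul_mem _ (hF.eGrp_le_uGrp h.isB h.fix_a e'.2) (hF.uKer_le v.2)
  have hd' : (f' : G) * w ∈ hF.uGrp u a :=
    Subgroup.mul_mem _ (hF.eGrp_le_uGrp h.isB h.fix_a f'.2) (hF.uKer_le w.2)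
  rw [hx', hy', show (r e * ((e' : G) * v))⁻¹ * (r e * ((f' : G) * w)) = ((e' : G) * v)⁻¹ * ((f' : G) * w) by group,
    inv_eq_of_mul_eq_one_right (h.sq_of_dec hq e'.2 v.2),
    show (e' : G) * v * ((f' : G) * w) * ((e' : G) * v * ((f' : G) * w)) =
      (e' : G) * v * (((f' : G) * w) * ((e' : G) * v)) * ((f' : G) * w) by group,
    h.central_of_sq hq hd' (h.sq_of_dec hq f'.2 w.2) hd,
    show (e' : G) * v * ((e' : G) * v * ((f' : G) * w)) * ((f' : G) * w) =
      (e' : G) * v * ((e' : G) * v) * ((f' : G) * w * ((f' : G) * w)) by group,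
    h.sq_of_dec hq e'.2 v.2, h.sq_of_dec hq f'.2 w.2, mul_one]

theorem Std.exists_not_comm : ∃ x ∈ hF.uGrp u a, ∃ y ∈ hF.uGrp u a, x * y ≠ y * x := by
  obtain ⟨c, hc, hca, -⟩ := exists_swap hF.ctx.hyp h.ne.symm
  obtain ⟨htW, Q, hS, -, h4, hp⟩ := hF.exists_setup h.isB h.fix_a h.fix_b h.ne hc hca
  rcases (concl hS h4).2.1 with hex | ⟨⟨X1, hX1, X2, hX2, hXX⟩, -⟩
  · exfalso
    obtain ⟨e, he, he1⟩ := hF.exists_mem_eGrp_ne_one a
    obtain ⟨x, hx, rfl⟩ := h.exists_root hq he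
    obtain ⟨z, hz, hxz⟩ := hF.exists_agree_qGrp h.isB h.fix_a h.small hx
    obtain ⟨hzW, hzQ⟩ := (hF.mem_qGrp_iff h.isB h.fix_a hS hp).mp hz
    have h1 := hex _ hzQ
    rw [← map_mul, ← map_one (img hF.ctx.hyp (wGrp Z u)), hF.img_eq_iff h.isB] at h1
    exact he1 (hF.eGrp_eq_of_agree h.isB he (one_mem _)
      ((hxz.mul hxz (hF.qGrp_comm h.isB h.fix_a hz)).trans h1))
  · obtain ⟨x1, hx1, rfl⟩ := hF.exists_qGrp_lift h.isB h.fix_a hS hp hX1
    obtain ⟨x2, hx2, rfl⟩ := hF.exists_qGrp_lift h.isB h.fix_a hS hp hX2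
    refine ⟨x1, hF.qGrp_le_uGrp h.isB h.fix_a hx1, x2, hF.qGrp_le_uGrp h.isB h.fix_a hx2, fun e => hXX ?_⟩
    rw [← map_mul, ← map_mul]
    exact congrArg _ (Subtype.ext e)

/-- The commutators of an element with a square other than one do not fill just a line. -/
theorem Std.no_line {x z : G} (hx : x ∈ hF.uGrp u a) (hx2 : x * x ≠ 1)
    (hline : ∀ y ∈ hF.uGrp u a, x * y * x⁻¹ * y⁻¹ = 1 ∨ x * y * x⁻¹ * y⁻¹ = z) : False := by
  have hconj : ∀ {x' : G}, x' ∈ hF.uGrp u a → x' * x' ≠ 1 → ∃ j ∈ jGrp Z a b,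
      (∀ y ∈ hF.uGrp u a, x' * y * x'⁻¹ * y⁻¹ = 1 ∨ x' * y * x'⁻¹ * y⁻¹ = j * z * j⁻¹) ∧
        (j = 1 → x * x' = x' * x) := by
    intro x' hx' hx'2
    obtain ⟨j, hj, hje⟩ := hF.exists_jGrp_eq h.ne (hF.uGrp_sq h.isB h.fix_a h.small hx) hx2
      (hF.uGrp_sq h.isB h.fix_a h.small hx') hx'2
    rw [← conj_mul] at hje
    have hjx := h.jGrp_conj_uGrp hq hj hx
    have hd := Subgroup.mul_mem _ (inv_mem hjx) hx'
    have hd2 := h.sq_class hq hjx hx' hje
    set d := (j * x * j⁻¹)⁻¹ * x' with hd_def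
    have hx'd : x' = j * x * j⁻¹ * d := by rw [hd_def, mul_inv_cancel_left]
    refine ⟨j, hj, fun y hy => ?_, fun hj1 => ?_⟩
    · have hy' : j⁻¹ * y * j ∈ hF.uGrp u a := by
        have h1 := h.jGrp_conj_uGrp hq (inv_mem hj) hy
        rwa [inv_inv] at h1
      have hcd : d * y * d⁻¹ = y := by
        rw [h.central_of_sq hq hd hd2 hy, mul_inv_cancel_right]
      have key : x' * y * x'⁻¹ * y⁻¹ = j * (x * (j⁻¹ * y * j) * x⁻¹ * (j⁻¹ * y * j)⁻¹) * j⁻¹ := by
        rw [hx'd, show j * x * j⁻¹ * d * y * (j * x * j⁻¹ * d)⁻¹ * y⁻¹ =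
          j * x * j⁻¹ * (d * y * d⁻¹) * (j * x * j⁻¹)⁻¹ * y⁻¹ by group, hcd]
        group
      rcases hline _ hy' with h1 | h1
      · exact Or.inl (by rw [key, h1, mul_one, mul_inv_cancel])
      · exact Or.inr (by rw [key, h1])
    · have hd' := h.central_of_sq hq hd hd2 hx
      have hx'' : x' = x * d := hx'd.trans (by rw [hj1, one_mul, inv_one, mul_one])
      calc x * x' = x * (x * d) := congrArg (x * ·) hx''
        _ = x * (d * x) := by rw [hd']
        _ = x * d * x := (mul_assoc _ _ _).symm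
        _ = x' * x := congrArg (· * x) hx''.symm
  obtain ⟨p, hp, p', hp', hne⟩ := h.exists_not_comm hq
  have hnc : ∀ {p p' : G}, p ∈ hF.uGrp u a → p' ∈ hF.uGrp u a → p * p' ≠ p' * p → p * p ≠ 1 := fun hp hp' hne e =>
    hne (h.central_of_sq hq hp e hp')
  -- some element does not commute with `x`
  obtain ⟨y, hy, hxy⟩ : ∃ y ∈ hF.uGrp u a, x * y * x⁻¹ * y⁻¹ ≠ 1 := by
    by_contra hno
    push Not at hno
    obtain ⟨j, hj, hjl, -⟩ := hconj hp (hnc hp hp' hne)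
    have hjy : j⁻¹ * p' * j ∈ hF.uGrp u a := by
      have h1 := h.jGrp_conj_uGrp hq (inv_mem hj) hp'
      rwa [inv_inv] at h1
    obtain ⟨j', hj', hje⟩ := hF.exists_jGrp_eq h.ne (hF.uGrp_sq h.isB h.fix_a h.small hx) hx2
      (hF.uGrp_sq h.isB h.fix_a h.small hp) (hnc hp hp' hne)
    have hjx := h.jGrp_conj_uGrp hq hj' hx
    rw [← conj_mul] at hje
    have hd := Subgroup.mul_mem _ (inv_mem hjx) hp
    have hd2 := h.sq_class hq hjx hp hje
    have hy' : j'⁻¹ * p' * j' ∈ hF.uGrp u a := by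
      have h1 := h.jGrp_conj_uGrp hq (inv_mem hj') hp'
      rwa [inv_inv] at h1
    have hc : x * (j'⁻¹ * p' * j') = j'⁻¹ * p' * j' * x := by
      have h1 := hno _ hy'
      rwa [mul_inv_eq_one, mul_inv_eq_iff_eq_mul] at h1
    have h2 : j' * x * j'⁻¹ * p' = p' * (j' * x * j'⁻¹) := by
      calc j' * x * j'⁻¹ * p' = j' * (x * (j'⁻¹ * p' * j')) * j'⁻¹ := by group
        _ = _ := by rw [hc]; group
    refine hne ?_
    have hc2 := h.central_of_sq hq hd hd2 hp'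
    rw [show p = j' * x * j'⁻¹ * ((j' * x * j'⁻¹)⁻¹ * p) by group, mul_assoc, hc2, ← mul_assoc, h2, mul_assoc]
  have hyx : x * y ≠ y * x := fun e => hxy (by rw [e, mul_inv_cancel_right, mul_inv_cancel])
  have hy2 : y * y ≠ 1 := hnc hy hx (Ne.symm hyx)
  have hz : x * y * x⁻¹ * y⁻¹ = z := (hline y hy).resolve_left hxy
  have hzE : z ∈ hF.eGrp a := hz ▸ hF.uGrp_commutator h.isB h.fix_a h.small hx hy
  obtain ⟨j, hj, hjl, hj1⟩ := hconj hy hy2
  refine hyx (hj1 ?_)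
  have hzz : y * x * y⁻¹ * x⁻¹ = z := by
    rw [← inv_eq_of_mul_eq_one_right (hF.eGrp_sq hzE), ← hz]
    group
  rcases hjl x hx with h1 | h1
  · rw [hzz] at h1
    exact absurd (hz.trans h1) hxy
  · rw [hzz] at h1
    exact hF.jGrp_free h.ne hj hzE (fun e => hxy (hz.trans e)) (mul_inv_eq_iff_eq_mul.mp h1.symm)

theorem Std.eight_le : 8 ≤ Nat.card (hF.eGrp a) := by
  classical
  obtain ⟨i, hi⟩ := hF.exists_pow_card_eGrp a
  have h4 := hF.four_le_card a
  rcases i with _ | _ | _ | i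
  · omega
  · rw [hi] at h4; omega
  · exfalso
    obtain ⟨x, hx, y, hy, hne⟩ := h.exists_not_comm hq
    have hnc : ∀ {p p' : G}, p ∈ hF.uGrp u a → p' ∈ hF.uGrp u a → p * p' ≠ p' * p → p * p ≠ 1 := fun hp hp' hne e =>
      hne (h.central_of_sq hq hp e hp')
    have hz : x⁻¹ * y ∈ hF.uGrp u a := Subgroup.mul_mem _ (inv_mem hx) hy
    have hzx : x⁻¹ * y * x ≠ x * (x⁻¹ * y) := fun e => hne (by
      rw [mul_inv_cancel_left] at e
      calc x * y = x * (x⁻¹ * y * x) := by rw [e]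
        _ = y * x := by group)
    have hz2 : x⁻¹ * y * (x⁻¹ * y) ≠ 1 := hnc hz hx hzx
    have hx2 : x * x ≠ 1 := hnc hx hy hne
    have hy2 : y * y ≠ 1 := hnc hy hx (Ne.symm hne)
    set A : hF.eGrp a := ⟨x * x, hF.uGrp_sq h.isB h.fix_a h.small hx⟩ with hA
    set B : hF.eGrp a := ⟨x⁻¹ * y * (x⁻¹ * y), hF.uGrp_sq h.isB h.fix_a h.small hz⟩ with hB
    set C : hF.eGrp a := ⟨y * y, hF.uGrp_sq h.isB h.fix_a h.small hy⟩ with hC
    have hAC : A ≠ C := fun e => hz2 (h.sq_class hq hx hy (congrArg Subtype.val e))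
    have hxc : Commute (x * x) y := hF.uGrp_comm_eGrp hy A.2
    have hAB : A ≠ B := fun e => hy2 (by
      have h1 := h.sq_class hq hx hz (congrArg Subtype.val e)
      calc y * y = (x * x) * (x * x) * ((x⁻¹ * (x⁻¹ * y)) * (x⁻¹ * (x⁻¹ * y))) := by
            rw [show x⁻¹ * (x⁻¹ * y) = (x * x)⁻¹ * y by group,
              show (x * x)⁻¹ * y * ((x * x)⁻¹ * y) = (x * x)⁻¹ * (x * x)⁻¹ * (y * y) by
                rw [show (x * x)⁻¹ * y * ((x * x)⁻¹ * y) = (x * x)⁻¹ * (y * (x * x)⁻¹) * y by group,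
                  ← hxc.inv_left.eq]
                group]
            group
        _ = 1 := by rw [h1, hF.eGrp_sq A.2, mul_one])
    have hBC : B ≠ C := fun e => hx2 (by
      have h1 := h.sq_class hq hz hy (congrArg Subtype.val e)
      rw [show (x⁻¹ * y)⁻¹ * y * ((x⁻¹ * y)⁻¹ * y) = y⁻¹ * (x * x) * y by group, ← inv_inv (x * x)] at h1
      calc x * x = y * (y⁻¹ * (x * x)⁻¹⁻¹ * y) * y⁻¹ := by simp only [inv_inv, mul_assoc, mul_inv_cancel_left, mul_inv_cancel, mul_one]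
        _ = 1 := by rw [h1, mul_one, mul_inv_cancel])
    have hne1 : ∀ {X : hF.eGrp a}, (X : G) ≠ 1 → X ≠ 1 := fun hX e => hX (congrArg Subtype.val e)
    have hsq : ∀ X : hF.eGrp a, X * X = 1 := fun X => Subtype.ext (hF.eGrp_sq X.2)
    haveI := Fintype.ofFinite (hF.eGrp a)
    have hABC : C = A * B := by
      by_contra hC'
      have hsub : ({1, A, B, A * B, C} : Finset (hF.eGrp a)).card = 5 := by
        have e1 : A * B ≠ 1 := fun e => hAB (by
          calc A = A * (B * B) := by rw [hsq, mul_one]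
            _ = B := by rw [← mul_assoc, e, one_mul])
        have e2 : A * B ≠ A := fun e => hne1 (X := B) hz2 (mul_eq_left.mp e)
        have e3 : A * B ≠ B := fun e => hne1 (X := A) hx2 (mul_eq_right.mp e)
        simp [hne1 (X := A) hx2, Ne.symm (hne1 (X := A) hx2), hne1 (X := B) hz2,
          Ne.symm (hne1 (X := B) hz2), hne1 (X := C) hy2, Ne.symm (hne1 (X := C) hy2),
          hAB, hAC, hBC, e1, Ne.symm e1, e2, Ne.symm e2, e3, Ne.symm e3, Ne.symm hC']
      have := Finset.card_le_univ ({1, A, B, A * B, C} : Finset (hF.eGrp a))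
      rw [hsub, ← Nat.card_eq_fintype_card, hi] at this
      norm_num at this
    have h1 : x * y * x⁻¹ * y⁻¹ = 1 := by
      rw [show x * y * x⁻¹ * y⁻¹ = (x * x) * ((x⁻¹ * y) * (x⁻¹ * y)) * (y * y)⁻¹ by group,
        inv_eq_of_mul_eq_one_right (hF.eGrp_sq C.2), congrArg Subtype.val hABC, Subgroup.coe_mul]
      exact hF.eGrp_sq (A * B).2
    exact hne (by rwa [mul_inv_eq_one, mul_inv_eq_iff_eq_mul] at h1)
  · rw [hi, show i + 1 + 1 + 1 = i + 3 from rfl, pow_add]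
    have := Nat.one_le_two_pow (n := i)
    omega

end FCtx

end CfsgLib.Bender.Q
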