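import Cfsg.Agent.Lib.Bender.Q.Full.SuzukiCount
import Cfsg.Agent.Lib.Coprime
import Mathlib.GroupTheory.FixedPointFree
import Mathlib.GroupTheory.Transfer

/-!
The case `f = q ^ 2`: the kernel of a full involution has order two.  With a four group in it the kernel of the two
points is that of the involution, the index of the translation group is the prime `q ^ 2 - q + 1`, its Sylow subgroup is
normal, and two involutions would invert it.

Blueprint: `blueprint/bender/Q_VI.md` 6.
-/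

set_option autoImplicit false
set_option linter.unusedSectionVars false
set_option linter.style.haveILetI false
set_option linter.deprecated false

universe u

namespace CfsgLib.Bender.Q

open MulAction Cfsg
open CfsgLib.Bender.TwoClosed (IsInv two mem_two smul_conj MaxP mem_normalizer_of_conj conj_mem_of_normalizer)

variable {G Ω : Type u} [Group G] [MulAction G Ω] {Z : Set G} [Finite G] [FaithfulSMul G Ω]

/-- An involution normalising a subgroup and fixing only its identity inverts it. -/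
theorem inv_of_free {O : Subgroup G} {w : G} (hw : w * w = 1) (hn : ∀ x ∈ O, w * x * w ∈ O)
    (hfree : ∀ x ∈ O, w * x = x * w → x = 1) {x : G} (hx : x ∈ O) : w * x * w = x⁻¹ := by
  let φ : O →* O := MonoidHom.mk' (fun y => ⟨w * y * w, hn y y.2⟩) fun y z => Subtype.ext (by
    show w * (y * z : G) * w = w * y * w * (w * z * w)
    rw [show w * (y : G) * w * (w * z * w) = w * y * (w * w) * z * w by group, hw, mul_one]
    group)
  have hff : MonoidHom.FixedPointFree φ := fun y hy => by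
    refine Subtype.ext (hfree y y.2 ?_)
    have h1 : w * (y : G) * w = y := congrArg Subtype.val hy
    calc w * (y : G) = w * y * (w * w) := by rw [hw, mul_one]
      _ = w * y * w * w := by group
      _ = y * w := by rw [h1]
  have h2 : Function.Involutive φ := fun y => Subtype.ext (by
    show w * (w * (y : G) * w) * w = y
    rw [show w * (w * (y : G) * w) * w = w * w * y * (w * w) by group, hw, one_mul, mul_one])
  exact congrArg Subtype.val (congrFun (hff.coe_eq_inv_of_involutive h2) ⟨x, hx⟩)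

namespace FCtx

variable {hF : FCtx G Ω Z} {u : G} {a b : Ω} {T : Subgroup G} (h : hF.Std u a b T)
include h

/-- Two involutions of the kernel do not both act freely with their product. -/
theorem Std.no_four {O : Subgroup G} {v : G} (hv : v ∈ hF.uKer u a) (hv1 : v ≠ 1) (hvu : v ≠ u)
    (hn : ∀ w ∈ hF.uKer u a, ∀ x ∈ O, w * x * w ∈ O)
    (hfree : ∀ w ∈ hF.uKer u a, w ≠ 1 → ∀ x ∈ O, w * x = x * w → x = 1) {x : G} (hx : x ∈ O) : x = 1 := by
  have hu := hF.self_mem_uKer h.isB h.fix_a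
  have hv2 := hF.uKer_sq h.isB h.fix_a h.small hv
  have h1 := inv_of_free h.isB.1.2 (hn u hu) (hfree u hu h.isB.1.1) hx
  have h2 := inv_of_free hv2 (hn v hv) (hfree v hv hv1) (inv_mem hx)
  rw [inv_inv, ← h1] at h2
  refine hfree (v * u) (mul_mem hv hu) (fun e => hvu ?_) x hx ?_
  · rw [mul_eq_one_iff_eq_inv.mp e, inv_eq_of_mul_eq_one_right h.isB.1.2]
  · have hvi := inv_eq_of_mul_eq_one_right hv2
    have hui := inv_eq_of_mul_eq_one_right h.isB.1.2
    calc v * u * x = v * (u * x * u) * v * (v * u) := by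
          rw [show v * (u * x * u) * v * (v * u) = v * u * x * (u * (v * v) * u) by group, hv2, mul_one,
            h.isB.1.2, mul_one]
      _ = x * (v * u) := by rw [h2]

/-- With a four group the kernel of the two points is that of the involution. -/
theorem Std.kerP_eq {v : G} (hv : v ∈ hF.uKer u a) (hv1 : v ≠ 1) (hvu : v ≠ u) :
    two a b ⊓ hF.kGrp a = hF.uKer u a := by
  classical
  haveI : Fact (Nat.Prime 2) := ⟨Nat.prime_two⟩
  set P := two a b ⊓ hF.kGrp a with hPdef
  obtain ⟨Sy, hSy⟩ := h.uKer_maxP.sylow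
  have hu := hF.self_mem_uKer h.isB h.fix_a
  have hmem : ∀ {x : P}, x ∈ (Sy : Subgroup P) ↔ (x : G) ∈ hF.uKer u a := fun {x} => by
    rw [hSy]; rfl
  have hNC : Subgroup.normalizer ((Sy : Subgroup P) : Set P) ≤ Subgroup.centralizer ((Sy : Subgroup P) : Set P) := by
    intro x hx
    have huP : u ∈ P := h.uKer_maxP.le hu
    have h1 := (Subgroup.mem_normalizer_iff.mp hx ⟨u, huP⟩).mp (hmem.mpr hu)
    have hxA : (x : G) ∈ hF.uKer u a := h.mem_kerP x.2 hu h.isB.1.1 (hF.uKer_le (hmem.mp h1))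
    refine Subgroup.mem_centralizer_iff.mpr fun y hy => Subtype.ext ?_
    exact hF.uKer_central h.isB h.fix_a h.small (hmem.mp hy) (hF.uKer_le hxA)
  obtain ⟨O, hOn, hc⟩ : ∃ O : Subgroup P, O.Normal ∧ Subgroup.IsComplement' O (Sy : Subgroup P) :=
    ⟨_, MonoidHom.normal_ker _, MonoidHom.ker_transferSylow_isComplement' Sy hNC⟩
  have hcard : Nat.card O * Nat.card (Sy : Subgroup P) = Nat.card P := hc.card_mul
  have hOodd : Odd (Nat.card O) := by
    have h1 := (Sy : Subgroup P).card_mul_index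
    have h2 : Nat.card O = (Sy : Subgroup P).index := by
      refine Nat.eq_of_mul_eq_mul_right (Nat.card_pos (α := (Sy : Subgroup P))) ?_
      rw [hcard, mul_comm, h1]
    rw [h2, Nat.odd_iff, ← Nat.two_dvd_ne_zero]
    exact Sy.not_dvd_index
  have hO1 : ∀ x ∈ O.map P.subtype, x = 1 := fun x hx => by
    refine h.no_four hv hv1 hvu ?_ ?_ hx
    · rintro w hw _ ⟨y, hy, rfl⟩
      refine ⟨⟨w, h.uKer_maxP.le hw⟩ * y * ⟨w, h.uKer_maxP.le hw⟩⁻¹,
        hOn.conj_mem y hy _, ?_⟩
      show w * (y : G) * w⁻¹ = w * (y : G) * w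
      rw [inv_eq_of_mul_eq_one_right (hF.uKer_sq h.isB h.fix_a h.small hw)]
    · rintro w hw hw1 _ ⟨y, hy, rfl⟩ hc
      have hyA : (y : G) ∈ hF.uKer u a := h.mem_kerP y.2 hw hw1 (by
        change w * (y : G) = y * w at hc
        rw [← hc, mul_inv_cancel_right]
        exact hF.uKer_le hw)
      have h2 : (⟨y, hy⟩ : O) ^ 2 = 1 := Subtype.ext (Subtype.ext (by
        rw [pow_two]
        exact hF.uKer_sq h.isB h.fix_a h.small hyA))
      have h3 := CfsgLib.Bender.TwoClosed.eq_one_of_two_odd h2 (hOodd.of_dvd_nat (orderOf_dvd_natCard _))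
      exact congrArg (fun z : O => ((z : P) : G)) h3
  refine (Subgroup.eq_of_le_of_card_ge h.uKer_maxP.le ?_).symm
  have hO0 : Nat.card O = 1 := by
    rw [Subgroup.card_eq_one, Subgroup.eq_bot_iff_forall]
    exact fun x hx => Subtype.ext (hO1 _ ⟨x, hx, rfl⟩)
  rw [hO0, one_mul, hSy, Nat.card_congr (Subgroup.subgroupOfEquivOfLe h.uKer_maxP.le).toEquiv] at hcard
  exact hcard.ge

/-- The kernel has at most `q` elements. -/
theorem Std.card_uKer_le : Nat.card (hF.uKer u a) ≤ Nat.card (hF.eGrp a) := by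
  classical
  have hex : ∀ v : {v : hF.uKer u a // v ≠ 1}, ∃ j : jGrp Z a b, h.Par (v.1 : G) j := fun v => by
    obtain ⟨j, hj⟩ := h.exists_par v.1.2 (fun e => v.2 (Subtype.ext e))
    exact ⟨⟨j, hj.1⟩, hj⟩
  choose f hf using hex
  have h1 := Nat.card_le_card_of_injective f fun v w e => Subtype.ext (Subtype.ext
    (h.par_inj v.1.2 w.1.2 (hf v) (e ▸ hf w)))
  haveI := Fintype.ofFinite (hF.uKer u a)
  rw [Nat.card_eq_fintype_card (α := {v : hF.uKer u a // v ≠ 1}), Fintype.card_subtype_compl,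
    Fintype.card_subtype_eq, ← Nat.card_eq_fintype_card] at h1
  have h2 := hF.card_jGrp (a := a) (b := b) h.ne
  omega

variable (hq : fixCard Ω u = Nat.card (hF.eGrp a) ^ 2 + 1)
include hq

/-- The kernel of a full involution has order two. -/
theorem Std.uKer_two_suz : ∀ v ∈ hF.uKer u a, v = 1 ∨ v = u := by
  classical
  intro v hv
  by_contra hno
  push Not at hno
  obtain ⟨hv1, hvu⟩ := hno
  haveI : Fact (Nat.Prime 2) := ⟨Nat.prime_two⟩
  have hP := h.kerP_eq hv hv1 hvu
  obtain ⟨hk, o, -, hPo, hkdvd⟩ := h.index_facts hq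
  have ho : o = 1 := by
    rw [hP] at hPo
    exact (Nat.eq_of_mul_eq_mul_left Nat.card_pos ((mul_one _).trans hPo)).symm
  rw [ho, mul_one] at hkdvd
  set q := Nat.card (hF.eGrp a) with hqdef
  set k := (hF.tGrp u a).relIndex (hF.kGrp a) with hkdef
  have h8 : 8 ≤ q := h.eight_le hq
  have htK : hF.tGrp u a ≤ hF.kGrp a := fun x hx => ((h.mem_tGrp.mp hx).1).2
  have hJK : ∀ j ∈ jGrp Z a b, ∀ x ∈ hF.kGrp a, j * x * j⁻¹ ∈ hF.kGrp a := fun j hj x hx =>
    hF.kGrp_normal (hF.jGrp_fix h.ne hj).1 hx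
  have hKb : ∀ x ∈ hF.kGrp a, x • b = b → x ∈ hF.uKer u a := fun x hx hxb =>
    hP ▸ Subgroup.mem_inf.mpr ⟨mem_two.mpr ⟨(hF.mem_kGrp.mp hx).1, hxb⟩, hx⟩
  have hk1mod := h.index_mod le_rfl htK hJK fun x hx hxb => h.uGrp_le_tGrp (hF.uKer_le (hKb x hx hxb))
  rw [← hkdef] at hk1mod
  have hJc : Nat.card (jGrp Z a b) = q - 1 := by
    have := hF.card_jGrp (a := a) (b := b) h.ne
    omega
  rw [hJc] at hk1mod
  have hk1 : k ≠ 1 := fun e => h.kGrp_ne_tGrp hq (le_antisymm (Subgroup.relIndex_eq_one.mp e) htK)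
  have hk0 : k ≠ 0 := Subgroup.index_ne_zero_of_finite
  -- a divisor which is one modulo `q - 1` is one or all
  have hall : ∀ d : ℕ, d ∣ q * (q - 1) + 1 → q - 1 ∣ d - 1 → d ≠ 1 → d = q * (q - 1) + 1 := by
    intro d hd hd1 hne
    obtain ⟨d', hd'⟩ := hd
    obtain ⟨s, hs⟩ := hd1
    by_contra hne2
    have hd0 : d ≠ 0 := fun e => by rw [e, zero_mul] at hd'; omega
    have hd'0 : d' ≠ 0 := fun e => by rw [e, mul_zero] at hd'; omega
    have hd'1 : d' ≠ 1 := fun e => by rw [e, mul_one] at hd'; omega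
    have hds : d = 1 + (q - 1) * s := by omega
    have hs0 : s ≠ 0 := fun e => by rw [e, mul_zero] at hds; omega
    have hd'mod : q - 1 ∣ d' - 1 := by
      have h1 : q - 1 ∣ (q - 1) * (q + 1) + 0 := by simp
      have h2 : (d' - 1) + (q - 1) * (s * d') = (q - 1) * q := by
        have : d * d' = d' + (q - 1) * (s * d') := by rw [hds]; ring
        rw [mul_comm (q - 1) q]
        omega
      exact (Nat.dvd_add_left (Dvd.intro _ rfl)).mp (h2 ▸ Dvd.intro q rfl)
    obtain ⟨t, ht⟩ := hd'mod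
    have ht0 : t ≠ 0 := fun e => by rw [e, mul_zero] at ht; omega
    have hbig : q * q ≤ d * d' := by
      refine Nat.mul_le_mul ?_ ?_
      · have : (q - 1) * 1 ≤ (q - 1) * s := Nat.mul_le_mul_left _ (by omega)
        omega
      · have : (q - 1) * 1 ≤ (q - 1) * t := Nat.mul_le_mul_left _ (by omega)
        omega
    have : q * (q - 1) + q = q * q := by
      obtain ⟨c, hc⟩ : ∃ c, q = c + 1 := ⟨q - 1, by omega⟩
      rw [hc, Nat.add_sub_cancel]
      ring
    omega
  have hkN := hall k hkdvd hk1mod hk1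
  have hKcard : Nat.card (hF.kGrp a) = (q * (q - 1) + 1) * (q * (q * q) * Nat.card (hF.uKer u a)) := by
    rw [← hk, h.card_tGrp_suz hq, hkN]
  obtain ⟨i, hi⟩ := hF.exists_pow_card_eGrp a
  have hqi : q = 2 ^ i := hi
  have hA2 := h.card_uKer_le
  obtain ⟨α, hα⟩ := IsPGroup.iff_card.mp ((hF.isPGroup_uGrp h.isB h.fix_a h.small).to_le hF.uKer_le)
  -- an invariant Sylow subgroup for a prime divisor
  obtain ⟨p, hp, hpN⟩ := Nat.exists_prime_and_dvd (show q * (q - 1) + 1 ≠ 1 by
    have : 0 < q * (q - 1) := Nat.mul_pos (by omega) (by omega)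
    omega)
  haveI := Fact.mk hp
  have hN0odd : Odd (q * (q - 1) + 1) := by
    refine Even.add_one (Even.mul_right ?_ _)
    rw [hqi]
    refine (Nat.even_pow).mpr ⟨even_two, ?_⟩
    intro e
    rw [e] at hqi
    omega
  have hp2 : p ≠ 2 := fun e => by
    rw [e] at hpN
    exact Nat.not_even_iff_odd.mpr hN0odd (even_iff_two_dvd.mpr hpN)
  have hpq : ¬ p ∣ q := fun hd => by
    rw [hqi] at hd
    exact hp2 ((Nat.prime_dvd_prime_iff_eq hp Nat.prime_two).mp (hp.dvd_of_dvd_pow hd))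
  have hpA : ¬ p ∣ Nat.card (hF.uKer u a) := fun hd => by
    rw [hα] at hd
    exact hp2 ((Nat.prime_dvd_prime_iff_eq hp Nat.prime_two).mp (hp.dvd_of_dvd_pow hd))
  have hcop : (Nat.card (jGrp Z a b)).Coprime (Nat.card (hF.kGrp a)) := by
    rw [hJc, hKcard]
    have hodd : Odd (q - 1) := hJc ▸ hF.odd_card_jGrp h.ne
    have h2 : ∀ n, (q - 1).Coprime (2 ^ n) := fun n =>
      ((Nat.coprime_two_right).mpr hodd).pow_right n
    refine Nat.Coprime.mul_right ?_ (Nat.Coprime.mul_right (Nat.Coprime.mul_right ?_ (Nat.Coprime.mul_right ?_ ?_)) ?_)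
    · exact Nat.coprime_of_dvd fun r hr h1 h2 => hr.not_dvd_one ((Nat.dvd_add_right (h1.mul_left q)).mp h2)
    · rw [hqi] at *; exact h2 i
    · rw [hqi] at *; exact h2 i
    · rw [hqi] at *; exact h2 i
    · rw [hα]; exact h2 α
  have hJn : jGrp Z a b ≤ Subgroup.normalizer (hF.kGrp a : Set G) := fun j hj =>
    mem_normalizer_of_conj (hJK j hj)
  obtain ⟨R, -, hJR⟩ := CfsgLib.coprime_le_invariant_sylow hJn hcop
    (Or.inl (Group.isSolvable_of_comm fun x y => Subtype.ext (hF.jGrp_comm h.ne x.2 y.2))) (p := p)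
    (bot_le : (⊥ : Subgroup G) ≤ _) IsPGroup.of_bot (fun j hj => mem_normalizer_of_conj fun x hx => by
      rw [Subgroup.mem_bot] at hx ⊢
      rw [hx, mul_one, mul_inv_cancel])
  set R' := (R : Subgroup (hF.kGrp a)).map (hF.kGrp a).subtype with hR'
  have hRK : R' ≤ hF.kGrp a := Subgroup.map_subtype_le _
  have hRc : Nat.card R' = Nat.card (R : Subgroup (hF.kGrp a)) :=
    Subgroup.card_map_of_injective (hF.kGrp a).subtype_injective
  obtain ⟨e, he⟩ := IsPGroup.iff_card.mp R.isPGroup'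
  have hRodd : Odd (Nat.card R') := by rw [hRc, he]; exact (hp.odd_of_ne_two hp2).pow
  have hRA : ∀ x ∈ R', x ∈ hF.uKer u a → x = 1 := fun x hx hxA => by
    have h2 : (⟨x, hx⟩ : R') ^ 2 = 1 := Subtype.ext (by rw [pow_two]; exact hF.uKer_sq h.isB h.fix_a h.small hxA)
    exact congrArg Subtype.val
      (CfsgLib.Bender.TwoClosed.eq_one_of_two_odd h2 (hRodd.of_dvd_nat (orderOf_dvd_natCard _)))
  have hRJ : q - 1 ∣ p ^ e - 1 := by
    rw [← hJc, ← he, ← hRc]
    letI : MulAction (jGrp Z a b) {x : R' // x ≠ 1} :=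
      { smul := fun j x => ⟨⟨(j : G) * (x.1 : G) * (j : G)⁻¹, conj_mem_of_normalizer (hJR j.2) x.1.2⟩, fun e =>
          x.2 (Subtype.ext (conj_eq_one_iff.mp (congrArg Subtype.val e :)))⟩
        one_smul := fun x => Subtype.ext (Subtype.ext (show (1 : G) * (x.1 : G) * (1 : G)⁻¹ = x.1 by group))
        mul_smul := fun i j x => Subtype.ext (Subtype.ext (show (i * j : G) * (x.1 : G) * (i * j : G)⁻¹ =
          (i : G) * ((j : G) * (x.1 : G) * (j : G)⁻¹) * (i : G)⁻¹ by group)) }
    have hfree : ∀ (j : jGrp Z a b) (x : {x : R' // x ≠ 1}), j • x = x → j = 1 := by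
      intro j x hjx
      by_contra hj1
      have h1 : (j : G) * (x.1 : G) = x.1 * j := mul_inv_eq_iff_eq_mul.mp
        (congrArg (fun z : {x : R' // x ≠ 1} => (z.1 : G)) hjx :)
      obtain ⟨hja, hjb⟩ := hF.jGrp_fix h.ne j.2
      have hxa := (hF.mem_kGrp.mp (hRK x.1.2)).1
      rcases hF.jGrp_fix_only h.ne j.2 (fun e => hj1 (Subtype.ext e)) (g := (x.1 : G) • b)
        (by rw [← mul_smul, h1, mul_smul, hjb]) with h2 | h2
      · exact h.ne (smul_left_cancel (x.1 : G) (h2.trans hxa.symm))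
      · exact x.2 (Subtype.ext (hRA _ x.1.2 (hKb _ (hRK x.1.2) h2)))
    have h1 := card_dvd_of_free hfree
    haveI := Fintype.ofFinite R'
    rwa [Nat.card_eq_fintype_card (α := {x : R' // x ≠ 1}), Fintype.card_subtype_compl,
      Fintype.card_subtype_eq, ← Nat.card_eq_fintype_card] at h1
  -- the index is a prime
  have hpe : p ^ e ∣ q * (q - 1) + 1 := by
    have h1 : p ^ e ∣ Nat.card (hF.kGrp a) := he ▸ Subgroup.card_subgroup_dvd_card _
    rw [hKcard] at h1
    refine Nat.Coprime.dvd_of_dvd_mul_right (Nat.Coprime.pow_left e ?_) h1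
    refine (hp.coprime_iff_not_dvd).mpr fun hd => ?_
    rcases hp.dvd_mul.mp hd with hd | hd
    · rcases hp.dvd_mul.mp hd with hd | hd
      · exact hpq hd
      · rcases hp.dvd_mul.mp hd with hd | hd <;> exact hpq hd
    · exact hpA hd
  have he0 : e ≠ 0 := fun e0 => by
    have h1 : p ∣ Nat.card (hF.kGrp a) := hKcard ▸ hpN.trans (Dvd.intro _ rfl)
    have h2 := R.card_eq_multiplicity
    rw [he, e0, pow_zero] at h2
    have h3 := hp.factorization_pos_of_dvd Nat.card_pos.ne' h1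
    rcases Nat.pow_eq_one.mp h2.symm with h4 | h4
    · exact hp.ne_one h4
    · omega
  have hNp := hall (p ^ e) hpe hRJ (fun h1 => by
    rcases Nat.pow_eq_one.mp h1 with h4 | h4
    · exact hp.ne_one h4
    · exact he0 h4)
  have he1 : e = 1 := by
    by_contra hne
    rcases Nat.even_or_odd e with ⟨f, hf⟩ | heo
    · rw [hf, pow_add] at hNp
      rcases Nat.lt_or_ge (p ^ f) q with hlt | hge
      · have h1 : p ^ f * p ^ f ≤ (q - 1) * (q - 1) := Nat.mul_le_mul (by omega) (by omega)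
        have h2 : (q - 1) * (q - 1) + (q - 1) = q * (q - 1) := by
          obtain ⟨c, hc⟩ : ∃ c, q = c + 1 := ⟨q - 1, by omega⟩
          rw [hc, Nat.add_sub_cancel]; ring
        omega
      · have h1 : q * q ≤ p ^ f * p ^ f := Nat.mul_le_mul hge hge
        have h2 : q * (q - 1) + q = q * q := by
          obtain ⟨c, hc⟩ : ∃ c, q = c + 1 := ⟨q - 1, by omega⟩
          rw [hc, Nat.add_sub_cancel]; ring
        omega
    · have hgeo := geom_sum_mul_add (p - 1) e
      rw [Nat.sub_add_cancel hp.one_lt.le, hNp] at hgeo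
      have hS : Odd (∑ x ∈ Finset.range e, p ^ x) := by
        rw [Finset.odd_sum_iff_odd_card_odd, Finset.filter_true_of_mem fun x _ => (hp.odd_of_ne_two hp2).pow,
          Finset.card_range]
        exact heo
      have h1 : q ∣ (∑ x ∈ Finset.range e, p ^ x) * (p - 1) := ⟨q - 1, by omega⟩
      have hqp : q ∣ p - 1 := by
        refine Nat.Coprime.dvd_of_dvd_mul_left ?_ h1
        rw [hqi]
        exact Nat.Coprime.pow_left i (Nat.coprime_two_left.mpr hS)
      have hpq1 : q ≤ p - 1 := Nat.le_of_dvd (by have := hp.two_le; omega) hqp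
      have h3 : q * q * q ≤ p ^ e := by
        refine le_trans ?_ (Nat.pow_le_pow_right hp.pos (show 3 ≤ e by obtain ⟨m, hm⟩ := heo; omega))
        rw [pow_three, ← mul_assoc]
        exact Nat.mul_le_mul (Nat.mul_le_mul (by omega) (by omega)) (by omega)
      have h4 : q * q * 2 ≤ q * q * q := Nat.mul_le_mul_left _ (by omega)
      have h5 : q * (q - 1) ≤ q * q := Nat.mul_le_mul_left _ (by omega)
      have h6 : 8 * 1 ≤ q * q := Nat.mul_le_mul h8 (by omega)
      omega
  rw [he1, pow_one] at hNp he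
  -- the Sylow subgroup is normal
  have hn1 : (Subgroup.normalizer ((R : Subgroup (hF.kGrp a)) : Set (hF.kGrp a))).index = 1 := by
    set N := Subgroup.normalizer ((R : Subgroup (hF.kGrp a)) : Set (hF.kGrp a))
    have hmod := card_sylow_modEq_one p (hF.kGrp a)
    rw [Sylow.card_eq_index_normalizer R] at hmod
    have hE : (hF.eGrp a).subgroupOf (hF.kGrp a) ≤ N := fun x hx => mem_normalizer_of_conj fun y hy => by
      rwa [show x * y * x⁻¹ = y from Subtype.ext (by
        show (x : G) * y * (x : G)⁻¹ = y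
        rw [(hF.mem_kGrp.mp y.2).2 _ (show (x : G) ∈ hF.eGrp a from hx), mul_inv_cancel_right])]
    have hdvd : p * q ∣ Nat.card N := by
      refine (Nat.Coprime.mul_dvd_of_dvd_of_dvd ((hp.coprime_iff_not_dvd).mpr hpq) ?_ ?_)
      · exact he ▸ Subgroup.card_dvd_of_le Subgroup.le_normalizer
      · rw [hqdef, ← Nat.card_congr (Subgroup.subgroupOfEquivOfLe (hF.eGrp_le_kGrp a)).toEquiv]
        exact Subgroup.card_dvd_of_le hE
    have hn : N.index ∣ q * q * Nat.card (hF.uKer u a) := by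
      refine (Nat.mul_dvd_mul_iff_left (Nat.mul_pos hp.pos (show 0 < q by omega))).mp ?_
      calc p * q * N.index ∣ Nat.card N * N.index := mul_dvd_mul_right hdvd _
        _ = p * q * (q * q * Nat.card (hF.uKer u a)) := by
            rw [Subgroup.card_mul_index, hKcard, hNp]; ring
    rw [hqi, hα, ← pow_add, ← pow_add] at hn
    obtain ⟨c, hc, hcn⟩ := (Nat.dvd_prime_pow Nat.prime_two).mp hn
    have hαi : α ≤ i := by
      have h1 := hA2
      rw [hα, hi] at h1
      exact (Nat.pow_le_pow_iff_right (by omega)).mp h1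
    rcases Nat.eq_zero_or_pos c with hc0 | hc0
    · rw [hcn, hc0, pow_zero]
    exfalso
    replace hmod : 2 ^ c ≡ 1 [MOD p] := hcn ▸ (hmod : N.index ≡ 1 [MOD p])
    have hpc : p ∣ 2 ^ c - 1 := (Nat.modEq_iff_dvd' Nat.one_le_two_pow).mp hmod.symm
    have hp3 : p ∣ 2 ^ (i + i + i) + 1 := by
      refine ⟨2 ^ i + 1, ?_⟩
      rw [pow_add, pow_add, ← hqi, hNp]
      obtain ⟨d, hd⟩ : ∃ d, q = d + 1 := ⟨q - 1, by omega⟩
      rw [hd, Nat.add_sub_cancel]
      ring
    have hp4 : p ∣ 2 ^ (i + i + i - c) + 1 := by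
      have hh : 2 ^ (i + i + i) + 1 = 2 ^ (i + i + i - c) * (2 ^ c - 1) + (2 ^ (i + i + i - c) + 1) := by
        rw [← add_assoc, ← Nat.mul_succ, Nat.succ_eq_add_one, Nat.sub_add_cancel Nat.one_le_two_pow, ← pow_add,
          Nat.sub_add_cancel (by omega)]
      exact (Nat.dvd_add_right (hpc.trans (Dvd.intro_left _ rfl))).mp (hh ▸ hp3)
    have h1 : p ≤ 2 ^ c := by
      have h2 : 2 ≤ 2 ^ c := le_trans (by norm_num) (Nat.pow_le_pow_right (show 0 < 2 by omega) hc0)
      have := Nat.le_of_dvd (by omega) hpc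
      omega
    have h2 : p - 1 ≤ 2 ^ (i + i + i - c) := by
      have := Nat.le_of_dvd (by positivity) hp4
      omega
    have h3 : p * (p - 1) ≤ q * q * q := by
      refine (Nat.mul_le_mul h1 h2).trans (le_of_eq ?_)
      rw [← pow_add, Nat.add_sub_cancel' (by omega), pow_add, pow_add, ← hqi]
    rw [hNp, Nat.add_sub_cancel] at h3
    have h4 : (q * (q - 1) + 1) * (q * (q - 1)) = q * (q - 1) * (q * (q - 1)) + q * (q - 1) := by ring
    have h5 : q * 7 * (q * (q - 1)) ≤ q * (q - 1) * (q * (q - 1)) :=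
      Nat.mul_le_mul_right _ (Nat.mul_le_mul_left _ (by omega))
    have h6 : q * q * (7 * (q - 1)) = q * 7 * (q * (q - 1)) := by ring
    have h7 : q * q * (q + 1) ≤ q * q * (7 * (q - 1)) := Nat.mul_le_mul_left _ (by omega)
    have h8' : q * q * (q + 1) = q * q * q + q * q := by ring
    have h9 : 0 < q * q := Nat.mul_pos (by omega) (by omega)
    omega
  have hnorm : ∀ g ∈ hF.kGrp a, ∀ x ∈ R', g * x * g⁻¹ ∈ R' := by
    rintro g hg _ ⟨y, hy, rfl⟩
    refine ⟨⟨g, hg⟩ * y * ⟨g, hg⟩⁻¹, conj_mem_of_normalizer ?_ hy, rfl⟩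
    rw [Subgroup.index_eq_one.mp hn1]
    exact Subgroup.mem_top _
  -- two involutions invert it
  have hR1 : ∀ x ∈ R', x = 1 := fun x hx => by
    refine h.no_four hv hv1 hvu (fun w hw y hy => ?_) (fun w hw hw1 y hy hc => ?_) hx
    · have h1 := hnorm w ((hF.mem_uGrp.mp (hF.uKer_le hw)).1) y hy
      rwa [inv_eq_of_mul_eq_one_right (hF.uKer_sq h.isB h.fix_a h.small hw)] at h1
    · have hyU : y ∈ hF.uGrp u a := (h.groups_eq hw hw1).1 ▸ hF.mem_uGrp.mpr ⟨hRK hy, hc⟩
      obtain ⟨n, hn⟩ := hF.isPGroup_uGrp h.isB h.fix_a h.small ⟨y, hyU⟩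
      have hy1 : orderOf y ∣ 2 ^ n := orderOf_dvd_of_pow_eq_one (congrArg Subtype.val hn)
      have hy2 : orderOf y ∣ Nat.card R' := Subgroup.orderOf_dvd_natCard _ hy
      refine orderOf_eq_one_iff.mp (Nat.eq_one_of_dvd_coprimes ?_ hy1 hy2)
      exact Nat.Coprime.pow_left n (Nat.coprime_two_left.mpr hRodd)
  have h1 : Nat.card R' = 1 := by rw [Subgroup.card_eq_one, Subgroup.eq_bot_iff_forall]; exact hR1
  rw [hRc, he] at h1
  exact hp.ne_one h1

theorem Std.card_uKer_suz : Nat.card (hF.uKer u a) = 2 := by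
  refine Nat.card_eq_two_iff.mpr ⟨1, ⟨u, hF.self_mem_uKer h.isB h.fix_a⟩, fun e => h.isB.1.1
    (congrArg Subtype.val e).symm, Set.eq_univ_of_forall fun v => ?_⟩
  rcases h.uKer_two_suz hq v v.2 with e | e
  · exact Or.inl (Subtype.ext e)
  · exact Or.inr (Subtype.ext e)

end FCtx

end CfsgLib.Bender.Q
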