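import Cfsg.Agent.Lib.Bender.Q.Full.SuzukiBase
import Cfsg.Agent.Lib.Bender.Q.Full.Vec

/-!
The case `f = q ^ 2`: the kernel at the point translates by every member.  Otherwise the affine proposition gives all
linear maps, and squaring would make the centraliser abelian.

Blueprint: `blueprint/bender/Q_VI.md` 6.
-/

set_option autoImplicit false
set_option linter.unusedSectionVars false
set_option linter.style.haveILetI false
set_option linter.deprecated false

universe u

namespace CfsgLib.Bender.Q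

open MulAction Cfsg
open CfsgLib.Bender.TwoClosed (IsInv two mem_two smul_conj MaxP mem_normalizer_of_conj conj_mem_of_normalizer)

variable {G Ω : Type u} [Group G] [MulAction G Ω] {Z : Set G} [Finite G] [FaithfulSMul G Ω]

namespace FCtx

variable {hF : FCtx G Ω Z} {u : G} {a b : Ω} {T : Subgroup G} (h : hF.Std u a b T)
include h

/-- Without translations every linear map is a conjugation in the normaliser of the centraliser. -/
theorem Std.linear_of_none (hnone : hF.tGrp u a = hF.uGrp u a) :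
    ∀ L : hF.EVec a ≃ₗ[ZMod 2] hF.EVec a, ∃ c ∈ hF.nGrp u a, ∀ x, hF.val (L x) = c * hF.val x * c⁻¹ := by
  intro L
  suffices hmain : ∃ g ∈ hF.nGrp u a, ∃ c m, (c ∈ hF.nGrp u a ∧ m ∈ hF.eGrp a ∧
      ∀ x ∈ hF.eGrp a, Maps Ω u g x (m * (c * x * c⁻¹))) ∧ ∀ x, hF.val (L x) = c * hF.val x * c⁻¹ by
    obtain ⟨g, -, c, m, ⟨hc, -⟩, hL⟩ := hmain
    exact ⟨c, hc, hL⟩
  refine (h.affine (N := hF.nGrp u a) h.jGrp_le_nGrp
    (fun g c m => c ∈ hF.nGrp u a ∧ m ∈ hF.eGrp a ∧
      ∀ x ∈ hF.eGrp a, Maps Ω u g x (m * (c * x * c⁻¹))) ?_ ?_ ?_ ?_ ?_ ?_ ?_ ?_).2 L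
  · intro g hg
    obtain ⟨v, d, j, -, -, hd, hj, -, hmap⟩ := h.exists_data hg
    have hj' := hj.1
    refine ⟨j⁻¹ * g, j⁻¹ * d * j, Subgroup.mul_mem _ (inv_mem (h.jGrp_le_nGrp hj')) hg, ?_, fun x hx => ?_⟩
    · have := h.conj_eGrp (inv_mem hj') hd
      rwa [inv_inv] at this
    · have h1 := (hmap x hx).2
      rwa [show j⁻¹ * (d * (g * x * g⁻¹)) * j = j⁻¹ * d * j * (j⁻¹ * g * x * (j⁻¹ * g)⁻¹) by group] at h1
  · rintro g c m ⟨hc, hm, -⟩
    exact ⟨(hF.mem_nGrp.mp hc).1, hm⟩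
  · rintro g c m g' c' m' - - ⟨hc, hm, hmap⟩ ⟨hc', hm', hmap'⟩
    refine ⟨Subgroup.mul_mem _ hc' hc, mul_mem hm' (hF.nGrp_conj_eGrp hc' hm), fun x hx => ?_⟩
    have hx' := mul_mem hm (hF.nGrp_conj_eGrp hc hx)
    have h1 := (hmap x hx).mul (hmap' _ hx')
    rwa [show m' * (c' * (m * (c * x * c⁻¹)) * c'⁻¹) = m' * (c' * m * c'⁻¹) * (c' * c * x * (c' * c)⁻¹) by group]
      at h1
  · rintro g c m c' m' - ⟨hc, hm, hmap⟩ ⟨hc', hm', hmap'⟩
    have key : ∀ x ∈ hF.eGrp a, m * (c * x * c⁻¹) = m' * (c' * x * c'⁻¹) := fun x hx =>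
      h.maps_unique (mul_mem hm (hF.nGrp_conj_eGrp hc hx)) (mul_mem hm' (hF.nGrp_conj_eGrp hc' hx))
        (hmap x hx) (hmap' x hx)
    have hmm : m = m' := by simpa using key 1 (one_mem _)
    exact ⟨hmm, fun x hx => mul_left_cancel (hmm ▸ key x hx)⟩
  · intro j hj
    exact ⟨h.jGrp_le_nGrp hj, one_mem _, fun x hx => by rw [one_mul]; exact h.maps_jGrp hj⟩
  · rintro g c m hg ⟨hc, hm, hmap⟩ htriv
    obtain ⟨v, d, j, -, -, hd, hj, -, hmap2⟩ := h.exists_data hg
    have hj' := hj.1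
    have h1 : m = j⁻¹ * d * j := by
      have := h.maps_unique (mul_mem hm (hF.nGrp_conj_eGrp hc (one_mem _))) (hmap2 1 (one_mem _)).1
        (hmap 1 (one_mem _)) (hmap2 1 (one_mem _)).2
      simpa using this
    have hK : j⁻¹ * g ∈ hF.nGrp u a ⊓ hF.kGrp a := by
      refine ⟨Subgroup.mul_mem _ (inv_mem (h.jGrp_le_nGrp hj')) hg, hF.mem_kGrp.mpr ⟨by
        rw [mul_smul, (hF.mem_nGrp.mp hg).1, (hF.jGrp_fix h.ne (inv_mem hj')).1], fun e he => ?_⟩⟩
      have h2 := h.maps_unique (mul_mem hm (hF.nGrp_conj_eGrp hc he)) (hmap2 e he).1 (hmap e he) (hmap2 e he).2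
      rw [htriv e he, h1, show j⁻¹ * (d * (g * e * g⁻¹)) * j = j⁻¹ * d * j * (j⁻¹ * g * e * (j⁻¹ * g)⁻¹) by group] at h2
      exact mul_inv_eq_iff_eq_mul.mp (mul_left_cancel h2).symm |>.symm
    rw [← h.tGrp_eq, hnone] at hK
    have h2 := (h.maps_uGrp hK (one_mem _)).mul (h.maps_jGrp (x := (1 : G)) hj')
    rw [mul_inv_cancel_left, mul_one, mul_inv_cancel] at h2
    have h3 := hmap 1 (one_mem _)
    rw [mul_one, mul_inv_cancel, mul_one] at h3
    exact (h.maps_unique (one_mem _) hm h2 h3).symm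
  · intro y hy
    obtain ⟨g, hg, hmap⟩ := h.exists_maps_one hy
    obtain ⟨v, d, j, -, -, hd, hj, -, hmap2⟩ := h.exists_data hg
    have hj' := hj.1
    refine ⟨g, hg, j⁻¹ * g, Subgroup.mul_mem _ (inv_mem (h.jGrp_le_nGrp hj')) hg, hy, fun x hx => ?_⟩
    have h1 : y = j⁻¹ * d * j := by
      have := h.maps_unique hy (hmap2 1 (one_mem _)).1 hmap (hmap2 1 (one_mem _)).2
      simpa using this
    have h2 := (hmap2 x hx).2
    rwa [show j⁻¹ * (d * (g * x * g⁻¹)) * j = j⁻¹ * d * j * (j⁻¹ * g * x * (j⁻¹ * g)⁻¹) by group, ← h1] at h2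
  · rintro g c hg ⟨hc, -, hmap⟩
    have h1 := hmap 1 (one_mem _)
    rw [mul_one, mul_inv_cancel, mul_one] at h1
    obtain ⟨x, hx, y, rfl, hy, hyN, hy1⟩ := h.exists_mul_two hg h1
    obtain ⟨v, d, j, -, -, hd, hj, -, hmap2⟩ := h.exists_data hyN
    have hj' := hj.1
    have hd1 : j⁻¹ * d * j = 1 := by
      have := h.maps_unique (one_mem _) (hmap2 1 (one_mem _)).1 hy1 (hmap2 1 (one_mem _)).2
      simpa using this.symm
    refine ⟨j⁻¹ * y, Subgroup.mul_mem _ (inv_mem (hF.jGrp_le_two h.ne hj')) hy, fun z hz => ?_⟩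
    have h2 := (hmap2 z hz).2.mul (h.maps_uGrp hx (hmap2 z hz).1)
    have h3 := h.maps_unique (mul_mem (one_mem _) (hF.nGrp_conj_eGrp hc hz)) (hmap2 z hz).1 (hmap z hz) h2
    rw [one_mul, show j⁻¹ * (d * (y * z * y⁻¹)) * j = j⁻¹ * d * j * (j⁻¹ * y * z * (j⁻¹ * y)⁻¹) by group, hd1,
      one_mul] at h3
    exact h3

variable (hq : fixCard Ω u = Nat.card (hF.eGrp a) ^ 2 + 1)
include hq

theorem Std.translations_suz :
    ∀ y ∈ hF.eGrp a, ∃ g ∈ hF.tGrp u a, ∀ x ∈ hF.eGrp a, Maps Ω u g x (y * x) := by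
  refine h.translations.resolve_left fun hnone => ?_
  obtain ⟨x, hx, y, hy, hne⟩ := h.exists_not_comm hq
  have hxy := Subgroup.mul_mem _ hx hy
  have hnc : ∀ {p p' : G}, p ∈ hF.uGrp u a → p' ∈ hF.uGrp u a → p * p' ≠ p' * p → p * p ≠ 1 := fun hp hp' hne e =>
    hne (h.central_of_sq hq hp e hp')
  set A := hF.vec _ (hF.uGrp_sq h.isB h.fix_a h.small hx) with hA
  set B := hF.vec _ (hF.uGrp_sq h.isB h.fix_a h.small hy) with hB
  set W := hF.vec _ (hF.uGrp_sq h.isB h.fix_a h.small hxy) with hW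
  haveI : Finite (hF.EVec a) := inferInstanceAs (Finite (hF.eGrp a))
  have hA0 : A ≠ 0 := fun e => hnc hx hy hne (congrArg hF.val e :)
  by_cases hmem : W ∈ Submodule.span (ZMod 2) ({A, B} : Set (hF.EVec a))
  · obtain ⟨s, t, hst⟩ := Submodule.mem_span_pair.mp hmem
    have hcases : W = 0 ∨ W = A ∨ W = B ∨ W = A + B := by
      have h2 : ∀ r : ZMod 2, r = 0 ∨ r = 1 := by decide
      rcases h2 s with rfl | rfl <;> rcases h2 t with rfl | rfl <;> simp at hst <;> simp [← hst]
    rcases hcases with e | e | e | e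
    · exact hnc hxy hx (fun h1 => hne (by
        rw [mul_assoc] at h1
        exact (mul_left_cancel h1).symm)) (congrArg hF.val e :)
    · have h1 := h.sq_class hq hx hxy (congrArg hF.val e :).symm
      rw [inv_mul_cancel_left] at h1
      exact hne (h.central_of_sq hq hy h1 hx).symm
    · have h1 := h.sq_class hq hy hxy (congrArg hF.val e :).symm
      rw [show y⁻¹ * (x * y) * (y⁻¹ * (x * y)) = y⁻¹ * (x * x) * y by group] at h1
      exact hnc hx hy hne (by
        calc x * x = y * (y⁻¹ * (x * x) * y) * y⁻¹ := by group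
          _ = 1 := by rw [h1, mul_one, mul_inv_cancel])
    · refine hne ?_
      have h1 : x * y * (x * y) = x * x * (y * y) := congrArg hF.val e
      have h2 : y * x = x * y := by
        have h3 : x * (y * x) * y = x * (x * y) * y := by
          calc x * (y * x) * y = x * y * (x * y) := by group
            _ = x * x * (y * y) := h1
            _ = x * (x * y) * y := by group
        exact mul_left_cancel (mul_right_cancel h3)
      exact h2.symm
  · obtain ⟨f, hfW, hf⟩ := Submodule.exists_le_ker_of_notMem hmem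
    have hfA : f A = 0 := LinearMap.mem_ker.mp (hf (Submodule.subset_span (by simp)))
    have hfB : f B = 0 := LinearMap.mem_ker.mp (hf (Submodule.subset_span (by simp)))
    let Lm : hF.EVec a →ₗ[ZMod 2] hF.EVec a := LinearMap.id + f.smulRight A
    have hLm : Function.Injective Lm := by
      refine (injective_iff_map_eq_zero Lm).mpr fun v hv => ?_
      change v + f v • A = 0 at hv
      have h1 := congrArg f hv
      rw [map_add, map_smul, hfA, smul_zero, add_zero, map_zero] at h1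
      rwa [h1, zero_smul, add_zero] at hv
    obtain ⟨c, hc, hcL⟩ := h.linear_of_none hnone
      (LinearEquiv.ofBijective Lm (Finite.injective_iff_bijective.mp hLm))
    have key : ∀ {p : G} (hp : p ∈ hF.uGrp u a), f (hF.vec _ (hF.uGrp_sq h.isB h.fix_a h.small hp)) = 0 →
        ∃ d ∈ hF.uGrp u a, d * d = 1 ∧ c * p * c⁻¹ = p * d := by
      intro p hp hf0
      have hcp := conj_mem_of_normalizer (hF.mem_nGrp.mp hc).2 hp
      have h1 := hcL (hF.vec _ (hF.uGrp_sq h.isB h.fix_a h.small hp))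
      change hF.val (_ + f _ • A) = _ at h1
      rw [hf0, zero_smul, add_zero, hF.val_vec, ← conj_mul] at h1
      exact ⟨_, Subgroup.mul_mem _ (inv_mem hp) hcp, h.sq_class hq hp hcp h1, (mul_inv_cancel_left p _).symm⟩
    obtain ⟨d, hd, hd2, hcx⟩ := key hx hfA
    obtain ⟨d', hd', hd2', hcy⟩ := key hy hfB
    have hW' : c * (x * y * (x * y)) * c⁻¹ = x * y * (x * y) := by
      have hdd := Subgroup.mul_mem _ hd hd'
      have hdd2 : d * d' * (d * d') = 1 := by
        rw [show d * d' * (d * d') = d * (d' * d) * d' by group, h.central_of_sq hq hd' hd2' hd,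
          show d * (d * d') * d' = d * d * (d' * d') by group, hd2, hd2', mul_one]
      rw [← conj_mul, ← conj_mul, hcx, hcy, show x * d * (y * d') = x * (d * y) * d' by group,
        h.central_of_sq hq hd hd2 hy, show x * (y * d) * d' = x * y * (d * d') by group,
        show x * y * (d * d') * (x * y * (d * d')) = x * y * (d * d' * (x * y)) * (d * d') by group,
        h.central_of_sq hq hdd hdd2 hxy, show x * y * (x * y * (d * d')) * (d * d') =
          x * y * (x * y) * (d * d' * (d * d')) by group, hdd2, mul_one]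
    have h1 := hcL W
    change hF.val (W + f W • A) = _ at h1
    have h2 : f W = 1 := by
      have : ∀ r : ZMod 2, r ≠ 0 → r = 1 := by decide
      exact this _ hfW
    rw [h2, one_smul, hF.val_add, hW, hF.val_vec, hW'] at h1
    exact hA0 (hF.val_inj (mul_eq_left.mp h1))

theorem Std.card_tGrp_suz : Nat.card (hF.tGrp u a) =
    Nat.card (hF.eGrp a) * (Nat.card (hF.eGrp a) * Nat.card (hF.eGrp a)) * Nat.card (hF.uKer u a) := by
  rw [h.card_tGrp (h.translations_suz hq), h.card_uGrp_suz hq]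
  ring

end FCtx

end CfsgLib.Bender.Q
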