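import Cfsg.Agent.Lib.Bender.Q.Full.Linear
import Cfsg.Agent.Lib.Bender.Q.Full.SuzukiNone
import Mathlib.GroupTheory.GroupAction.Quotient

/-!
The case `f = q ^ 2`: the involutions of the translation group, the freeness of the torus on its cosets, the index of
the translation group in the kernel at the point, and the contradiction when it is the whole kernel.

Blueprint: `blueprint/bender/Q_VI.md` 6.
-/

set_option autoImplicit false
set_option linter.unusedSectionVars false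
set_option linter.style.haveILetI false
set_option linter.deprecated false

universe u

namespace CfsgLib.Bender.Q

open MulAction Cfsg
open CfsgLib.Bender.TwoClosed (IsInv two mem_two smul_conj MaxP exists_maxP mem_normalizer_of_conj
  conj_mem_of_normalizer)

variable {G Ω : Type u} [Group G] [MulAction G Ω] {Z : Set G} [Finite G] [FaithfulSMul G Ω]

/-- The order of a group acting freely divides the number of points. -/
theorem card_dvd_of_free {H X : Type u} [Group H] [MulAction H X] [Finite H] [Finite X]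
    (hfree : ∀ (g : H) (x : X), g • x = x → g = 1) : Nat.card H ∣ Nat.card X := by
  classical
  haveI : Fintype (Quotient (orbitRel H X)) := Fintype.ofFinite _
  rw [Nat.card_congr (MulAction.selfEquivSigmaOrbits H X), Nat.card_sigma]
  refine Finset.dvd_sum fun ω _ => ?_
  rw [Nat.card_congr (orbitEquivQuotientStabilizer H ω.out), ← Subgroup.index_eq_card,
    show stabilizer H ω.out = ⊥ from eq_bot_iff.mpr fun g hg => hfree g _ (mem_stabilizer_iff.mp hg),
    Subgroup.index_bot]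

namespace FCtx

variable {hF : FCtx G Ω Z} {u : G} {a b : Ω} {T : Subgroup G} (h : hF.Std u a b T)
include h

/-- A coset of a 2-group fixed by a non-identity element of the torus meets the stabiliser of the second point. -/
theorem Std.exists_fix_right {U : Subgroup G} (hU : IsPGroup 2 U) (hUa : U ≤ stabilizer G a) {g j : G}
    (hga : g • a = a) (hj : j ∈ jGrp Z a b) (hj1 : j ≠ 1) (hUj : ∀ x ∈ U, j * x * j⁻¹ ∈ U)
    (hgj : g⁻¹ * (j * g * j⁻¹) ∈ U) : ∃ x ∈ U, (g * x) • b = b := by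
  by_contra hno
  push Not at hno
  haveI := finite_points hF.ctx.hyp
  haveI : Fact (Nat.Prime 2) := ⟨Nat.prime_two⟩
  obtain ⟨hja, hjb⟩ := hF.jGrp_fix h.ne hj
  let X : Set Ω := (fun c => g • c) '' orbit U b
  have hX : ∀ c ∈ X, j • c ∈ X := by
    rintro _ ⟨_, ⟨x, rfl⟩, rfl⟩
    refine ⟨_, ⟨⟨_, U.mul_mem hgj (hUj x x.2)⟩, rfl⟩, ?_⟩
    show g • (g⁻¹ * (j * g * j⁻¹) * (j * (x : G) * j⁻¹)) • b = j • g • (x : G) • b
    rw [← mul_smul, show g * (g⁻¹ * (j * g * j⁻¹) * (j * (x : G) * j⁻¹)) = j * g * (x : G) * j⁻¹ by group]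
    simp only [mul_smul, inv_smul_eq_iff.mpr hjb.symm]
  have hfree : ∀ c ∈ X, ∀ m : ℕ, j ^ m • c = c → j ^ m = 1 := by
    rintro _ ⟨_, ⟨x, rfl⟩, rfl⟩ m hm
    by_contra hm1
    rcases hF.jGrp_fix_only h.ne (pow_mem hj m) hm1 hm with e | e
    · refine h.ne (smul_left_cancel (x : G) (smul_left_cancel g ?_))
      rw [mem_stabilizer_iff.mp (hUa x.2), hga]
      exact e
    · exact hno x x.2 (by rw [mul_smul]; exact e)
  have hdvd := CfsgLib.Bender.Ext.orderOf_dvd_card hX hfree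
  obtain ⟨k, hk⟩ := hU.card_orbit b
  rw [Nat.card_coe_set_eq, Set.ncard_image_of_injective _ (MulAction.injective g), ← Nat.card_coe_set_eq, hk] at hdvd
  obtain ⟨i, -, hi⟩ := (Nat.dvd_prime_pow Nat.prime_two).mp hdvd
  rcases i with _ | i
  · exact hj1 (orderOf_eq_one_iff.mp (hi.trans (pow_zero 2)))
  · exact absurd (hF.odd_orderOf_mem_jGrp h.ne hj)
      (by rw [hi, Nat.not_odd_iff_even]; exact (Nat.even_pow).mpr ⟨even_two, i.succ_ne_zero⟩)

theorem Std.stab_tGrp : hF.tGrp u a ≤ stabilizer G a := fun _ hx =>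
  mem_stabilizer_iff.mpr (hF.mem_nGrp.mp ((h.mem_tGrp.mp hx).1).1).1

theorem Std.mem_kerP {x : G} (hx : x ∈ two a b ⊓ hF.kGrp a) {v : G} (hv : v ∈ hF.uKer u a) (hv1 : v ≠ 1)
    (hc : x * v * x⁻¹ ∈ hF.uGrp u a) : x ∈ hF.uKer u a := by
  have hxn := h.mem_nGrp_of_conj (mem_two.mp hx.1).1 hv hv1 hc
  have hxt : x ∈ hF.tGrp u a := h.tGrp_eq ▸ Subgroup.mem_inf.mpr ⟨hxn, hx.2⟩
  exact hF.uKer_of_fix h.isB h.fix_a h.small (h.mem_uGrp_of_fix_right hxt (mem_two.mp hx.1).2) h.fix_b h.ne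
    (mem_two.mp hx.1).2

/-- The torus acts freely on the cosets of the translation group in a normalised subgroup of the kernel other than
the group itself. -/
theorem Std.index_mod {N : Subgroup G} (hN : N ≤ hF.kGrp a) (htN : hF.tGrp u a ≤ N)
    (hJN : ∀ j ∈ jGrp Z a b, ∀ x ∈ N, j * x * j⁻¹ ∈ N)
    (hP : ∀ x ∈ N, x • b = b → x ∈ hF.tGrp u a) :
    Nat.card (jGrp Z a b) ∣ (hF.tGrp u a).relIndex N - 1 := by
  classical
  set U := (hF.tGrp u a).subgroupOf N with hU
  have hJt : ∀ j ∈ jGrp Z a b, ∀ x ∈ hF.tGrp u a, j * x * j⁻¹ ∈ hF.tGrp u a := fun j hj x hx =>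
    h.tGrp_conj (h.jGrp_le_nGrp hj) hx
  let φ : jGrp Z a b → (N ⧸ U) → (N ⧸ U) := fun j => Quotient.map'
    (fun x : N => (⟨(j : G) * x * (j : G)⁻¹, hJN j j.2 x x.2⟩ : N)) fun x y hxy => by
      rw [QuotientGroup.leftRel_apply] at hxy ⊢
      have h1 := hJt j j.2 _ (hxy : (x : G)⁻¹ * y ∈ hF.tGrp u a)
      show ((j : G) * x * (j : G)⁻¹)⁻¹ * ((j : G) * y * (j : G)⁻¹) ∈ hF.tGrp u a
      rwa [show ((j : G) * x * (j : G)⁻¹)⁻¹ * ((j : G) * y * (j : G)⁻¹) = (j : G) * ((x : G)⁻¹ * y) * (j : G)⁻¹ by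
        group]
  have hφ1 : ∀ q, φ 1 q = q := fun q => by
    induction q using QuotientGroup.induction_on with
    | _ x => exact congrArg QuotientGroup.mk (Subtype.ext (show (1 : G) * (x : G) * (1 : G)⁻¹ = x by group))
  have hφm : ∀ i j q, φ (i * j) q = φ i (φ j q) := fun i j q => by
    induction q using QuotientGroup.induction_on with
    | _ x => exact congrArg QuotientGroup.mk (Subtype.ext (show (i * j : G) * (x : G) * (i * j : G)⁻¹ =
        (i : G) * ((j : G) * x * (j : G)⁻¹) * (i : G)⁻¹ by group))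
  have hφo : ∀ j, φ j (QuotientGroup.mk (1 : N)) = QuotientGroup.mk (1 : N) := fun j =>
    congrArg QuotientGroup.mk (Subtype.ext (show (j : G) * (1 : G) * (j : G)⁻¹ = 1 by group))
  letI : MulAction (jGrp Z a b) {q : N ⧸ U // q ≠ QuotientGroup.mk (1 : N)} :=
    { smul := fun j q => ⟨φ j q, fun e => q.2 (by
        have h1 := congrArg (φ j⁻¹) e
        rwa [← hφm, inv_mul_cancel, hφ1, hφo] at h1)⟩
      one_smul := fun q => Subtype.ext (hφ1 q)
      mul_smul := fun i j q => Subtype.ext (hφm i j q) }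
  have hfree : ∀ (j : jGrp Z a b) (q : {q : N ⧸ U // q ≠ QuotientGroup.mk (1 : N)}), j • q = q → j = 1 := by
    rintro j ⟨q, hq⟩ hjq
    have hjq' : φ j q = q := congrArg Subtype.val hjq
    induction q using QuotientGroup.induction_on with
    | _ g =>
      by_contra hj1
      refine hq (QuotientGroup.eq.mpr ?_)
      have h1 : (g : G)⁻¹ * ((j : G) * g * (j : G)⁻¹) ∈ hF.tGrp u a := by
        have h2 : ((⟨(j : G) * g * (j : G)⁻¹, hJN j j.2 g g.2⟩ : N))⁻¹ * g ∈ U := QuotientGroup.eq.mp hjq'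
        have h3 := inv_mem (h2 : ((j : G) * g * (j : G)⁻¹)⁻¹ * g ∈ hF.tGrp u a)
        rwa [mul_inv_rev, inv_inv] at h3
      obtain ⟨x, hx, hxb⟩ := h.exists_fix_right h.isPGroup_tGrp h.stab_tGrp (hF.mem_kGrp.mp (hN g.2)).1 j.2
        (fun e => hj1 (Subtype.ext e)) (hJt j j.2) h1
      have h4 := Subgroup.mul_mem _ (hP _ (N.mul_mem g.2 (htN hx)) hxb) (inv_mem hx)
      rw [mul_inv_cancel_right] at h4
      show (g : G)⁻¹ * 1 ∈ hF.tGrp u a
      rw [mul_one]
      exact inv_mem h4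
  have h1 := card_dvd_of_free hfree
  haveI := Fintype.ofFinite (N ⧸ U)
  rwa [Nat.card_eq_fintype_card (α := {q : N ⧸ U // q ≠ QuotientGroup.mk (1 : N)}), Fintype.card_subtype_compl,
    Fintype.card_subtype_eq, ← Nat.card_eq_fintype_card (α := N ⧸ U), ← Subgroup.index_eq_card] at h1

variable (hq : fixCard Ω u = Nat.card (hF.eGrp a) ^ 2 + 1)
include hq

/-- The involutions of the translation group over one translation with the same square relative to one of them
differ by members. -/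
theorem Std.same_class_suz {x y m : G} (hy : y ∈ hF.tGrp u a) (hd : y⁻¹ * x ∈ hF.uGrp u a)
    (hd2 : y⁻¹ * x * (y⁻¹ * x) = 1) (hx2 : x * x = 1)
    (hy2 : y * y = 1) (hm : m ∈ hF.eGrp a) (hm1 : m ≠ 1) (hmy : Maps Ω u y 1 m) :
    y⁻¹ * x ∈ hF.eGrp a := by
  obtain ⟨hyK, m', hm', hmap⟩ := h.mem_tGrp.mp hy
  obtain rfl := h.trans_unique hm hm' hmy hmap
  obtain ⟨e, he, v, hv, hd'⟩ := hF.exists_mul_of_sq h.isB h.fix_a h.small hd hd2
  by_cases hv1 : v = 1
  · rw [hd', hv1, mul_one]; exact he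
  exfalso
  obtain ⟨j, hj⟩ := h.exists_par hv hv1
  have h1 := h.tGrp_conj_uKer hy hm hmap hv hv1 hj
  have hye : y * e * y⁻¹ = e := mul_inv_eq_iff_eq_mul.mpr ((hF.mem_kGrp.mp hyK.2).2 e he).symm
  have hxd : x = y * (e * v) := by rw [← hd', mul_inv_cancel_left]
  have h2 : x * x = j * m * j⁻¹ := by
    rw [hxd, show y * (e * v) * (y * (e * v)) = (y * e * y⁻¹) * (y * v * y⁻¹) * (y * y) * (e * v) by group,
      hye, h1, hy2, mul_one, show e * (v * (j * m * j⁻¹)) * (e * v) = e * v * ((j * m * j⁻¹) * e) * v by group,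
      hF.eGrp_comm (h.conj_eGrp hj.1 hm) he, show e * v * (e * (j * m * j⁻¹)) * v =
        e * (v * e) * ((j * m * j⁻¹) * v) by group, ← hF.uGrp_comm_eGrp (hF.uKer_le hv) he,
      hF.uGrp_comm_eGrp (hF.uKer_le hv) (h.conj_eGrp hj.1 hm),
      show e * (e * v) * (v * (j * m * j⁻¹)) = (e * e) * (v * v) * (j * m * j⁻¹) by group,
      hF.eGrp_sq he, hF.uKer_sq h.isB h.fix_a h.small hv, one_mul, one_mul]
  rw [hx2] at h2
  exact hm1 (conj_eq_one_iff.mp h2.symm)

/-- The involutions of the translation group outside the centraliser. -/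
abbrev Std.Out (_ : hF.Std u a b T) : Type u := {w : G // w ∈ hF.tGrp u a ∧ w * w = 1 ∧ w ∉ hF.uGrp u a}

/-- There are at most `q * q` of them over each translation, and with as many all squares occur. -/
theorem Std.card_out : Nat.card h.Out ≤ (Nat.card (hF.eGrp a) - 1) * (Nat.card (hF.eGrp a) * Nat.card (hF.eGrp a)) ∧
    ((Nat.card (hF.eGrp a) - 1) * (Nat.card (hF.eGrp a) * Nat.card (hF.eGrp a)) ≤ Nat.card h.Out →
      ∀ m ∈ hF.eGrp a, m ≠ 1 → ∃ y : h.Out, Maps Ω u (y : G) 1 m ∧ ∀ s ∈ hF.eGrp a,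
        ∃ w : h.Out, (y : G)⁻¹ * w ∈ hF.uGrp u a ∧ (y : G)⁻¹ * w * ((y : G)⁻¹ * w) = s) := by
  classical
  have hm : ∀ w : h.Out, ∃ m : {m : hF.eGrp a // m ≠ 1}, Maps Ω u (w : G) 1 (m : hF.eGrp a) := fun w => by
    obtain ⟨hK, m, hm, hmap⟩ := h.mem_tGrp.mp w.2.1
    have h1 := hmap 1 (one_mem _)
    rw [mul_one] at h1
    refine ⟨⟨⟨m, hm⟩, fun e => w.2.2.2 (h.mem_uGrp_of_fix hK.1 hK.2 ?_)⟩, h1⟩
    rwa [show m = 1 from congrArg Subtype.val e] at h1
  choose tr htr using hm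
  let rep : h.Out → h.Out := fun w => if e : ∃ y, tr y = tr w then e.choose else w
  have hrep : ∀ w, tr (rep w) = tr w := fun w => by
    simp only [rep, dif_pos (⟨w, rfl⟩ : ∃ y, tr y = tr w)]
    exact Exists.choose_spec (⟨w, rfl⟩ : ∃ y, tr y = tr w)
  have hrepu : ∀ w w', tr w = tr w' → rep w = rep w' := fun w w' e => by
    simp only [rep, dif_pos (⟨w, rfl⟩ : ∃ y, tr y = tr w), dif_pos (⟨w', rfl⟩ : ∃ y, tr y = tr w'), e]
  have hd : ∀ y w : h.Out, tr y = tr w → (y : G)⁻¹ * w ∈ hF.uGrp u a := fun y w e => by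
    have hyK := (h.mem_tGrp.mp y.2.1).1
    have hwK := (h.mem_tGrp.mp w.2.1).1
    refine h.mem_uGrp_of_fix (Subgroup.mul_mem _ (inv_mem hyK.1) hwK.1) (Subgroup.mul_mem _ (inv_mem hyK.2) hwK.2)
      ((htr w).mul ?_)
    have := (htr y).inv
    rwa [e] at this
  let sq : h.Out → hF.eGrp a := fun w =>
    ⟨_, hF.uGrp_sq h.isB h.fix_a h.small (hd (rep w) w (hrep w))⟩
  let cls : h.Out → h.Out := fun w => if e : ∃ z, tr z = tr w ∧ sq z = sq w then e.choose else w
  have hex : ∀ w, ∃ z, tr z = tr w ∧ sq z = sq w := fun w => ⟨w, rfl, rfl⟩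
  have hcls : ∀ w, tr (cls w) = tr w ∧ sq (cls w) = sq w := fun w => by
    simp only [cls, dif_pos (hex w)]
    exact (hex w).choose_spec
  have hclsu : ∀ w w', tr w = tr w' → sq w = sq w' → cls w = cls w' := fun w w' e e' => by
    simp only [cls, dif_pos (hex w), dif_pos (hex w'), e, e']
  have hdiff : ∀ w, (cls w : G)⁻¹ * w ∈ hF.eGrp a := by
    intro w
    obtain ⟨h1, h2⟩ := hcls w
    have h3 := hrepu _ _ h1
    have h4 := congrArg Subtype.val h2
    change (rep (cls w) : G)⁻¹ * cls w * ((rep (cls w) : G)⁻¹ * cls w) =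
      (rep w : G)⁻¹ * w * ((rep w : G)⁻¹ * w) at h4
    rw [h3] at h4
    have hd1 := hd (rep w) (cls w) ((hrep w).trans h1.symm)
    have hd2 := hd (rep w) w (hrep w)
    have h5 := h.sq_class hq hd1 hd2 h4
    rw [show ((rep w : G)⁻¹ * cls w)⁻¹ * ((rep w : G)⁻¹ * w) = (cls w : G)⁻¹ * w by group] at h5
    exact h.same_class_suz hq (cls w).2.1 (hd _ _ h1) h5 w.2.2.1 (cls w).2.2.1
      (tr (cls w)).1.2 (fun e => (tr (cls w)).2 (Subtype.ext e)) (htr _)
  let Φ : h.Out → {m : hF.eGrp a // m ≠ 1} × (hF.eGrp a × hF.eGrp a) := fun w =>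
    (tr w, sq w, ⟨_, hdiff w⟩)
  have hΦ : Function.Injective Φ := by
    intro w w' e
    obtain ⟨e1, e2, e3⟩ : tr w = tr w' ∧ sq w = sq w' ∧ (⟨_, hdiff w⟩ : hF.eGrp a) = ⟨_, hdiff w'⟩ :=
      ⟨congrArg Prod.fst e, congrArg (fun p => p.2.1) e, congrArg (fun p => p.2.2) e⟩
    have e4 := congrArg Subtype.val e3
    change (cls w : G)⁻¹ * w = (cls w' : G)⁻¹ * w' at e4
    rw [hclsu _ _ e1 e2] at e4
    exact Subtype.ext (mul_left_cancel e4)
  have hcard : Nat.card ({m : hF.eGrp a // m ≠ 1} × (hF.eGrp a × hF.eGrp a)) =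
      (Nat.card (hF.eGrp a) - 1) * (Nat.card (hF.eGrp a) * Nat.card (hF.eGrp a)) := by
    haveI := Fintype.ofFinite (hF.eGrp a)
    rw [Nat.card_prod, Nat.card_prod, Nat.card_eq_fintype_card (α := {m : hF.eGrp a // m ≠ 1}),
      Fintype.card_subtype_compl, Fintype.card_subtype_eq, ← Nat.card_eq_fintype_card]
  have hle := Nat.card_le_card_of_injective Φ hΦ
  rw [hcard] at hle
  refine ⟨hle, fun hge m hm hm1 => ?_⟩
  have hbij := (Nat.bijective_iff_injective_and_card Φ).mpr ⟨hΦ, (le_antisymm hle hge).trans hcard.symm⟩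
  let M : {m : hF.eGrp a // m ≠ 1} := ⟨⟨m, hm⟩, fun e => hm1 (congrArg Subtype.val e)⟩
  obtain ⟨w0, hw0⟩ := hbij.2 (M, 1, 1)
  have e0 : tr w0 = M := congrArg Prod.fst hw0
  refine ⟨rep w0, ?_, fun s hs => ?_⟩
  · have h1 := htr (rep w0)
    rw [hrep w0, e0] at h1
    exact h1
  · obtain ⟨w, hw⟩ := hbij.2 (M, ⟨s, hs⟩, 1)
    have e1 : tr w = M := congrArg Prod.fst hw
    have e2 : sq w = ⟨s, hs⟩ := congrArg (fun p => p.2.1) hw
    refine ⟨w, hd _ _ ((hrep w0).trans (e0.trans e1.symm)), ?_⟩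
    rw [hrepu w0 w (e0.trans e1.symm)]
    exact congrArg Subtype.val e2

/-- The index of the translation group in the kernel. -/
theorem Std.index_facts : (hF.tGrp u a).relIndex (hF.kGrp a) *
      Nat.card (hF.tGrp u a) = Nat.card (hF.kGrp a) ∧
    ∃ o, Odd o ∧ Nat.card (two a b ⊓ hF.kGrp a : Subgroup G) = Nat.card (hF.uKer u a) * o ∧
      (hF.tGrp u a).relIndex (hF.kGrp a) ∣ (Nat.card (hF.eGrp a) * (Nat.card (hF.eGrp a) - 1) + 1) * o := by
  haveI : Fact (Nat.Prime 2) := ⟨Nat.prime_two⟩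
  haveI := finite_points hF.ctx.hyp
  haveI := pretransitive hF.ctx.hyp
  set K := hF.kGrp a
  set P := two a b ⊓ K with hPdef
  have htK : hF.tGrp u a ≤ K := fun x hx => ((h.mem_tGrp.mp hx).1).2
  have hk : (hF.tGrp u a).relIndex K * Nat.card (hF.tGrp u a) = Nat.card K := by
    rw [Subgroup.relIndex, ← Nat.card_congr (Subgroup.subgroupOfEquivOfLe htK).toEquiv]
    exact Subgroup.index_mul_card _
  obtain ⟨Sy, hSy⟩ := h.uKer_maxP.sylow
  have hoP : Nat.card P = Nat.card (hF.uKer u a) * (Sy : Subgroup P).index := by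
    rw [← (Sy : Subgroup P).card_mul_index, hSy,
      Nat.card_congr (Subgroup.subgroupOfEquivOfLe h.uKer_maxP.le).toEquiv]
  have hodd : Odd (Sy : Subgroup P).index := by
    rw [Nat.odd_iff, ← Nat.two_dvd_ne_zero]
    exact Sy.not_dvd_index
  refine ⟨hk, _, hodd, hoP, ?_⟩
  -- the orbit of the kernel
  set M := stabilizer G a
  have hKM : K ≤ M := fun x hx => mem_stabilizer_iff.mpr (hF.mem_kGrp.mp hx).1
  have hDM : two a b ≤ M := fun x hx => mem_stabilizer_iff.mpr (mem_two.mp hx).1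
  haveI : (K.subgroupOf M).Normal := ⟨fun x hx g => hF.kGrp_normal (mem_stabilizer_iff.mp g.2) hx⟩
  have h1 := Subgroup.relIndex_sup_right (H := (two a b).subgroupOf M) (K := K.subgroupOf M)
  have hsup : (K.subgroupOf M).relIndex ((two a b).subgroupOf M ⊔ K.subgroupOf M) * Nat.card K =
      Nat.card ((two a b).subgroupOf M ⊔ K.subgroupOf M : Subgroup M) := by
    rw [Subgroup.relIndex, ← Nat.card_congr (Subgroup.subgroupOfEquivOfLe hKM).toEquiv,
      ← Nat.card_congr (Subgroup.subgroupOfEquivOfLe (le_sup_right :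
        K.subgroupOf M ≤ (two a b).subgroupOf M ⊔ K.subgroupOf M)).toEquiv]
    exact Subgroup.index_mul_card _
  have hD : (K.subgroupOf M).relIndex ((two a b).subgroupOf M) * Nat.card P = Nat.card (two a b : Subgroup G) := by
    rw [← Subgroup.inf_relIndex_right, Subgroup.relIndex, ← Nat.card_congr (Subgroup.subgroupOfEquivOfLe hDM).toEquiv,
      show Nat.card P = Nat.card ((K.subgroupOf M ⊓ (two a b).subgroupOf M).subgroupOf ((two a b).subgroupOf M)) from ?_]
    · exact Subgroup.index_mul_card _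
    · rw [Nat.card_congr (Subgroup.subgroupOfEquivOfLe inf_le_right).toEquiv]
      refine Nat.card_congr
        { toFun := fun x => ⟨⟨(x : G), hDM x.2.1⟩, x.2.2, x.2.1⟩
          invFun := fun x => ⟨((x : M) : G), x.2.2, x.2.1⟩
          left_inv := fun x => rfl
          right_inv := fun x => rfl }
  have hdvd := Subgroup.card_subgroup_dvd_card ((two a b).subgroupOf M ⊔ K.subgroupOf M)
  have hMc : Nat.card M = (Nat.card Ω - 1) * Nat.card (two a b : Subgroup G) := hF.card_stab h.ne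
  rw [h1] at hsup
  have h2 : Nat.card K ∣ (Nat.card Ω - 1) * Nat.card P := by
    refine (Nat.mul_dvd_mul_iff_right (c := (K.subgroupOf M).relIndex ((two a b).subgroupOf M))
      (Nat.pos_of_ne_zero Subgroup.index_ne_zero_of_finite)).mp ?_
    rw [mul_assoc, mul_comm (Nat.card P), hD, ← hMc, mul_comm, hsup]
    exact hdvd
  rw [← hk, hoP, h.card_tGrp_suz hq, h.card_points_suz hq, Nat.add_sub_cancel] at h2
  refine (Nat.mul_dvd_mul_iff_right (c := Nat.card (hF.eGrp a) * (Nat.card (hF.eGrp a) * Nat.card (hF.eGrp a)) *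
    Nat.card (hF.uKer u a)) ?_).mp ?_
  · have := hF.four_le_card a
    have h4 : 0 < Nat.card (hF.uKer u a) := Nat.card_pos
    positivity
  · refine h2.trans (dvd_of_eq ?_)
    ring

/-- The number of full involutions at the point, when the kernel of the two points is that of `u`. -/
theorem Std.card_fulls (hP : two a b ⊓ hF.kGrp a = hF.uKer u a) :
    Nat.card {w : G // IsB Ω w ∧ w • a = a} * (Nat.card (hF.eGrp a) * Nat.card (hF.eGrp a)) =
      (Nat.card Ω - 1) * (Nat.card (hF.uKer u a) - 1) := by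
  classical
  haveI := finite_points hF.ctx.hyp
  haveI := Fintype.ofFinite {w : G // IsB Ω w ∧ w • a = a}
  haveI := Fintype.ofFinite {c : Ω // c ≠ a}
  have e : (Σ w : {w : G // IsB Ω w ∧ w • a = a}, {c : Ω // (w : G) • c = c ∧ c ≠ a}) ≃
      (Σ c : {c : Ω // c ≠ a}, {w : G // IsB Ω w ∧ w • a = a ∧ w • (c : Ω) = c}) :=
    { toFun := fun x => ⟨⟨x.2.1, x.2.2.2⟩, x.1.1, x.1.2.1, x.1.2.2, x.2.2.1⟩
      invFun := fun x => ⟨⟨x.2.1, x.2.2.1, x.2.2.2.1⟩, x.1.1, x.2.2.2.2, x.1.2⟩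
      left_inv := fun x => rfl
      right_inv := fun x => rfl }
  have h1 : ∀ w : {w : G // IsB Ω w ∧ w • a = a},
      Nat.card {c : Ω // (w : G) • c = c ∧ c ≠ a} = Nat.card (hF.eGrp a) * Nat.card (hF.eGrp a) := fun w => by
    show Nat.card ({c : Ω | (w : G) • c = c} \ {a} : Set Ω) = _
    rw [Nat.card_coe_set_eq, Set.ncard_diff_singleton_of_mem (s := {c : Ω | (w : G) • c = c}) w.2.2]
    have h3 : fixCard Ω (w : G) = Nat.card (hF.eGrp a) ^ 2 + 1 := (hF.fixCard_eq w.2.1 h.isB).trans hq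
    rw [fixCard] at h3
    rw [h3, Nat.add_sub_cancel, pow_two]
  have h2 : ∀ c : {c : Ω // c ≠ a}, Nat.card {w : G // IsB Ω w ∧ w • a = a ∧ w • (c : Ω) = c} =
      Nat.card (hF.uKer u a) - 1 := fun c => by
    obtain ⟨g, hga, hgc⟩ := hF.ctx.two_trans c.2 h.ne
    have hgi : g⁻¹ • a = a ∧ g⁻¹ • b = c := ⟨inv_smul_eq_iff.mpr hga.symm, inv_smul_eq_iff.mpr hgc.symm⟩
    have e2 : {w : G // IsB Ω w ∧ w • a = a ∧ w • (c : Ω) = c} ≃ {v : hF.uKer u a // v ≠ 1} :=
      { toFun := fun w => ⟨⟨g * w * g⁻¹, by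
            have h1 : (g * (w : G) * g⁻¹) • a = a := by
              have := smul_conj (g := g) w.2.2.1
              rwa [hga] at this
            have h2 : (g * (w : G) * g⁻¹) • b = b := by
              have := smul_conj (g := g) w.2.2.2
              rwa [hgc] at this
            rw [← hP]
            exact ⟨mem_two.mpr ⟨h1, h2⟩, hF.isB_mem_kGrp (w.2.1.conj g) h1⟩⟩,
          fun e => (w.2.1.conj g).1.1 (congrArg Subtype.val e)⟩
        invFun := fun v => ⟨g⁻¹ * (v.1 : G) * g, by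
          obtain ⟨hB, hva, hvb⟩ := h.isB_of_mem v.1.2 (fun e => v.2 (Subtype.ext e))
          have h1 := hB.conj g⁻¹
          rw [inv_inv] at h1
          refine ⟨h1, ?_, ?_⟩
          · rw [mul_smul, mul_smul, hga, hva, hgi.1]
          · rw [mul_smul, mul_smul, hgc, hvb, hgi.2]⟩
        left_inv := fun w => Subtype.ext (show g⁻¹ * (g * (w : G) * g⁻¹) * g = w by group)
        right_inv := fun v => Subtype.ext (Subtype.ext (show g * (g⁻¹ * (v.1 : G) * g) * g⁻¹ = v.1 by group)) }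
    haveI := Fintype.ofFinite (hF.uKer u a)
    rw [Nat.card_congr e2, Nat.card_eq_fintype_card, Fintype.card_subtype_compl, Fintype.card_subtype_eq,
      ← Nat.card_eq_fintype_card]
  have hc := Nat.card_congr e
  rw [Nat.card_sigma, Nat.card_sigma, Finset.sum_congr rfl fun w _ => h1 w,
    Finset.sum_congr rfl fun c _ => h2 c, Finset.sum_const, Finset.sum_const, Finset.card_univ,
    Finset.card_univ, ← Nat.card_eq_fintype_card, ← Nat.card_eq_fintype_card, smul_eq_mul, smul_eq_mul] at hc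
  rw [hc]
  congr 1
  haveI := Fintype.ofFinite Ω
  rw [Nat.card_eq_fintype_card, Fintype.card_subtype_compl, Fintype.card_subtype_eq, ← Nat.card_eq_fintype_card]

/-- The translation group is not the whole kernel. -/
theorem Std.kGrp_ne_tGrp (hK : hF.kGrp a = hF.tGrp u a) : False := by
  classical
  have hP : two a b ⊓ hF.kGrp a = hF.uKer u a := le_antisymm
    (fun x hx => hF.uKer_of_fix h.isB h.fix_a h.small
      (h.mem_uGrp_of_fix_right (hK ▸ hx.2) (mem_two.mp hx.1).2) h.fix_b h.ne (mem_two.mp hx.1).2)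
    h.uKer_maxP.le
  have hF1 := h.card_fulls hq hP
  set q := Nat.card (hF.eGrp a) with hqdef
  set A := Nat.card (hF.uKer u a) with hA
  have hA2 : 2 ≤ A := by
    haveI : Nontrivial (hF.uKer u a) := ⟨⟨⟨u, hF.self_mem_uKer h.isB h.fix_a⟩, 1, fun e =>
      h.isB.1.1 (congrArg Subtype.val e)⟩⟩
    exact Finite.one_lt_card
  -- the full involutions in the centraliser
  have hin : Nat.card {w : G // IsB Ω w ∧ w • a = a} ≤ q * (A - 1) + Nat.card h.Out := by
    haveI := Fintype.ofFinite (hF.uKer u a)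
    let f : (hF.eGrp a × {v : hF.uKer u a // v ≠ 1}) ⊕ h.Out → G := fun x =>
      x.elim (fun p => (p.2.1 : G) * p.1) fun w => w
    have hcov : ∀ w : {w : G // IsB Ω w ∧ w • a = a}, ∃ x, f x = w := fun w => by
      have hwt : (w : G) ∈ hF.tGrp u a := hK ▸ hF.isB_mem_kGrp w.2.1 w.2.2
      by_cases hw0 : (w : G) ∈ hF.uGrp u a
      · obtain ⟨e, he, v, hv, hv1, hwe⟩ := h.exists_mul w.2.1 hw0
        exact ⟨Sum.inl (⟨e, he⟩, ⟨⟨v, hv⟩, fun e => hv1 (congrArg Subtype.val e)⟩), hwe.symm⟩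
      · exact ⟨Sum.inr ⟨w, hwt, w.2.1.1.2, hw0⟩, rfl⟩
    choose x hx using hcov
    have := Nat.card_le_card_of_injective x fun w w' e => Subtype.ext (by rw [← hx w, ← hx w', e])
    rw [Nat.card_sum, Nat.card_prod, Nat.card_eq_fintype_card (α := {v : hF.uKer u a // v ≠ 1}),
      Fintype.card_subtype_compl, Fintype.card_subtype_eq, ← Nat.card_eq_fintype_card] at this
    exact this
  obtain ⟨hout, hfull⟩ := h.card_out hq
  rw [h.card_points_suz hq, Nat.add_sub_cancel, ← hqdef] at hF1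
  have h4 := hF.four_le_card a
  rw [← hqdef] at h4 hout hfull
  have hnum : Nat.card {w : G // IsB Ω w ∧ w • a = a} = q * (A - 1) + (q - 1) * (q * q) * (A - 1) := by
    refine Nat.eq_of_mul_eq_mul_right (Nat.mul_pos (show 0 < q by omega) (show 0 < q by omega)) ?_
    rw [hF1]
    ring
  have hA1 : A - 1 = 1 := by
    have h1 : (q - 1) * (q * q) * (A - 1) ≤ (q - 1) * (q * q) * 1 := by rw [mul_one]; omega
    have h2 := Nat.le_of_mul_le_mul_left h1
      (Nat.mul_pos (show 0 < q - 1 by omega) (Nat.mul_pos (show 0 < q by omega) (show 0 < q by omega)))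
    omega
  rw [hA1, mul_one, mul_one] at hnum
  rw [hA1, mul_one] at hin
  obtain ⟨m, hm, hm1⟩ := hF.exists_mem_eGrp_ne_one a
  obtain ⟨y, hym, hy⟩ := hfull (by omega) m hm hm1
  obtain ⟨hyK, m', hm', hmap⟩ := h.mem_tGrp.mp y.2.1
  obtain rfl := h.trans_unique hm hm' hym hmap
  have hu := hF.self_mem_uKer h.isB h.fix_a
  have hAu : ∀ v ∈ hF.uKer u a, v = 1 ∨ v = u := fun v hv => by
    by_contra hno
    push Not at hno
    have : 3 ≤ A := by
      rw [hA]
      refine le_trans ?_ (Nat.card_le_card_of_injective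
        (fun i : Fin 3 => (![1, ⟨u, hu⟩, ⟨v, hv⟩] i : hF.uKer u a)) ?_)
      · simp
      · intro i j hij
        have h1 := congrArg Subtype.val hij
        fin_cases i <;> fin_cases j <;>
          simp [h.isB.1.1, hno.1, hno.2, Ne.symm h.isB.1.1, Ne.symm hno.1, Ne.symm hno.2] at h1 ⊢
    omega
  have hconj : ∀ {x : G}, x ∈ hF.uGrp u a → (y : G) * x * (y : G)⁻¹ ∈ hF.uGrp u a := fun hx =>
    conj_mem_of_normalizer (hF.mem_nGrp.mp hyK.1).2 hx
  have hyE : ∀ {e : G}, e ∈ hF.eGrp a → (y : G) * e * (y : G)⁻¹ = e := fun he =>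
    mul_inv_eq_iff_eq_mul.mpr ((hF.mem_kGrp.mp hyK.2).2 _ he).symm
  have hz : ∀ {x : G}, x ∈ hF.uGrp u a → x⁻¹ * ((y : G) * x * (y : G)⁻¹) * (x⁻¹ * ((y : G) * x * (y : G)⁻¹)) = 1 :=
    fun hx => h.sq_class hq hx (hconj hx) (by rw [conj_mul, hyE (hF.uGrp_sq h.isB h.fix_a h.small hx)])
  -- the square of `y * x` is one or `m`
  have hphi : ∀ x ∈ hF.uGrp u a, (y : G) * x * ((y : G) * x) = 1 ∨ (y : G) * x * ((y : G) * x) = m := by
    intro x hx
    obtain ⟨w, hwd, hws⟩ := hy _ (hF.uGrp_sq h.isB h.fix_a h.small hx)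
    have hd2 := h.sq_class hq hx hwd hws.symm
    obtain ⟨e, he, v, hv, hd⟩ := hF.exists_mul_of_sq h.isB h.fix_a h.small (Subgroup.mul_mem _ (inv_mem hx) hwd) hd2
    have hw : (w : G) = y * x * (e * v) := by rw [← hd]; group
    have hev := Subgroup.mul_mem _ (hF.eGrp_le_uGrp h.isB h.fix_a he) (hF.uKer_le hv)
    obtain ⟨δ, hδ, hδv⟩ : ∃ δ, (δ = 1 ∨ δ = m) ∧ (y : G) * (e * v) * (y : G)⁻¹ = e * v * δ := by
      rcases hAu v hv with rfl | rfl
      · exact ⟨1, Or.inl rfl, by rw [mul_one, hyE he, mul_one]⟩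
      · refine ⟨m, Or.inr rfl, ?_⟩
        rw [← conj_mul, hyE he, h.tGrp_conj_uKer y.2.1 hm hmap hu h.isB.1.1 h.par_self, one_mul, inv_one, mul_one,
          mul_assoc]
    have hδE : δ ∈ hF.eGrp a := by
      rcases hδ with rfl | rfl
      · exact one_mem _
      · exact hm
    have h1 : (w : G) * w = (y : G) * x * ((y : G) * x) * δ := by
      have hc := h.central_of_sq hq hev (h.sq_of_dec hq he hv) hx
      have hδc : ∀ {z : G}, z ∈ hF.uGrp u a → δ * z = z * δ := fun hz => hF.uGrp_comm_eGrp hz hδE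
      rw [hw, show (y : G) * x * (e * v) * (y * x * (e * v)) = y * x * (e * v * y) * x * (e * v) by group,
        show e * v * (y : G) = y * ((y : G)⁻¹ * (e * v) * y) by group]
      have hyi : (y : G)⁻¹ = y := inv_eq_of_mul_eq_one_right y.2.2.1
      rw [hyi, show (y : G) * (e * v) * y = y * (e * v) * (y : G)⁻¹ by rw [hyi], hδv,
        show (y : G) * x * (y * (e * v * δ)) * x * (e * v) = y * x * y * (e * v * (δ * x)) * (e * v) by group,
        hδc hx, show (y : G) * x * y * (e * v * (x * δ)) * (e * v) = y * x * y * (e * v * x) * (δ * (e * v)) by group,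
        hc, hδc hev, show (y : G) * x * y * (x * (e * v)) * (e * v * δ) = y * x * (y * x) * ((e * v) * (e * v)) * δ by group,
        h.sq_of_dec hq he hv, mul_one]
    rw [w.2.2.1] at h1
    have h2 : (y : G) * x * ((y : G) * x) = δ := by
      rw [eq_comm, mul_eq_one_iff_eq_inv, inv_eq_of_mul_eq_one_right (hF.eGrp_sq hδE)] at h1
      exact h1
    rcases hδ with rfl | rfl
    · exact Or.inl h2
    · exact Or.inr h2
  obtain ⟨e0, he0, he01⟩ := hF.exists_mem_eGrp_ne_one a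
  obtain ⟨x, hx, hxe⟩ := h.exists_root hq he0
  refine h.no_line hq hx (hxe ▸ he01) (z := m) fun x' hx' => ?_
  have hsq : ∀ {x : G}, x ∈ hF.uGrp u a →
      (y : G) * x * ((y : G) * x) = x⁻¹ * ((y : G) * x * (y : G)⁻¹) * (x * x) := fun {x} hx => by
    have hzU := Subgroup.mul_mem _ (inv_mem hx) (hconj hx)
    calc (y : G) * x * ((y : G) * x) = x * (x⁻¹ * ((y : G) * x * (y : G)⁻¹)) * (y * y) * x := by group
      _ = (x * (x⁻¹ * ((y : G) * x * (y : G)⁻¹))) * x := by rw [y.2.2.1, mul_one]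
      _ = _ := by rw [← h.central_of_sq hq hzU (hz hx) hx]; group
  have hxx := Subgroup.mul_mem _ hx hx'
  have hz1 := Subgroup.mul_mem _ (inv_mem hx) (hconj hx)
  have hz2 := Subgroup.mul_mem _ (inv_mem hx') (hconj hx')
  have hzz : (x * x')⁻¹ * ((y : G) * (x * x') * (y : G)⁻¹) =
      x⁻¹ * ((y : G) * x * (y : G)⁻¹) * (x'⁻¹ * ((y : G) * x' * (y : G)⁻¹)) := by
    have hc := h.central_of_sq hq hz1 (hz hx) (inv_mem hx')
    calc (x * x')⁻¹ * ((y : G) * (x * x') * (y : G)⁻¹) =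
        x'⁻¹ * (x⁻¹ * ((y : G) * x * (y : G)⁻¹)) * ((y : G) * x' * (y : G)⁻¹) := by group
      _ = _ := by rw [← hc]; group
  have key : x * x' * x⁻¹ * x'⁻¹ = (y : G) * (x * x') * ((y : G) * (x * x')) *
      ((y : G) * x * ((y : G) * x)) * ((y : G) * x' * ((y : G) * x')) := by
    rw [hsq hxx, hsq hx, hsq hx', hzz]
    set z := x⁻¹ * ((y : G) * x * (y : G)⁻¹) with hzdef
    set z' := x'⁻¹ * ((y : G) * x' * (y : G)⁻¹) with hz'def
    have hzc : ∀ {p : G}, p ∈ hF.uGrp u a → z * p = p * z := fun hp => h.central_of_sq hq hz1 (hz hx) hp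
    have hz'c : ∀ {p : G}, p ∈ hF.uGrp u a → z' * p = p * z' := fun hp => h.central_of_sq hq hz2 (hz hx') hp
    have hxs := hF.uGrp_sq h.isB h.fix_a h.small hx
    have hx's := hF.uGrp_sq h.isB h.fix_a h.small hx'
    have hxxx := Subgroup.mul_mem _ hxx hxx
    rw [show z * z' * (x * x' * (x * x')) * (z * (x * x)) * (z' * (x' * x')) =
      z * (z' * (x * x' * (x * x') * (z * (x * x)))) * (z' * (x' * x')) by group,
      hz'c (Subgroup.mul_mem _ hxxx (Subgroup.mul_mem _ hz1 (Subgroup.mul_mem _ hx hx))),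
      show z * (x * x' * (x * x') * (z * (x * x)) * z') * (z' * (x' * x')) =
        (z * (x * x' * (x * x'))) * z * (x * x) * (z' * z') * (x' * x') by group,
      hz hx', mul_one, hzc hxxx, show x * x' * (x * x') * z * z * (x * x) * (x' * x') =
        x * x' * (x * x') * (z * z) * ((x * x) * (x' * x')) by group, hz hx, mul_one,
      hF.eGrp_comm hxs hx's, show x * x' * (x * x') * (x' * x' * (x * x)) =
        x * x' * x * x' * ((x' * x') * (x * x)) by group]
    rw [← inv_eq_of_mul_eq_one_right (hF.eGrp_sq hxs), ← inv_eq_of_mul_eq_one_right (hF.eGrp_sq hx's)]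
    have hcc : x'⁻¹ * (x * x)⁻¹ = (x * x)⁻¹ * x'⁻¹ := (hF.uGrp_comm_eGrp (inv_mem hx') (inv_mem hxs)).symm
    calc x * x' * x⁻¹ * x'⁻¹ = x * x' * x * ((x * x)⁻¹ * x'⁻¹) := by group
      _ = x * x' * x * (x'⁻¹ * (x * x)⁻¹) := by rw [hcc]
      _ = _ := by group
  rcases hphi x hx with e1 | e1 <;> rcases hphi x' hx' with e2 | e2 <;> rcases hphi _ hxx with e3 | e3 <;>
    rw [key, e1, e2, e3] <;> simp [hF.eGrp_sq hm]

end FCtx

end CfsgLib.Bender.Q
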