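import Cfsg.Agent.Lib.Bender.Q.Full.SuzukiTwo
import Cfsg.Agent.Lib.Bender.Q.Full.FrobAction

/-!
The case `f = q ^ 2`: the kernel at the point normalises the translation group only by itself.  An element of odd
order in the normaliser would give the torus too much room: `2 ^ (q - 1) ≤ 2 q ^ 2` forces `q = 8` and an element of
order 127, while the conjugates of the involution leave less than that.

Blueprint: `blueprint/bender/Q_VI.md` 6.
-/

set_option autoImplicit false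
set_option linter.unusedSectionVars false
set_option linter.style.haveILetI false
set_option linter.deprecated false

universe u

namespace CfsgLib.Bender.Q

open MulAction Cfsg
open CfsgLib.Bender.TwoClosed (IsInv two mem_two smul_conj MaxP exists_maxP mem_normalizer_of_conj
  conj_mem_of_normalizer)

/-- `2 ^ (2 ^ i - 1) ≤ 2 ^ (2 i + 1)` leaves at most three. -/
theorem le_three_of_two_pow {i : ℕ} (h : 2 ^ i ≤ 2 * i + 2) : i ≤ 3 := by
  by_contra hno
  have key : ∀ n, 4 ≤ n → 2 * n + 3 ≤ 2 ^ n := fun n hn => by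
    induction n, hn using Nat.le_induction with
    | base => norm_num
    | succ m hm ih => rw [pow_succ]; omega
  have := key i (by omega)
  omega

variable {G Ω : Type u} [Group G] [MulAction G Ω] {Z : Set G} [Finite G] [FaithfulSMul G Ω]

namespace FCtx

variable {hF : FCtx G Ω Z} {u : G} {a b : Ω} {T : Subgroup G} (h : hF.Std u a b T)
  (hq : fixCard Ω u = Nat.card (hF.eGrp a) ^ 2 + 1)
include h hq

/-- The conjugates of the involution bound the index of the translation group in a subgroup normalising it. -/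
theorem Std.norm_bound {N : Subgroup G} (htN : hF.tGrp u a ≤ N) (hNK : N ≤ hF.kGrp a)
    (hNn : N ≤ Subgroup.normalizer (hF.tGrp u a : Set G)) :
    (hF.tGrp u a).relIndex N * Nat.card (hF.eGrp a) ≤
      Nat.card (hF.eGrp a) * 2 + (Nat.card (hF.eGrp a) - 1) * (Nat.card (hF.eGrp a) * Nat.card (hF.eGrp a)) := by
  classical
  have hu := hF.self_mem_uKer h.isB h.fix_a
  have hut : u ∈ hF.tGrp u a := h.uGrp_le_tGrp (hF.uKer_le hu)
  rw [Subgroup.relIndex, Subgroup.index_eq_card, ← Nat.card_prod]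
  let g : (N ⧸ (hF.tGrp u a).subgroupOf N) → G := fun x => ((Quotient.out x : N) : G)
  have hgN : ∀ x, g x ∈ N := fun x => (Quotient.out x).2
  have hgt : ∀ x, g x * u * (g x)⁻¹ ∈ hF.tGrp u a := fun x => conj_mem_of_normalizer (hNn (hgN x)) hut
  let w : (N ⧸ (hF.tGrp u a).subgroupOf N) × hF.eGrp a → G := fun p => g p.1 * u * (g p.1)⁻¹ * (p.2 : G)
  have hwt : ∀ p, w p ∈ hF.tGrp u a := fun p =>
    Subgroup.mul_mem _ (hgt p.1) (h.uGrp_le_tGrp (hF.eGrp_le_uGrp h.isB h.fix_a p.2.2))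
  have hw2 : ∀ p, w p * w p = 1 := fun p => by
    have hk : g p.1 * u * (g p.1)⁻¹ ∈ hF.kGrp a := (h.mem_tGrp.mp (hgt p.1)).1.2
    show g p.1 * u * (g p.1)⁻¹ * (p.2 : G) * (g p.1 * u * (g p.1)⁻¹ * p.2) = 1
    rw [show g p.1 * u * (g p.1)⁻¹ * (p.2 : G) * (g p.1 * u * (g p.1)⁻¹ * p.2) =
      g p.1 * u * (g p.1)⁻¹ * ((p.2 : G) * (g p.1 * u * (g p.1)⁻¹)) * p.2 by group,
      (hF.mem_kGrp.mp hk).2 _ p.2.2,
      show g p.1 * u * (g p.1)⁻¹ * (g p.1 * u * (g p.1)⁻¹ * (p.2 : G)) * p.2 =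
        g p.1 * (u * u) * (g p.1)⁻¹ * (p.2 * p.2) by group,
      h.isB.1.2, hF.eGrp_sq p.2.2, mul_one, mul_one, mul_inv_cancel]
  have hinj : Function.Injective w := by
    rintro ⟨x, e⟩ ⟨x', e'⟩ hp
    have hp' : g x * u * (g x)⁻¹ * (e : G) = g x' * u * (g x')⁻¹ * e' := hp
    have hxx : x = x' := by
      set z := (g x')⁻¹ * g x with hz
      have hzN : z ∈ N := N.mul_mem (inv_mem (hgN x')) (hgN x)
      have h1 : z * u * z⁻¹ = u * ((e' : G) * (e : G)⁻¹) := by
        have hc : (g x')⁻¹ * ((e' : G) * (e : G)⁻¹) * g x' = (e' : G) * (e : G)⁻¹ := by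
          rw [mul_assoc, (hF.mem_kGrp.mp (hNK (hgN x'))).2 _ (mul_mem e'.2 (inv_mem e.2)), inv_mul_cancel_left]
        calc z * u * z⁻¹ = (g x')⁻¹ * (g x * u * (g x)⁻¹ * e) * (e : G)⁻¹ * g x' := by rw [hz]; group
          _ = u * ((g x')⁻¹ * ((e' : G) * (e : G)⁻¹) * g x') := by rw [hp']; group
          _ = _ := by rw [hc]
      have hzn : z ∈ hF.nGrp u a := h.mem_nGrp_of_conj (hF.mem_kGrp.mp (hNK hzN)).1 hu h.isB.1.1
        (h1 ▸ Subgroup.mul_mem _ (hF.uKer_le hu)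
          (hF.eGrp_le_uGrp h.isB h.fix_a (mul_mem e'.2 (inv_mem e.2))))
      have hzt : z ∈ hF.tGrp u a := h.tGrp_eq ▸ Subgroup.mem_inf.mpr ⟨hzn, hNK hzN⟩
      rw [← Quotient.out_eq x, ← Quotient.out_eq x']
      exact (QuotientGroup.eq (a := Quotient.out x') (b := Quotient.out x)).mpr hzt |>.symm
    subst hxx
    exact Prod.ext rfl (Subtype.ext (mul_left_cancel hp'))
  let f : (hF.eGrp a × hF.uKer u a) ⊕ h.Out → G := fun x => x.elim (fun p => (p.1 : G) * p.2) fun y => y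
  have hcov : ∀ p, ∃ x, f x = w p := fun p => by
    by_cases hw0 : w p ∈ hF.uGrp u a
    · obtain ⟨e, he, v, hv, hd⟩ := hF.exists_mul_of_sq h.isB h.fix_a h.small hw0 (hw2 p)
      exact ⟨Sum.inl (⟨e, he⟩, ⟨v, hv⟩), hd.symm⟩
    · exact ⟨Sum.inr ⟨w p, hwt p, hw2 p, hw0⟩, rfl⟩
  choose c hc using hcov
  have h1 := Nat.card_le_card_of_injective c fun p p' e => hinj (by rw [← hc p, ← hc p', e])
  rw [Nat.card_sum, Nat.card_prod (α := hF.eGrp a) (β := hF.uKer u a), h.card_uKer_suz hq] at h1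
  exact h1.trans (Nat.add_le_add_left (h.card_out hq).1 _)

/-- The kernel at the point normalises the translation group only by itself. -/
theorem Std.normalizer_tGrp_suz {g : G} (hgK : g ∈ hF.kGrp a)
    (hg : g ∈ Subgroup.normalizer (hF.tGrp u a : Set G)) : g ∈ hF.tGrp u a := by
  classical
  haveI : Fact (Nat.Prime 2) := ⟨Nat.prime_two⟩
  set U := hF.tGrp u a with hU
  set N := hF.kGrp a ⊓ Subgroup.normalizer (U : Set G) with hN
  have htN : U ≤ N := le_inf (fun x hx => (h.mem_tGrp.mp hx).1.2) Subgroup.le_normalizer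
  suffices hidx : U.relIndex N = 1 from Subgroup.relIndex_eq_one.mp hidx (Subgroup.mem_inf.mpr ⟨hgK, hg⟩)
  set q := Nat.card (hF.eGrp a) with hqdef
  have h8 : 8 ≤ q := h.eight_le hq
  obtain ⟨i, hi⟩ := hF.exists_pow_card_eGrp a
  have hqi : q = 2 ^ i := hi
  have hkodd : Odd (U.relIndex N) :=
    (h.odd_index_suz hq).of_dvd_nat (Dvd.intro _ (Subgroup.relIndex_mul_relIndex _ _ _ htN inf_le_left))
  have hJn : ∀ j ∈ jGrp Z a b, j ∈ Subgroup.normalizer (U : Set G) := fun j hj =>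
    h.nGrp_le_normalizer (h.jGrp_le_nGrp hj)
  have hJN : ∀ j ∈ jGrp Z a b, ∀ x ∈ N, j * x * j⁻¹ ∈ N := fun j hj x hx =>
    ⟨hF.kGrp_normal (hF.jGrp_fix h.ne hj).1 hx.1,
      Subgroup.mul_mem _ (Subgroup.mul_mem _ (hJn j hj) hx.2) (inv_mem (hJn j hj))⟩
  have hu := hF.self_mem_uKer h.isB h.fix_a
  have hut : u ∈ U := h.uGrp_le_tGrp (hF.uKer_le hu)
  have hP : ∀ x ∈ N, x • b = b → x ∈ hF.uKer u a := fun x hx hxb => by
    have hxa := (hF.mem_kGrp.mp hx.1).1
    refine h.mem_kerP (Subgroup.mem_inf.mpr ⟨mem_two.mpr ⟨hxa, hxb⟩, hx.1⟩) hu h.isB.1.1 ?_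
    refine h.mem_uGrp_of_fix_right (conj_mem_of_normalizer hx.2 hut) ?_
    rw [mul_smul, mul_smul, inv_smul_eq_iff.mpr hxb.symm, h.fix_b, hxb]
  have hmod := h.index_mod inf_le_left htN hJN fun x hx hxb => h.uGrp_le_tGrp (hF.uKer_le (hP x hx hxb))
  rw [← hU] at hmod
  by_contra hne
  obtain ⟨p, hp, hpk⟩ := Nat.exists_prime_and_dvd hne
  haveI := Fact.mk hp
  have hp2 : p ≠ 2 := fun e => Nat.not_even_iff_odd.mpr hkodd (even_iff_two_dvd.mpr (e ▸ hpk))
  have hJc : Nat.card (jGrp Z a b) = q - 1 := by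
    have := hF.card_jGrp (a := a) (b := b) h.ne
    omega
  have hNc : Nat.card N = U.relIndex N * Nat.card U := by
    rw [Subgroup.relIndex, ← Nat.card_congr (Subgroup.subgroupOfEquivOfLe htN).toEquiv, Subgroup.index_mul_card]
  have hJodd : Odd (Nat.card (jGrp Z a b)) := hF.odd_card_jGrp h.ne
  have hcop : (Nat.card (jGrp Z a b)).Coprime (Nat.card N) := by
    rw [hNc]
    refine Nat.Coprime.mul_right ?_ ?_
    · refine Nat.coprime_of_dvd fun r hr h1 h2 => hr.not_dvd_one ?_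
      have h3 := Nat.dvd_sub h2 (h1.trans hmod)
      rwa [Nat.sub_sub_self (Nat.one_le_iff_ne_zero.mpr fun e => by simp [e] at hkodd)] at h3
    · obtain ⟨t, ht⟩ := IsPGroup.iff_card.mp h.isPGroup_tGrp
      rw [show Nat.card U = 2 ^ t from ht]
      exact (Nat.coprime_two_right.mpr hJodd).pow_right t
  obtain ⟨Sy, -, hJS⟩ := CfsgLib.coprime_le_invariant_sylow
    (fun j hj => mem_normalizer_of_conj (hJN j hj) : jGrp Z a b ≤ Subgroup.normalizer (N : Set G)) hcop
    (Or.inl (Group.isSolvable_of_comm fun x y => Subtype.ext (hF.jGrp_comm h.ne x.2 y.2))) (p := p)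
    (bot_le : (⊥ : Subgroup G) ≤ _) IsPGroup.of_bot (fun j _ => mem_normalizer_of_conj fun x hx => by
      rw [Subgroup.mem_bot] at hx ⊢
      rw [hx, mul_one, mul_inv_cancel])
  set R1 := (Sy : Subgroup N).map N.subtype with hR1
  have hR1N : R1 ≤ N := Subgroup.map_subtype_le _
  obtain ⟨e, he⟩ := IsPGroup.iff_card.mp Sy.isPGroup'
  have hR1c : Nat.card R1 = p ^ e := by
    rw [← he]
    exact Subgroup.card_map_of_injective N.subtype_injective
  have he0 : e ≠ 0 := fun e0 => by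
    have h1 : p ∣ Nat.card N := hNc ▸ dvd_mul_of_dvd_left hpk _
    have h2 := Sy.card_eq_multiplicity
    rw [he, e0, pow_zero] at h2
    have h3 := hp.factorization_pos_of_dvd Nat.card_pos.ne' h1
    rcases Nat.pow_eq_one.mp h2.symm with h4 | h4
    · exact hp.ne_one h4
    · omega
  have hR1odd : Odd (Nat.card R1) := by rw [hR1c]; exact (hp.odd_of_ne_two hp2).pow
  haveI : Nontrivial R1 := Finite.one_lt_card_iff_nontrivial.mp (by
    rw [hR1c]
    exact Nat.one_lt_pow he0 hp.one_lt)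
  have hR1p : IsPGroup p R1 := Sy.isPGroup'.map _
  haveI := hR1p.center_nontrivial
  obtain ⟨z0, hz0⟩ := exists_ne (1 : Subgroup.center R1)
  set R := (Subgroup.center R1).map R1.subtype with hR
  have hRR1 : R ≤ R1 := Subgroup.map_subtype_le _
  have hRodd : Odd (Nat.card R) := hR1odd.of_dvd_nat (Subgroup.card_dvd_of_le hRR1)
  have hRne : R ≠ ⊥ := fun e => hz0 (Subtype.ext (Subtype.ext
    (Subgroup.mem_bot.mp (e ▸ (⟨_, z0.2, rfl⟩ : ((z0 : R1) : G) ∈ R)))))
  have hRmem : ∀ {x : G}, x ∈ R ↔ x ∈ R1 ∧ ∀ y ∈ R1, y * x = x * y := fun {x} => by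
    constructor
    · rintro ⟨z, hz, rfl⟩
      exact ⟨z.2, fun y hy => congrArg Subtype.val (Subgroup.mem_center_iff.mp hz ⟨y, hy⟩)⟩
    · rintro ⟨hx, hc⟩
      exact ⟨⟨x, hx⟩, Subgroup.mem_center_iff.mpr fun y => Subtype.ext (hc y y.2), rfl⟩
  have hRJ : ∀ j ∈ jGrp Z a b, ∀ x ∈ R, j * x * j⁻¹ ∈ R := fun j hj x hx => by
    obtain ⟨hx1, hc⟩ := hRmem.mp hx
    refine hRmem.mpr ⟨conj_mem_of_normalizer (hJS hj) hx1, fun y hy => ?_⟩
    have hy' : j⁻¹ * y * j⁻¹⁻¹ ∈ R1 := conj_mem_of_normalizer (hJS (inv_mem hj)) hy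
    calc y * (j * x * j⁻¹) = j * ((j⁻¹ * y * j⁻¹⁻¹) * x) * j⁻¹ := by group
      _ = j * x * j⁻¹ * y := by rw [hc _ hy']; group
  have hRfix : ∀ r ∈ R, r • b = b → r = 1 := fun r hr hrb => by
    have h2 : (⟨r, hr⟩ : R) ^ 2 = 1 := Subtype.ext (by
      rw [pow_two]
      exact hF.uKer_sq h.isB h.fix_a h.small (hP r (hR1N (hRR1 hr)) hrb))
    exact congrArg Subtype.val
      (CfsgLib.Bender.TwoClosed.eq_one_of_two_odd h2 (hRodd.of_dvd_nat (orderOf_dvd_natCard _)))
  -- the module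
  set L := stabilizer G a ⊓ Subgroup.normalizer (U : Set G) with hL
  set E' := (hF.eGrp a).subgroupOf U with hE'
  haveI : E'.Normal := ⟨fun x hx k => by
    have hx' : (x : G) ∈ hF.eGrp a := hx
    show (k : G) * x * (k : G)⁻¹ ∈ hF.eGrp a
    rw [← (hF.mem_kGrp.mp (h.mem_tGrp.mp k.2).1.2).2 _ hx', mul_inv_cancel_right]
    exact hx'⟩
  have hsq : ∀ x : U ⧸ E', x * x = 1 := fun x => by
    induction x using QuotientGroup.induction_on with
    | _ k => exact (QuotientGroup.eq_one_iff _).mpr (h.tGrp_sq_suz hq k.2)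
  letI : CommGroup (U ⧸ E') :=
    { (inferInstance : Group (U ⧸ E')) with
      mul_comm := fun x y => by
        rw [← inv_eq_of_mul_eq_one_right (hsq (x * y)), mul_inv_rev, inv_eq_of_mul_eq_one_right (hsq x),
          inv_eq_of_mul_eq_one_right (hsq y)] }
  let α : L → ((U ⧸ E') →* (U ⧸ E')) := fun g =>
    QuotientGroup.map E' E' (MonoidHom.mk' (fun k => ⟨(g : G) * k * (g : G)⁻¹, conj_mem_of_normalizer g.2.2 k.2⟩)
      fun k k' => Subtype.ext (by
        show (g : G) * (k * k' : G) * (g : G)⁻¹ = g * k * (g : G)⁻¹ * (g * k' * (g : G)⁻¹)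
        group))
      fun k hk => by
        show (g : G) * k * (g : G)⁻¹ ∈ hF.eGrp a
        have h1 := hF.eGrp_conj (g := (g : G)) hk
        rwa [mem_stabilizer_iff.mp g.2.1] at h1
  have hαm : ∀ g g' : L, α (g * g') = (α g).comp (α g') := fun g g' => MonoidHom.ext fun x => by
    induction x using QuotientGroup.induction_on with
    | _ k => exact congrArg QuotientGroup.mk (Subtype.ext (show (g * g' : G) * (k : G) * (g * g' : G)⁻¹ =
        (g : G) * ((g' : G) * k * (g' : G)⁻¹) * (g : G)⁻¹ by group))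
  have hα1 : α 1 = MonoidHom.id _ := MonoidHom.ext fun x => by
    induction x using QuotientGroup.induction_on with
    | _ k => exact congrArg QuotientGroup.mk (Subtype.ext (show (1 : G) * (k : G) * (1 : G)⁻¹ = k by group))
  let ρ : L →* MulAut (U ⧸ E') := MonoidHom.mk'
    (fun g => MonoidHom.toMulEquiv (α g) (α g⁻¹) (by rw [← hαm, inv_mul_cancel, hα1])
      (by rw [← hαm, mul_inv_cancel, hα1]))
    fun g g' => MulEquiv.ext fun x => DFunLike.congr_fun (hαm g g') x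
  have hRL : R ≤ L := fun r hr => ⟨mem_stabilizer_iff.mpr (hF.mem_kGrp.mp (hR1N (hRR1 hr)).1).1, (hR1N (hRR1 hr)).2⟩
  have hJL : jGrp Z a b ≤ L := fun j hj => ⟨mem_stabilizer_iff.mpr (hF.jGrp_fix h.ne hj).1, hJn j hj⟩
  haveI : Nontrivial (jGrp Z a b) := Finite.one_lt_card_iff_nontrivial.mp (by omega)
  obtain ⟨j1, hj1⟩ := exists_ne (1 : jGrp Z a b)
  have hVc : Nat.card (U ⧸ E') = q * q * 2 := by
    have h1 := Subgroup.card_eq_card_quotient_mul_card_subgroup E'
    rw [Nat.card_congr (Subgroup.subgroupOfEquivOfLe (h.uGrp_le_tGrp.trans' (hF.eGrp_le_uGrp h.isB h.fix_a))).toEquiv,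
      show Nat.card U = _ from h.card_tGrp_suz hq, h.card_uKer_suz hq, ← hqdef] at h1
    refine Nat.eq_of_mul_eq_mul_right (show 0 < q by omega) ?_
    rw [← h1]
    ring
  obtain ⟨hb, heq⟩ := Frob.action_bound hsq ρ (R := R.subgroupOf L) (J := (jGrp Z a b).subgroupOf L)
    (fun r hr s hs => Subtype.ext ((hRmem.mp hs).2 _ (hRR1 hr)))
    (fun e => hRne (by rw [Subgroup.subgroupOf_eq_bot, disjoint_iff, inf_eq_left.mpr hRL] at e; exact e))
    (by rwa [Nat.card_congr (Subgroup.subgroupOfEquivOfLe hRL).toEquiv])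
    (fun i hi j hj => Subtype.ext (hF.jGrp_comm h.ne hi hj))
    (fun j hj r hr => hRJ _ hj _ hr)
    (fun j hj hj0 r hr hjr => by
      have hrK : (r : G) ∈ hF.kGrp a := (hR1N (hRR1 hr)).1
      have hjJ : (j : G) ∈ jGrp Z a b := hj
      obtain ⟨hja, hjb⟩ := hF.jGrp_fix h.ne hjJ
      rcases hF.jGrp_fix_only h.ne hjJ (fun e => hj0 (Subtype.ext e)) (g := (r : G) • b)
        (by rw [← mul_smul, show (j : G) * r = r * j from congrArg Subtype.val hjr, mul_smul, hjb]) with h2 | h2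
      · exact absurd (smul_left_cancel (r : G) (h2.trans (hF.mem_kGrp.mp hrK).1.symm)) h.ne
      · exact Subtype.ext (hRfix _ hr h2))
    (fun r hr hr1 => by
      have hrK : (r : G) ∈ hF.kGrp a := (hR1N (hRR1 hr)).1
      have h1 : (QuotientGroup.mk (⟨(r : G) * u * (r : G)⁻¹, conj_mem_of_normalizer r.2.2 hut⟩ : U) : U ⧸ E') =
          QuotientGroup.mk ⟨u, hut⟩ := DFunLike.congr_fun hr1 (QuotientGroup.mk (⟨u, hut⟩ : U))
      have h2' := QuotientGroup.eq.mp h1
      have h2 : ((r : G) * u * (r : G)⁻¹)⁻¹ * u ∈ hF.eGrp a := h2' 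
      set d := ((r : G) * u * (r : G)⁻¹)⁻¹ * u with hd
      have hd' : (r : G) * u * (r : G)⁻¹ = u * d⁻¹ := by rw [hd]; group
      have hrd : (r : G) * d⁻¹ * (r : G)⁻¹ = d⁻¹ :=
        mul_inv_eq_iff_eq_mul.mpr ((hF.mem_kGrp.mp hrK).2 _ (inv_mem h2)).symm
      have hpow : ∀ n : ℕ, (r : G) ^ n * u * ((r : G) ^ n)⁻¹ = u * d⁻¹ ^ n := by
        intro n
        induction n with
        | zero => simp
        | succ n ih =>
          calc (r : G) ^ (n + 1) * u * ((r : G) ^ (n + 1))⁻¹ =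
              (r : G) * ((r : G) ^ n * u * ((r : G) ^ n)⁻¹) * (r : G)⁻¹ := by rw [pow_succ']; group
            _ = (r : G) * (u * d⁻¹ ^ n) * (r : G)⁻¹ := by rw [ih]
            _ = (r : G) * u * (r : G)⁻¹ * ((r : G) * d⁻¹ * (r : G)⁻¹) ^ n := by rw [← conj_mul, conj_pow]
            _ = u * d⁻¹ ^ (n + 1) := by rw [hrd, hd', mul_assoc, ← pow_succ']
      have hd1 : d⁻¹ = 1 := by
        obtain ⟨m, hm⟩ := hRodd.of_dvd_nat (Subgroup.orderOf_dvd_natCard _ hr : orderOf (r : G) ∣ _)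
        have h3 := hpow (2 * m + 1)
        rw [← hm, pow_orderOf_eq_one, inv_one, one_mul, mul_one, hm, pow_succ, pow_mul, pow_two,
          hF.eGrp_sq (inv_mem h2), one_pow, one_mul] at h3
        exact left_eq_mul.mp h3
      rw [hd1, mul_one, mul_inv_eq_iff_eq_mul] at hd'
      exact Subtype.ext (hF.eq_one_of_odd h.isB h.fix_a h.small (hF.mem_uGrp.mpr ⟨hrK, hd'.symm⟩)
        (hRodd.of_dvd_nat (Subgroup.orderOf_dvd_natCard _ hr))))
    (w := QuotientGroup.mk ⟨u, hut⟩)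
    (fun j hj => congrArg QuotientGroup.mk (Subtype.ext (show (j : G) * u * (j : G)⁻¹ = u by
      rw [← hF.commute_jGrp h.ne h.isB h.fix_a h.fix_b (show (j : G) ∈ jGrp Z a b from hj), mul_inv_cancel_right])))
    (fun v hv => by
      induction v using QuotientGroup.induction_on with
      | _ x =>
        have h1 : (QuotientGroup.mk (⟨(j1 : G) * x * (j1 : G)⁻¹, conj_mem_of_normalizer (hJn j1 j1.2) x.2⟩ : U) :
            U ⧸ E') = QuotientGroup.mk x := hv ⟨j1, hJL j1.2⟩ j1.2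
        have h2' := QuotientGroup.eq.mp h1
        have h2 : ((j1 : G) * (x : G) * (j1 : G)⁻¹)⁻¹ * x ∈ hF.eGrp a := h2' 
        have h3 := inv_mem h2
        rw [mul_inv_rev, inv_inv] at h3
        rcases h.fixed_suz hq x.2 j1.2 (fun e => hj1 (Subtype.ext e)) h3 with h4 | h4
        · exact Or.inl ((QuotientGroup.eq_one_iff _).mpr h4)
        · refine Or.inr (QuotientGroup.eq.mpr ?_)
          show (x : G)⁻¹ * u ∈ hF.eGrp a
          have h5 : (x : G)⁻¹ * u = ((x : G) * x)⁻¹ * ((x : G) * u) := by group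
          rw [h5]
          exact mul_mem (inv_mem (h.tGrp_sq_suz hq x.2)) h4)
  rw [Nat.card_congr (Subgroup.subgroupOfEquivOfLe hJL).toEquiv, hJc] at hb heq
  rw [hVc] at hb heq
  have hq8 : q = 8 := by
    rw [hqi, ← pow_add, ← pow_succ] at hb
    have h1 := (Nat.pow_le_pow_iff_right (le_refl 2)).mp hb
    have h2 := le_three_of_two_pow (i := i) (by omega)
    have h3 : q ≤ 2 ^ 3 := hqi ▸ Nat.pow_le_pow_right two_pos h2
    norm_num at h3
    omega
  obtain ⟨r, hr, hr1⟩ : ∃ r ∈ R, r ≠ 1 := by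
    by_contra hno
    push Not at hno
    exact hRne ((Subgroup.eq_bot_iff_forall R).mpr hno)
  have h127 : r ^ 127 = 1 := by
    have h1 := congrArg (fun z : L => (z : G))
      (heq (by rw [hq8]; norm_num) ⟨r, hRL hr⟩ hr)
    rw [hq8] at h1
    exact h1
  have hord : orderOf r = 127 := orderOf_eq_prime (hp := ⟨by norm_num⟩) h127 hr1
  have hdvd : 127 ∣ U.relIndex N := by
    have h1 : orderOf r ∣ U.relIndex N * Nat.card U :=
      hNc ▸ Subgroup.orderOf_dvd_natCard _ (hR1N (hRR1 hr))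
    obtain ⟨t, ht⟩ := IsPGroup.iff_card.mp h.isPGroup_tGrp
    rw [hord, show Nat.card U = 2 ^ t from ht] at h1
    exact (Nat.Coprime.pow_right t (by norm_num : Nat.Coprime 127 2)).dvd_of_dvd_mul_right h1
  have hbd := h.norm_bound hq htN inf_le_left inf_le_right
  rw [← hU, ← hqdef, hq8] at hbd
  have := Nat.le_of_dvd hkodd.pos hdvd
  omega

end FCtx

end CfsgLib.Bender.Q
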