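import Cfsg.Agent.Lib.Bender.Q.Full.SuzukiBig

/-!
The case `f = q ^ 2` with a kernel of order two: the squares of the translation group are members, the torus fixes
only the class of the involution modulo the members, and a Sylow subgroup at the point is the product of the
translation group and a Sylow subgroup of the two points.

Blueprint: `blueprint/bender/Q_VI.md` 6.
-/

set_option autoImplicit false
set_option linter.unusedSectionVars false
set_option linter.style.haveILetI false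
set_option linter.deprecated false

universe u

namespace CfsgLib.Bender.Q

open MulAction Cfsg
open CfsgLib.Bender.TwoClosed (IsInv two mem_two smul_conj MaxP exists_maxP mem_normalizer_of_conj
  conj_mem_of_normalizer)

variable {G Ω : Type u} [Group G] [MulAction G Ω] {Z : Set G} [Finite G] [FaithfulSMul G Ω]

namespace FCtx

variable {hF : FCtx G Ω Z} {u : G} {a b : Ω} {T : Subgroup G} (h : hF.Std u a b T)
  (hq : fixCard Ω u = Nat.card (hF.eGrp a) ^ 2 + 1)
include h hq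

/-- The squares of the translation group are members. -/
theorem Std.tGrp_sq_suz {y : G} (hy : y ∈ hF.tGrp u a) : y * y ∈ hF.eGrp a := by
  obtain ⟨hyK, m, hm, hmap⟩ := h.mem_tGrp.mp hy
  by_cases hm1 : m = 1
  · refine hF.uGrp_sq h.isB h.fix_a h.small (h.mem_uGrp_of_fix hyK.1 hyK.2 ?_)
    have h1 := hmap 1 (one_mem _)
    rwa [hm1, one_mul] at h1
  have hA := h.uKer_two_suz hq
  have hu := hF.self_mem_uKer h.isB h.fix_a
  set r := y * y with hr
  have hrU : r ∈ hF.uGrp u a := h.tGrp_sq hy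
  have hconj : ∀ {x : G}, x ∈ hF.uGrp u a → y * x * y⁻¹ ∈ hF.uGrp u a := fun hx =>
    conj_mem_of_normalizer (hF.mem_nGrp.mp hyK.1).2 hx
  have hyE : ∀ {e : G}, e ∈ hF.eGrp a → y * e * y⁻¹ = e := fun he =>
    mul_inv_eq_iff_eq_mul.mpr ((hF.mem_kGrp.mp hyK.2).2 _ he).symm
  have hdec : ∀ {c : G}, c ∈ hF.uGrp u a → c * c = 1 → ∀ {d : G}, y * c * y⁻¹ = c * d →
      d = 1 ∨ d = m := by
    intro c hc hc2 d hd
    obtain ⟨e, he, v, hv, rfl⟩ := hF.exists_mul_of_sq h.isB h.fix_a h.small hc hc2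
    rcases hA v hv with rfl | rfl
    · rw [mul_one, hyE he] at hd
      exact Or.inl (left_eq_mul.mp hd)
    · rw [← conj_mul, hyE he, h.tGrp_conj_uKer hy hm hmap hu h.isB.1.1 h.par_self, one_mul, inv_one,
        mul_one, mul_assoc e v d] at hd
      exact Or.inr (mul_left_cancel (mul_left_cancel hd)).symm
  have hline : ∀ x ∈ hF.uGrp u a, r * x * r⁻¹ * x⁻¹ = 1 ∨ r * x * r⁻¹ * x⁻¹ = m := by
    intro x hx
    have hcU := Subgroup.mul_mem _ (inv_mem hx) (hconj hx)
    set c := x⁻¹ * (y * x * y⁻¹) with hc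
    have hc2 : c * c = 1 :=
      h.sq_class hq hx (hconj hx) (by rw [conj_mul, hyE (hF.uGrp_sq h.isB h.fix_a h.small hx)])
    set δ := c⁻¹ * (y * c * y⁻¹) with hδ
    have hyc : y * c * y⁻¹ = c * δ := by rw [hδ, mul_inv_cancel_left]
    have hδ' := hdec hcU hc2 hyc
    have hδc : δ * x = x * δ := by
      rcases hδ' with e | e <;> rw [e]
      · rw [one_mul, mul_one]
      · exact hF.uGrp_comm_eGrp hx hm
    have hxc : y * x * y⁻¹ = x * c := by rw [hc, mul_inv_cancel_left]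
    have h1 : r * x * r⁻¹ = x * δ := by
      rw [hr, show y * y * x * (y * y)⁻¹ = y * (y * x * y⁻¹) * y⁻¹ by group, hxc, ← conj_mul, hxc, hyc,
        show x * c * (c * δ) = x * (c * c) * δ by group, hc2, mul_one]
    have h2 : r * x * r⁻¹ * x⁻¹ = δ := by rw [h1, ← hδc, mul_inv_cancel_right]
    rw [h2]
    exact hδ'
  by_cases hr2 : r * r = 1
  · obtain ⟨e, he, v, hv, hrd⟩ := hF.exists_mul_of_sq h.isB h.fix_a h.small hrU hr2
    rcases hA v hv with rfl | rfl
    · rw [hrd, mul_one]; exact he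
    · exfalso
      have h1 : y * r * y⁻¹ = r := by rw [hr]; group
      rw [hrd, ← conj_mul, hyE he, h.tGrp_conj_uKer hy hm hmap hu h.isB.1.1 h.par_self, one_mul, inv_one,
        mul_one] at h1
      exact hm1 (mul_eq_left.mp (mul_left_cancel h1))
  · exact (h.no_line hq hrU hr2 hline).elim

/-- The commutators of the translation group are members. -/
theorem Std.tGrp_commutator_suz {x y : G} (hx : x ∈ hF.tGrp u a) (hy : y ∈ hF.tGrp u a) :
    x * y * x⁻¹ * y⁻¹ ∈ hF.eGrp a := by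
  have hxE := h.tGrp_sq_suz hq hx
  have hyE := h.tGrp_sq_suz hq hy
  have hc : (x * x)⁻¹ * y = y * (x * x)⁻¹ := (hF.mem_kGrp.mp (h.mem_tGrp.mp hy).1.2).2 _ (inv_mem hxE)
  have key : x * y * x⁻¹ * y⁻¹ = x * y * (x * y) * ((x * x)⁻¹ * (y * y)⁻¹) := by
    rw [show x * y * (x * y) * ((x * x)⁻¹ * (y * y)⁻¹) = x * y * x * (y * (x * x)⁻¹) * (y * y)⁻¹ by group, ← hc]
    group
  rw [key]
  exact mul_mem (h.tGrp_sq_suz hq (Subgroup.mul_mem _ hx hy)) (mul_mem (inv_mem hxE) (inv_mem hyE))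

/-- The torus fixes only the class of the involution in the translation group modulo the members. -/
theorem Std.fixed_suz {x j : G} (hx : x ∈ hF.tGrp u a) (hj : j ∈ jGrp Z a b) (hj1 : j ≠ 1)
    (hfix : x⁻¹ * (j * x * j⁻¹) ∈ hF.eGrp a) : x ∈ hF.eGrp a ∨ x * u ∈ hF.eGrp a := by
  obtain ⟨hxK, m, hm, hmap⟩ := h.mem_tGrp.mp hx
  set e := x⁻¹ * (j * x * j⁻¹) with he
  have hxe : j * x * j⁻¹ = x * e := by rw [he, mul_inv_cancel_left]
  have hm1 : m = 1 := by
    have h1 := ((h.maps_jGrp (x := (1 : G)) (inv_mem hj)).mul (hmap _ (h.conj_eGrp (inv_mem hj) (one_mem _)))).mul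
      (h.maps_jGrp (x := m * (j⁻¹ * 1 * j⁻¹⁻¹)) hj)
    rw [← mul_assoc, show j * (m * (j⁻¹ * 1 * j⁻¹⁻¹)) * j⁻¹ = j * m * j⁻¹ by group, hxe] at h1
    have h2 := (h.maps_uGrp (hF.eGrp_le_uGrp h.isB h.fix_a hfix) (one_mem _)).mul (hmap 1 (one_mem _))
    rw [mul_one] at h2
    have h3 := h.maps_unique (h.conj_eGrp hj hm) hm h1 h2
    by_contra hne
    exact hj1 (hF.jGrp_free h.ne hj hm hne (mul_inv_eq_iff_eq_mul.mp h3))
  have hxU : x ∈ hF.uGrp u a := h.mem_uGrp_of_fix hxK.1 hxK.2 (by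
    have h1 := hmap 1 (one_mem _)
    rwa [hm1, one_mul] at h1)
  have hsq : j * (x * x) * j⁻¹ = x * x := by
    rw [← conj_mul, hxe, show x * e * (x * e) = x * (e * x) * e by group, hF.uGrp_comm_eGrp hxU hfix,
      show x * (x * e) * e = x * x * (e * e) by group, hF.eGrp_sq hfix, mul_one]
  have hx2 : x * x = 1 := by
    by_contra hne
    exact hj1 (hF.jGrp_free h.ne hj (hF.uGrp_sq h.isB h.fix_a h.small hxU) hne (mul_inv_eq_iff_eq_mul.mp hsq))
  obtain ⟨d, hd, v, hv, rfl⟩ := hF.exists_mul_of_sq h.isB h.fix_a h.small hxU hx2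
  rcases h.uKer_two_suz hq v hv with rfl | rfl
  · exact Or.inl (by rwa [mul_one])
  · exact Or.inr (by rwa [mul_assoc, h.isB.1.2, mul_one])

theorem Std.odd_index_suz : Odd ((hF.tGrp u a).relIndex (hF.kGrp a)) := by
  obtain ⟨-, o, ho, -, hdvd⟩ := h.index_facts hq
  refine (Odd.mul (Even.add_one (Even.mul_right ?_ _)) ho).of_dvd_nat hdvd
  obtain ⟨i, hi⟩ := hF.exists_pow_card_eGrp a
  have h4 := hF.four_le_card a
  rw [hi] at h4 ⊢
  refine Nat.even_pow.mpr ⟨even_two, fun e => ?_⟩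
  rw [e] at h4
  omega

/-- A Sylow subgroup at the point meets the kernel in the translation group. -/
theorem Std.sylow_inf_kGrp {S : Subgroup G} (hS : MaxP 2 (stabilizer G a) S) (htS : hF.tGrp u a ≤ S) :
    S ⊓ hF.kGrp a = hF.tGrp u a := by
  haveI : Fact (Nat.Prime 2) := ⟨Nat.prime_two⟩
  have hle : hF.tGrp u a ≤ S ⊓ hF.kGrp a := le_inf htS fun x hx => (h.mem_tGrp.mp hx).1.2
  refine le_antisymm (Subgroup.relIndex_eq_one.mp ?_) hle
  obtain ⟨i, hi⟩ := IsPGroup.iff_card.mp (hS.isPGroup.to_le (inf_le_left : S ⊓ hF.kGrp a ≤ S))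
  have h1 : (hF.tGrp u a).relIndex (S ⊓ hF.kGrp a) ∣ 2 ^ i := hi ▸ Subgroup.index_dvd_card _
  have h2 : (hF.tGrp u a).relIndex (S ⊓ hF.kGrp a) ∣ (hF.tGrp u a).relIndex (hF.kGrp a) :=
    Dvd.intro _ (Subgroup.relIndex_mul_relIndex _ _ _ hle inf_le_right)
  exact Nat.eq_one_of_dvd_coprimes (Nat.Coprime.pow_left i (Nat.coprime_two_left.mpr (h.odd_index_suz hq))) h1 h2

/-- A Sylow subgroup at the point is the product of the translation group and `T`. -/
theorem Std.sylow_dec_suz {S : Subgroup G} (hS : MaxP 2 (stabilizer G a) S) (hTS : T ≤ S)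
    (htS : hF.tGrp u a ≤ S) {s : G} (hs : s ∈ S) : ∃ k ∈ hF.tGrp u a, k⁻¹ * s ∈ T := by
  haveI : Fact (Nat.Prime 2) := ⟨Nat.prime_two⟩
  haveI := finite_points hF.ctx.hyp
  set q := Nat.card (hF.eGrp a) with hqdef
  have hSa : ∀ {x : G}, x ∈ S → x • a = a := fun hx => mem_stabilizer_iff.mp (hS.le hx)
  have hSb : S ⊓ two a b = T := h.maxP.eq_of_le (hS.isPGroup.to_le inf_le_left) inf_le_right
    (le_inf hTS h.maxP.le)
  -- the orbit of the translation group
  have hUo : q * (q * q) ≤ Nat.card (orbit (hF.tGrp u a) b) := by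
    have h1 : Nat.card (orbit (hF.tGrp u a) b) * Nat.card (stabilizer (hF.tGrp u a) b) = Nat.card (hF.tGrp u a) := by
      rw [← Nat.card_prod]
      exact Nat.card_congr (MulAction.orbitProdStabilizerEquivGroup (hF.tGrp u a) b)
    have h2 : Nat.card (stabilizer (hF.tGrp u a) b) ≤ 2 := by
      rw [← h.card_uKer_suz hq]
      refine Nat.card_le_card_of_injective (fun x => (⟨((x : hF.tGrp u a) : G), ?_⟩ : hF.uKer u a)) ?_
      · have hxb : ((x : hF.tGrp u a) : G) • b = b := mem_stabilizer_iff.mp x.2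
        exact hF.uKer_of_fix h.isB h.fix_a h.small (h.mem_uGrp_of_fix_right x.1.2 hxb) h.fix_b h.ne hxb
      · intro x y e
        exact Subtype.ext (Subtype.ext (congrArg Subtype.val e :))
    rw [h.card_tGrp_suz hq, h.card_uKer_suz hq, ← hqdef] at h1
    have h3 := Nat.mul_le_mul_left (Nat.card (orbit (hF.tGrp u a) b)) h2
    omega
  -- the orbit of the Sylow subgroup
  have hSo : Nat.card (orbit S b) ≤ q * (q * q) := by
    have h1 : Nat.card (orbit S b) * Nat.card (stabilizer S b) = Nat.card S := by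
      rw [← Nat.card_prod]
      exact Nat.card_congr (MulAction.orbitProdStabilizerEquivGroup S b)
    have h2 : Nat.card (stabilizer S b) = Nat.card T := by
      refine Nat.card_congr
        { toFun := fun x => ⟨((x : S) : G), hSb ▸ Subgroup.mem_inf.mpr
            ⟨x.1.2, mem_two.mpr ⟨hSa x.1.2, mem_stabilizer_iff.mp x.2⟩⟩⟩
          invFun := fun x => ⟨⟨x, hTS x.2⟩, mem_stabilizer_iff.mpr (mem_two.mp (h.maxP.le x.2)).2⟩
          left_inv := fun x => rfl
          right_inv := fun x => rfl }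
    obtain ⟨Sy, hSy⟩ := h.maxP.sylow
    have hD : Nat.card (two a b : Subgroup G) = Nat.card T * (Sy : Subgroup (two a b : Subgroup G)).index := by
      rw [← (Sy : Subgroup (two a b : Subgroup G)).card_mul_index, hSy,
        Nat.card_congr (Subgroup.subgroupOfEquivOfLe h.maxP.le).toEquiv]
    have hodd : Odd (Sy : Subgroup (two a b : Subgroup G)).index := by
      rw [Nat.odd_iff, ← Nat.two_dvd_ne_zero]
      exact Sy.not_dvd_index
    have h3 : Nat.card S ∣ Nat.card (stabilizer G a) := Subgroup.card_dvd_of_le hS.le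
    rw [← h1, h2, hF.card_stab h.ne, h.card_points_suz hq, Nat.add_sub_cancel, hD, ← hqdef,
      show q * q * q * (q * (q - 1) + 1) * (Nat.card T * (Sy : Subgroup (two a b : Subgroup G)).index) =
        q * (q * q) * ((q * (q - 1) + 1) * (Sy : Subgroup (two a b : Subgroup G)).index) * Nat.card T by ring] at h3
    have h4 := Nat.dvd_of_mul_dvd_mul_right Nat.card_pos h3
    obtain ⟨t, ht⟩ := hS.isPGroup.card_orbit b
    obtain ⟨i, hi⟩ := hF.exists_pow_card_eGrp a
    have h5 : Odd ((q * (q - 1) + 1) * (Sy : Subgroup (two a b : Subgroup G)).index) := by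
      refine Odd.mul (Even.add_one (Even.mul_right ?_ _)) hodd
      have h4' := hF.four_le_card a
      rw [hqdef, hi]
      refine Nat.even_pow.mpr ⟨even_two, fun e => ?_⟩
      rw [hi, e] at h4'
      omega
    rw [ht] at h4 ⊢
    refine Nat.le_of_dvd (Nat.mul_pos ?_ (Nat.mul_pos ?_ ?_))
      ((Nat.Coprime.pow_left t (Nat.coprime_two_left.mpr h5)).dvd_of_dvd_mul_right h4) <;>
    · have := hF.four_le_card a
      omega
  have hsub : orbit (hF.tGrp u a) b ⊆ orbit S b := by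
    rintro _ ⟨k, rfl⟩
    exact ⟨⟨k, htS k.2⟩, rfl⟩
  have heq : orbit (hF.tGrp u a) b = orbit S b := by
    refine Set.eq_of_subset_of_ncard_le hsub ?_ (Set.toFinite _)
    rw [← Nat.card_coe_set_eq, ← Nat.card_coe_set_eq]
    exact hSo.trans hUo
  obtain ⟨k, hk⟩ : s • b ∈ orbit (hF.tGrp u a) b := heq.ge ⟨⟨s, hs⟩, rfl⟩
  have hk' : (k : G) • b = s • b := hk
  refine ⟨k, k.2, hSb ▸ Subgroup.mem_inf.mpr ⟨Subgroup.mul_mem _ (inv_mem (htS k.2)) hs, mem_two.mpr ⟨?_, ?_⟩⟩⟩
  · exact hSa (Subgroup.mul_mem _ (inv_mem (htS k.2)) hs)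
  · rw [mul_smul, ← hk', inv_smul_smul]

end FCtx

end CfsgLib.Bender.Q
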