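import Cfsg.Agent.Lib.Bender.Q.Full.Image
import Cfsg.Agent.S1131

/-!
The torus of two points: the products of two members exchanging them form a cyclic group, normal in their stabiliser,
regular on the members at either point and centralised by the full involutions fixing both.

Blueprint: `blueprint/bender/Q_VI.md` 0.
-/

set_option autoImplicit false
set_option linter.unusedSectionVars false
set_option linter.style.haveILetI false

universe u

namespace CfsgLib.Bender.Q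

open MulAction Cfsg CfsgLib.SuzukiRankOne
open CfsgLib.Bender.TwoClosed (IsInv two mem_two smul_conj)

variable {G Ω : Type u} [Group G] [MulAction G Ω] {Z : Set G}

/-- The group generated by the products of two members mapping `a` to `b`. -/
def jGrp (Z : Set G) (a b : Ω) : Subgroup G :=
  Subgroup.closure {x | ∃ w ∈ Z, ∃ w' ∈ Z, w • a = b ∧ w' • a = b ∧ x = w * w'}

theorem swap_mul_mem_jGrp {a b : Ω} {w w' : G} (hw : w ∈ Z) (hw' : w' ∈ Z) (hwa : w • a = b) (hw'a : w' • a = b) :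
    w * w' ∈ jGrp Z a b := Subgroup.subset_closure ⟨w, hw, w', hw', hwa, hw'a, rfl⟩

variable [Finite G] [FaithfulSMul G Ω]

namespace FCtx

variable (hF : FCtx G Ω Z) {a b : Ω} (hba : b ≠ a) {c : G} (hc : c ∈ Z) (hca : c • a = b)
include hF hba hc hca

omit hba in
theorem swap_mem_two {w : G} (hw : w ∈ Z) (hwa : w • a = b) : w * c ∈ (two a b : Subgroup G) := by
  have hc' := hF.ctx.hyp.inv c hc
  have hw' := hF.ctx.hyp.inv w hw
  exact mem_two.mpr ⟨by rw [mul_smul, hca, hw'.swap_back hwa], by rw [mul_smul, hc'.swap_back hca, hwa]⟩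

theorem inv_swap_mul {w : G} (hw : w ∈ Z) : c * (w * c) * c = (w * c)⁻¹ := by
  rw [mul_inv_rev, (hF.ctx.hyp.inv c hc).inv, (hF.ctx.hyp.inv w hw).inv, mul_assoc, mul_assoc w c c,
    (hF.ctx.hyp.inv c hc).2, mul_one]

/-- The products with a fixed swapper commute with each other. -/
theorem swap_mul_comm {w w' : G} (hw : w ∈ Z) (hwa : w • a = b) (hw' : w' ∈ Z) (hw'a : w' • a = b) :
    Commute (w * c) (w' * c) := by
  obtain ⟨u, hu, hua, hub⟩ := hF.exists_isB_fix hba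
  obtain ⟨hcW, Q, hS, -, h4, -⟩ := hF.exists_setup hu hua hub hba hc hca
  set X := wGrp Z u
  set t := img hF.ctx.hyp X ⟨c, hcW⟩ with ht
  obtain ⟨C, hC, hCc, -⟩ := Cfsg.Agent.S1131.result hS h4
  haveI := hCc
  have hmem : ∀ {z : G} (hz : z ∈ Z) (hza : z • a = b), ∃ h : z * c ∈ X,
      img hF.ctx.hyp X ⟨z * c, h⟩ ∈ C := by
    intro z hz hza
    obtain ⟨hzW, -⟩ := hF.exists_setup hu hua hub hba hz hza
    refine ⟨Subgroup.mul_mem _ hzW hcW, ?_⟩
    rw [← SetLike.mem_coe, hC]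
    obtain ⟨h1, h2⟩ := mem_two.mp (hF.swap_mem_two hc hca hz hza)
    refine ⟨Subgroup.mem_inf.mpr ⟨Subtype.ext h1, Subtype.ext ?_⟩, ?_⟩
    · show (z * c) • c • a = c • a
      rw [hca, h2]
    · rw [ht, ← map_inv, ← map_inv, ← map_mul, ← map_mul]
      refine congrArg _ (Subtype.ext ?_)
      show c * (z * c) * c⁻¹ = (z * c)⁻¹
      rw [(hF.ctx.hyp.inv c hc).inv, hF.inv_swap_mul hba hc hca hz]
  obtain ⟨h1, h1'⟩ := hmem hw hwa
  obtain ⟨h2, h2'⟩ := hmem hw' hw'a
  let f : C.comap (img hF.ctx.hyp X) →* C :=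
    ((img hF.ctx.hyp X).comp (C.comap (img hF.ctx.hyp X)).subtype).codRestrict C fun x => x.2
  have hker : f.ker ≤ Subgroup.center (C.comap (img hF.ctx.hyp X)) := by
    intro x hx
    have hx1 : img hF.ctx.hyp X x.1 = img hF.ctx.hyp X 1 := by
      rw [map_one]
      exact congrArg Subtype.val (MonoidHom.mem_ker.mp hx)
    refine Subgroup.mem_center_iff.mpr fun y => Subtype.ext (Subtype.ext ?_)
    exact (hF.commute_w_of_fix_all hu ((hF.img_eq_iff hu).mp hx1) y.1.2).symm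
  have h := commutative_of_cyclic_center_quotient f hker (⟨⟨_, h1⟩, h1'⟩) (⟨⟨_, h2⟩, h2'⟩)
  exact congrArg (fun y : C.comap (img hF.ctx.hyp X) => ((y : X) : G)) h

theorem inverted_swap_mem {j : G} (hodd : Odd (orderOf j)) (hinv : c * j * c = j⁻¹) (hj : j ∈ (two a b : Subgroup G)) :
    j * c ∈ Z ∧ (j * c) • a = b := by
  obtain ⟨h1, h2⟩ := mem_two.mp hj
  refine ⟨?_, by rw [mul_smul, hca, h2]⟩
  obtain ⟨n, hn⟩ := CfsgLib.Involutions.exists_sqrt hodd
  have hk : c * j ^ n * c = (j ^ n)⁻¹ := by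
    have h3 := conj_pow (i := n) (a := c) (b := j)
    rw [(hF.ctx.hyp.inv c hc).inv, hinv, inv_pow] at h3
    exact h3.symm
  have he : j ^ n * c * (j ^ n)⁻¹ = j * c := by
    rw [← hk]
    calc j ^ n * c * (c * j ^ n * c) = j ^ n * (c * c) * j ^ n * c := by group
      _ = j * c := by
          rw [(hF.ctx.hyp.inv c hc).2, mul_one, hn]
  exact he ▸ hF.ctx.hyp.conj c hc _

theorem mem_jGrp {x : G} : x ∈ jGrp Z a b ↔ ∃ w ∈ Z, w • a = b ∧ x = w * c := by
  have hci := hF.ctx.hyp.inv c hc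
  constructor
  · intro hx
    let K : Subgroup G :=
      { carrier := {x | ∃ w ∈ Z, w • a = b ∧ x = w * c}
        one_mem' := ⟨c, hc, hca, hci.2.symm⟩
        mul_mem' := by
          rintro _ _ ⟨w, hw, hwa, rfl⟩ ⟨w', hw', hw'a, rfl⟩
          have hcom := hF.swap_mul_comm hba hc hca hw hwa hw' hw'a
          have hodd : Odd (orderOf ((w * c) * (w' * c))) :=
            ((odd_swap hF.ctx.hyp hba hw hwa hc hca).mul (odd_swap hF.ctx.hyp hba hw' hw'a hc hca)).of_dvd_nat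
              hcom.orderOf_mul_dvd_mul_orderOf
          obtain ⟨h1, h2⟩ := hF.inverted_swap_mem hba hc hca hodd (by
            calc c * (w * c * (w' * c)) * c = (c * (w * c) * c) * (c * (w' * c) * c) := by
                  simp [mul_assoc, ← mul_assoc c c, hci.2]
              _ = (w * c * (w' * c))⁻¹ := by
                  rw [hF.inv_swap_mul hba hc hca hw, hF.inv_swap_mul hba hc hca hw', hcom.eq,
                    mul_inv_rev (w' * c)])
            (mul_mem (hF.swap_mem_two hc hca hw hwa) (hF.swap_mem_two hc hca hw' hw'a))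
          exact ⟨_, h1, h2, by rw [mul_assoc (w * c * (w' * c)), hci.2, mul_one]⟩
        inv_mem' := by
          rintro _ ⟨w, hw, hwa, rfl⟩
          refine ⟨c * w * c, conj_member hF.ctx.hyp hc hw, ?_, ?_⟩
          · rw [mul_smul, mul_smul, hca, (hF.ctx.hyp.inv w hw).swap_back hwa, hca]
          · rw [← hF.inv_swap_mul hba hc hca hw]
            group }
    refine (Subgroup.closure_le K).mpr ?_ hx
    rintro _ ⟨w, hw, w', hw', hwa, hw'a, rfl⟩
    have h1 : w * c ∈ K := ⟨w, hw, hwa, rfl⟩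
    have h2 : w' * c ∈ K := ⟨w', hw', hw'a, rfl⟩
    have h3 := K.mul_mem h1 (K.inv_mem h2)
    rwa [show w * c * (w' * c)⁻¹ = w * w' by rw [mul_inv_rev, (hF.ctx.hyp.inv w' hw').inv]; group] at h3
  · rintro ⟨w, hw, hwa, rfl⟩
    exact swap_mul_mem_jGrp hw hc hwa hca

theorem jGrp_inverted {j : G} (hj : j ∈ jGrp Z a b) : c * j * c = j⁻¹ := by
  obtain ⟨w, hw, -, rfl⟩ := (hF.mem_jGrp hba hc hca).mp hj
  exact hF.inv_swap_mul hba hc hca hw

theorem jGrp_mul_swap {j : G} (hj : j ∈ jGrp Z a b) : j * c ∈ Z ∧ (j * c) • a = b := by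
  obtain ⟨w, hw, hwa, rfl⟩ := (hF.mem_jGrp hba hc hca).mp hj
  rw [mul_assoc, (hF.ctx.hyp.inv c hc).2, mul_one]
  exact ⟨hw, hwa⟩

theorem odd_orderOf_jGrp {j : G} (hj : j ∈ jGrp Z a b) : Odd (orderOf j) := by
  obtain ⟨w, hw, hwa, rfl⟩ := (hF.mem_jGrp hba hc hca).mp hj
  exact odd_swap hF.ctx.hyp hba hw hwa hc hca

/-- Every swapper is a conjugate of a given one under the torus. -/
theorem exists_jGrp_conj {w : G} (hw : w ∈ Z) (hwa : w • a = b) :
    ∃ j ∈ jGrp Z a b, j * c * j⁻¹ = w :=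
  exists_sqrt_conj hF.ctx.hyp hba hc hca hw hwa (swap_mul_mem_jGrp hw hc hwa hca)

end FCtx

namespace FCtx

variable (hF : FCtx G Ω Z) {a b : Ω} (hba : b ≠ a)
include hF hba

theorem jGrp_le_two : jGrp Z a b ≤ two a b := by
  obtain ⟨c, hc, hca, -⟩ := exists_swap hF.ctx.hyp hba.symm
  intro x hx
  obtain ⟨w, hw, hwa, rfl⟩ := (hF.mem_jGrp hba hc hca).mp hx
  exact hF.swap_mem_two hc hca hw hwa

theorem jGrp_fix {j : G} (hj : j ∈ jGrp Z a b) : j • a = a ∧ j • b = b := mem_two.mp (hF.jGrp_le_two hba hj)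

theorem jGrp_comm {x y : G} (hx : x ∈ jGrp Z a b) (hy : y ∈ jGrp Z a b) : x * y = y * x := by
  obtain ⟨c, hc, hca, -⟩ := exists_swap hF.ctx.hyp hba.symm
  obtain ⟨w, hw, hwa, rfl⟩ := (hF.mem_jGrp hba hc hca).mp hx
  obtain ⟨w', hw', hwa', rfl⟩ := (hF.mem_jGrp hba hc hca).mp hy
  exact hF.swap_mul_comm hba hc hca hw hwa hw' hwa'

theorem odd_orderOf_mem_jGrp {j : G} (hj : j ∈ jGrp Z a b) : Odd (orderOf j) := by
  obtain ⟨c, hc, hca, -⟩ := exists_swap hF.ctx.hyp hba.symm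
  exact hF.odd_orderOf_jGrp hba hc hca hj

theorem odd_card_jGrp : Odd (Nat.card (jGrp Z a b)) := by
  refine CfsgLib.Bender.TwoClosed.odd_card_of_forall fun x hx hi => hi.1 ?_
  exact CfsgLib.Bender.TwoClosed.eq_one_of_two_odd (by rw [pow_two, hi.2]) (hF.odd_orderOf_mem_jGrp hba hx)

omit hba in
theorem jGrp_symm : jGrp Z b a = jGrp Z a b := by
  have key : ∀ a b : Ω, jGrp Z b a ≤ jGrp Z a b := fun a b => by
    refine (Subgroup.closure_le _).mpr ?_
    rintro _ ⟨w, hw, w', hw', hwb, hw'b, rfl⟩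
    exact swap_mul_mem_jGrp hw hw' ((hF.ctx.hyp.inv w hw).swap_back hwb) ((hF.ctx.hyp.inv w' hw').swap_back hw'b)
  exact le_antisymm (key a b) (key b a)

omit hba in
theorem jGrp_conj {g x : G} (hx : x ∈ jGrp Z a b) : g * x * g⁻¹ ∈ jGrp Z (g • a) (g • b) := by
  induction hx using Subgroup.closure_induction with
  | mem y hy =>
    obtain ⟨w, hw, w', hw', hwa, hw'a, rfl⟩ := hy
    have h1 : ∀ z : G, z • a = b → (g * z * g⁻¹) • g • a = g • b := fun z hz => by
      rw [mul_smul, mul_smul, inv_smul_smul, hz]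
    rw [← conj_mul]
    exact swap_mul_mem_jGrp (hF.ctx.hyp.conj w hw g) (hF.ctx.hyp.conj w' hw' g) (h1 w hwa) (h1 w' hw'a)
  | one => simp
  | mul y z _ _ iy iz => rw [← conj_mul]; exact Subgroup.mul_mem _ iy iz
  | inv y _ iy => rw [← conj_inv]; exact inv_mem iy

omit hba in
theorem jGrp_normal {g x : G} (hg : g ∈ (two a b : Subgroup G)) (hx : x ∈ jGrp Z a b) :
    g * x * g⁻¹ ∈ jGrp Z a b := by
  have h := hF.jGrp_conj (g := g) hx
  rwa [(mem_two.mp hg).1, (mem_two.mp hg).2] at h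

/-- The torus acts freely on the members at either point. -/
theorem jGrp_free {j e : G} (hj : j ∈ jGrp Z a b) (he : e ∈ hF.eGrp a) (he1 : e ≠ 1) (h : j * e = e * j) : j = 1 := by
  obtain ⟨c, hc, hca, -⟩ := exists_swap hF.ctx.hyp hba.symm
  obtain ⟨heZ, hea⟩ := hF.mem_of_mem_eGrp he he1
  exact inverted_commute hF.ctx.hyp hc heZ (hF.odd_orderOf_jGrp hba hc hca hj) (hF.jGrp_inverted hba hc hca hj) h hea
    (hca ▸ hba)

theorem jGrp_conj_inj {j j' e : G} (hj : j ∈ jGrp Z a b) (hj' : j' ∈ jGrp Z a b) (he : e ∈ hF.eGrp a)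
    (he1 : e ≠ 1) (h : j * e * j⁻¹ = j' * e * j'⁻¹) : j = j' := by
  refine (inv_mul_eq_one.mp (hF.jGrp_free hba (mul_mem (inv_mem hj') hj) he he1 ?_)).symm
  calc j'⁻¹ * j * e = j'⁻¹ * (j * e * j⁻¹) * j := by group
    _ = e * (j'⁻¹ * j) := by rw [h]; group

theorem card_jGrp_eq : Nat.card (jGrp Z a b) = Nat.card (MemAt Z a) := by
  obtain ⟨c, hc, hca, -⟩ := exists_swap hF.ctx.hyp hba.symm
  rw [← card_swp hF.ctx.hyp hba]
  exact Nat.card_congr
    { toFun := fun j => ⟨(j : G) * c, hF.jGrp_mul_swap hba hc hca j.2⟩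
      invFun := fun w => ⟨w.1 * c, swap_mul_mem_jGrp w.2.1 hc w.2.2 hca⟩
      left_inv := fun j => Subtype.ext (by
        show (j : G) * c * c = j
        rw [mul_assoc, (hF.ctx.hyp.inv c hc).2, mul_one])
      right_inv := fun w => Subtype.ext (by
        show w.1 * c * c = w.1
        rw [mul_assoc, (hF.ctx.hyp.inv c hc).2, mul_one]) }

theorem card_jGrp : Nat.card (jGrp Z a b) + 1 = Nat.card (hF.eGrp a) := by
  rw [hF.card_eGrp a, hF.card_jGrp_eq hba]

/-- The torus is transitive on the members at the point. -/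
theorem exists_jGrp_eq {e e' : G} (he : e ∈ hF.eGrp a) (he1 : e ≠ 1) (he' : e' ∈ hF.eGrp a) (he1' : e' ≠ 1) :
    ∃ j ∈ jGrp Z a b, j * e * j⁻¹ = e' := by
  obtain ⟨heZ, hea⟩ := hF.mem_of_mem_eGrp he he1
  obtain ⟨heZ', hea'⟩ := hF.mem_of_mem_eGrp he' he1'
  let f : jGrp Z a b → MemAt Z a := fun j => ⟨(j : G) * e * (j : G)⁻¹, hF.ctx.hyp.conj e heZ _, by
    have h := smul_conj (g := (j : G)) hea
    rwa [(hF.jGrp_fix hba j.2).1] at h⟩
  have hf : Function.Injective f := fun j j' h =>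
    Subtype.ext (hF.jGrp_conj_inj hba j.2 j'.2 he he1 (congrArg Subtype.val h))
  obtain ⟨j, hj⟩ := ((Nat.bijective_iff_injective_and_card f).mpr ⟨hf, hF.card_jGrp_eq hba⟩).2 ⟨e', heZ', hea'⟩
  exact ⟨j, j.2, congrArg Subtype.val hj⟩

/-- A full involution fixing both points centralises the torus. -/
theorem commute_jGrp {u : G} (hu : IsB Ω u) (hua : u • a = a) (hub : u • b = b) {j : G} (hj : j ∈ jGrp Z a b) :
    u * j = j * u := by
  obtain ⟨c, hc, hca, -⟩ := exists_swap hF.ctx.hyp hba.symm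
  obtain ⟨w, hw, hwa, rfl⟩ := (hF.mem_jGrp hba hc hca).mp hj
  rw [← mul_assoc, hF.commute_swap hu hua hub hba hw hwa, mul_assoc, hF.commute_swap hu hua hub hba hc hca,
    mul_assoc]

theorem jGrp_le_wGrp {u : G} (hu : IsB Ω u) (hua : u • a = a) (hub : u • b = b) : jGrp Z a b ≤ wGrp Z u := by
  obtain ⟨c, hc, hca, -⟩ := exists_swap hF.ctx.hyp hba.symm
  intro x hx
  obtain ⟨w, hw, hwa, rfl⟩ := (hF.mem_jGrp hba hc hca).mp hx
  exact Subgroup.mul_mem _ (hF.exists_setup hu hua hub hba hw hwa).choose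
    (hF.exists_setup hu hua hub hba hc hca).choose

/-- A non-identity element of the torus fixes only the two points. -/
theorem jGrp_fix_only {j : G} (hj : j ∈ jGrp Z a b) (hj1 : j ≠ 1) {g : Ω} (hg : j • g = g) : g = a ∨ g = b := by
  obtain ⟨c, hc, hca, -⟩ := exists_swap hF.ctx.hyp hba.symm
  obtain ⟨u, hu, hua, hub⟩ := hF.exists_isB_fix hba
  obtain ⟨hja, hjb⟩ := hF.jGrp_fix hba hj
  have hinv := hF.jGrp_inverted hba hc hca hj
  have huj := hF.commute_jGrp hba hu hua hub hj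
  have hin : ∀ p : Ω, u • p = p → j • p = p → p = a ∨ p = b := by
    intro p hpu hp
    obtain ⟨hcW, Q, hS, -, -, -⟩ := hF.exists_setup hu hua hub hba hc hca
    have hjW := hF.jGrp_le_wGrp hba hu hua hub hj
    have h1 : img hF.ctx.hyp (wGrp Z u) ⟨j, hjW⟩ ≠ 1 := fun e => hj1 (by
      rw [← map_one (img hF.ctx.hyp (wGrp Z u)), hF.img_eq_iff hu] at e
      obtain ⟨i, hi, hia⟩ := hF.ctx.hyp.exists_at a
      exact hF.jGrp_free hba hj (hF.mem_eGrp_of hi hia) (hF.ctx.hyp.inv i hi).1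
        (hF.commute_of_fix_all hu e hi hia hua))
    have h2 := CfsgLib.RankOne.inverted_fix hS (x := img hF.ctx.hyp (wGrp Z u) ⟨j, hjW⟩)
      ⟨Subgroup.mem_inf.mpr ⟨Subtype.ext hja, Subtype.ext (by
        show j • c • a = c • a
        rw [hca, hjb])⟩, by
        rw [← map_inv, ← map_inv, ← map_mul, ← map_mul]
        refine congrArg _ (Subtype.ext ?_)
        show c * j * c⁻¹ = j⁻¹
        rw [(hF.ctx.hyp.inv c hc).inv, hinv]⟩
      h1 (c := ⟨p, hF.mem_centres_w hu hpu⟩) (Subtype.ext hp)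
    rcases h2 with h | h
    · exact Or.inl (congrArg Subtype.val h)
    · exact Or.inr ((congrArg Subtype.val h).trans hca)
  by_cases hgu : u • g = g
  · exact hin g hgu hg
  obtain ⟨d, ⟨hd, hdu, hdg⟩, huniq⟩ := hF.existsUnique_swap hu hgu
  have hjd : j * d * j⁻¹ = d := huniq _ ⟨hF.ctx.hyp.conj d hd j, by
    calc u * (j * d * j⁻¹) = (u * j) * d * j⁻¹ := by group
      _ = j * (u * d) * j⁻¹ := by rw [huj]; group
      _ = j * d * (j⁻¹ * (j * u) * j⁻¹) := by rw [hdu]; group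
      _ = j * d * j⁻¹ * u := by rw [← huj]; group, by
    rw [mul_smul, mul_smul, inv_smul_eq_iff.mpr hg.symm, hdg, ← mul_smul, ← huj, mul_smul, hg]⟩
  obtain ⟨p, hp⟩ := exists_fix hF.ctx.hyp hd
  have hjp : j • p = p := eq_of_fix hF.ctx.hyp hd (by
    conv_lhs => rw [← hjd]
    exact smul_conj hp) hp
  have hne : c • p ≠ p := by
    rcases hin p ((hF.cent_iff hu hd hp).mp hdu) hjp with rfl | rfl
    · rw [hca]; exact hba
    · rw [(hF.ctx.hyp.inv c hc).swap_back hca]; exact hba.symm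
  exact absurd (inverted_commute hF.ctx.hyp hc hd (hF.odd_orderOf_mem_jGrp hba hj) hinv
    (mul_inv_eq_iff_eq_mul.mp hjd) hp hne) hj1

end FCtx

end CfsgLib.Bender.Q
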