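import Cfsg.Agent.Lib.Bender.Q.Full.Perm
import Cfsg.Agent.Lib.Coprime

/-!
The action on the kernels is transitive, and an element of the kernel at the point fixing one of them centralises the
full involution: there are no scalars.

Blueprint: `blueprint/bender/Q_VI.md` 3.1, 3.2.
-/

set_option autoImplicit false
set_option linter.unusedSectionVars false
set_option linter.style.haveILetI false

universe u

namespace CfsgLib.Bender.Q

open MulAction Cfsg
open CfsgLib.Bender.TwoClosed (IsInv two mem_two smul_conj MaxP exists_maxP mem_normalizer_of_conj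
  conj_mem_of_normalizer exists_mem_normalizer)

variable {G Ω : Type u} [Group G] [MulAction G Ω] {Z : Set G} [Finite G] [FaithfulSMul G Ω]

namespace FCtx

omit [Finite G] [FaithfulSMul G Ω] in
theorem Maps.inv {u g x y : G} (h : Maps Ω u g x y) : Maps Ω u g⁻¹ y x := by
  have key : ∀ (k y : G) (c : Ω), (k * y * k⁻¹) • c = c ↔ y • k⁻¹ • c = k⁻¹ • c := fun k y c => by
    rw [mul_smul, mul_smul, eq_inv_smul_iff]
  ext c
  have h1 : (g • c ∈ {c : Ω | (g * (u * x) * g⁻¹) • c = c}) ↔ g • c ∈ {c : Ω | (u * y) • c = c} := by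
    rw [show {c : Ω | (g * (u * x) * g⁻¹) • c = c} = _ from h]
  simp only [Set.mem_setOf_eq, key, inv_inv, inv_smul_smul] at h1 ⊢
  rw [mul_smul, mul_smul, inv_smul_eq_iff]
  exact h1.symm

variable (hF : FCtx G Ω Z)
include hF

theorem exists_pow_card_eGrp (a : Ω) : ∃ i, Nat.card (hF.eGrp a) = 2 ^ i := by
  haveI : Fact (Nat.Prime 2) := ⟨Nat.prime_two⟩
  exact (hF.isPGroup_eGrp a).exists_card_eq

/-- The order of the stabiliser of a point. -/
theorem card_stab {a c : Ω} (hc : c ≠ a) :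
    Nat.card (stabilizer G a) = (Nat.card Ω - 1) * Nat.card (two a c : Subgroup G) := by
  haveI := finite_points hF.ctx.hyp
  rw [Subgroup.card_eq_card_quotient_mul_card_subgroup (stabilizer (stabilizer G a) c),
    ← Nat.card_congr (MulAction.orbitEquivQuotientStabilizer (stabilizer G a) c)]
  congr 1
  · rw [Nat.card_coe_set_eq, ← Set.ncard_univ Ω, ← Set.ncard_diff_singleton_of_mem (Set.mem_univ a)]
    congr 1
    ext d
    constructor
    · rintro ⟨g, rfl⟩
      exact ⟨Set.mem_univ _, fun e => hc (smul_left_cancel (g : G) (e.trans (mem_stabilizer_iff.mp g.2).symm))⟩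
    · rintro ⟨-, hd⟩
      obtain ⟨g, hg1, hg2⟩ := hF.ctx.two_trans hc hd
      exact ⟨⟨g, mem_stabilizer_iff.mpr hg1⟩, hg2⟩
  · exact Nat.card_congr
      { toFun := fun x => ⟨x.1.1, mem_two.mpr ⟨x.1.2, x.2⟩⟩
        invFun := fun x => ⟨⟨x.1, (mem_two.mp x.2).1⟩, (mem_two.mp x.2).2⟩
        left_inv := fun x => rfl
        right_inv := fun x => rfl }

/-- A power of two dividing `n - 1` divides the orbits of a Sylow subgroup of the stabiliser. -/
theorem two_pow_dvd_orbit {a c : Ω} (hc : c ≠ a) {S : Subgroup G} (hS : MaxP 2 (stabilizer G a) S) {i : ℕ}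
    (hi : 2 ^ i ∣ Nat.card Ω - 1) : 2 ^ i ∣ Nat.card (orbit S c) := by
  haveI : Fact (Nat.Prime 2) := ⟨Nat.prime_two⟩
  haveI := finite_points hF.ctx.hyp
  have h1 : Nat.card S = Nat.card (orbit S c) * Nat.card (stabilizer S c) := by
    rw [Subgroup.card_eq_card_quotient_mul_card_subgroup (stabilizer S c),
      ← Nat.card_congr (MulAction.orbitEquivQuotientStabilizer S c)]
  have hp : IsPGroup 2 ((stabilizer S c).map S.subtype) := (hS.isPGroup.to_subgroup _).map _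
  have hle : (stabilizer S c).map S.subtype ≤ two a c := by
    rintro _ ⟨x, hx, rfl⟩
    exact mem_two.mpr ⟨mem_stabilizer_iff.mp (hS.le x.2), hx⟩
  obtain ⟨R, hR, hRm⟩ := exists_maxP hp hle
  have h2 : Nat.card (stabilizer S c) ∣ 2 ^ (Nat.card (two a c : Subgroup G)).factorization 2 := by
    rw [← hRm.card, Nat.card_congr ((stabilizer S c).equivMapOfInjective S.subtype S.subtype_injective).toEquiv]
    exact Subgroup.card_dvd_of_le hR
  have hn : Nat.card Ω - 1 ≠ 0 := by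
    haveI := hF.ctx.hyp.nontriv
    have := Finite.one_lt_card (α := Ω)
    omega
  have hi' : i ≤ (Nat.card Ω - 1).factorization 2 := (Nat.prime_two.pow_dvd_iff_le_factorization hn).mp hi
  rw [hS.card, hF.card_stab hc, Nat.factorization_mul hn Nat.card_pos.ne', Finsupp.coe_add, Pi.add_apply,
    pow_add] at h1
  obtain ⟨k, hk⟩ := h2
  rw [hk] at h1
  have hm : 0 < Nat.card (stabilizer S c) := Nat.card_pos
  have h3 : 2 ^ (Nat.card Ω - 1).factorization 2 * k = Nat.card (orbit S c) :=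
    Nat.eq_of_mul_eq_mul_right hm ((by ring : 2 ^ (Nat.card Ω - 1).factorization 2 * k *
      Nat.card (stabilizer S c) = _).trans h1)
  exact (pow_dvd_pow 2 hi').trans (Dvd.intro k h3)

variable {hF} {u : G} {a b : Ω} {T : Subgroup G} (h : hF.Std u a b T)
include h

/-- `q * f` is a power of two dividing `n - 1`. -/
theorem Std.exists_qf_dvd : ∃ i, 2 ^ i = Nat.card (hF.eGrp a) * (fixCard Ω u - 1) ∧ 2 ^ i ∣ Nat.card Ω - 1 := by
  obtain ⟨j, hj⟩ := hF.exists_pow_card_eGrp a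
  obtain ⟨f, -, hf, hn⟩ := hF.exists_f a
  have hfu := hf u h.isB
  have hn' : Nat.card Ω - 1 = f * (f * (Nat.card (hF.eGrp a) - 1) + Nat.card (hF.eGrp a)) := by omega
  rw [hfu, Nat.add_sub_cancel, hn']
  rcases hF.small_cases h.small h.isB h.fix_a with hq | hq <;> rw [hfu] at hq
  · rw [show f = Nat.card (hF.eGrp a) by omega]
    refine ⟨j + j, by rw [pow_add, hj], ?_⟩
    rw [pow_add, ← hj]
    exact mul_dvd_mul_left _ (Nat.dvd_add (Dvd.intro _ rfl) dvd_rfl)
  · rw [show f = Nat.card (hF.eGrp a) ^ 2 by omega]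
    refine ⟨j + 2 * j, by rw [pow_add, hj, ← pow_mul, mul_comm j 2], ?_⟩
    rw [show (2 : ℕ) ^ (j + 2 * j) = Nat.card (hF.eGrp a) ^ 2 * Nat.card (hF.eGrp a) by
      rw [hj, ← pow_mul, ← pow_add]; congr 1; omega]
    exact mul_dvd_mul_left _ (Nat.dvd_add (Dvd.dvd.mul_right (dvd_pow_self _ (by omega)) _) dvd_rfl)

/-- Some element moves the fixed points of `u` to those of another of its products with the members. -/
theorem Std.exists_move : ∃ g ∈ hF.nGrp u a, ∃ y ∈ hF.eGrp a, y ≠ 1 ∧ Maps Ω u g 1 y := by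
  haveI : Fact (Nat.Prime 2) := ⟨Nat.prime_two⟩
  haveI := finite_points hF.ctx.hyp
  set U := hF.uGrp u a with hU
  have hn : T ≤ Subgroup.normalizer (U : Set G) := fun t ht => (hF.mem_nGrp.mp (h.sylow_le_nGrp ht)).2
  have hp : IsPGroup 2 ↥(U ⊔ T) :=
    IsPGroup.to_sup_of_normal_left' (hF.isPGroup_uGrp h.isB h.fix_a h.small) h.maxP.isPGroup hn
  have hle : U ⊔ T ≤ stabilizer G a := sup_le (fun x hx => mem_stabilizer_iff.mpr (hF.uGrp_fix hx))
    (fun x hx => mem_stabilizer_iff.mpr (mem_two.mp (h.maxP.le hx)).1)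
  have hdec : ∀ w ∈ U ⊔ T, ∃ x ∈ U, ∃ t ∈ T, x * t = w := fun w hw => by
    rw [← SetLike.mem_coe, Subgroup.coe_mul_of_right_le_normalizer_left U T hn] at hw
    exact Set.mem_mul.mp hw
  obtain ⟨S, hleS, hS⟩ := exists_maxP hp hle
  have hlt : U ⊔ T < S := by
    refine lt_of_le_of_ne hleS fun e => ?_
    obtain ⟨i, hi, hdvd⟩ := h.exists_qf_dvd
    haveI : Nonempty (orbit S b) := ⟨⟨b, mem_orbit_self b⟩⟩
    have h1 := Nat.le_of_dvd Nat.card_pos (hF.two_pow_dvd_orbit h.ne hS hdvd)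
    have h2 : Nat.card (orbit S b) ≤ fixCard Ω u - 1 := by
      rw [Nat.card_coe_set_eq, fixCard,
        ← Set.ncard_diff_singleton_of_mem (s := {c : Ω | u • c = c}) h.fix_a]
      refine Set.ncard_le_ncard ?_ (Set.toFinite _)
      rintro _ ⟨⟨w, hw⟩, rfl⟩
      obtain ⟨x, hx, t, ht, rfl⟩ := hdec w (e ▸ hw)
      have htb : t • b = b := (mem_two.mp (h.maxP.le ht)).2
      show u • (x * t) • b = (x * t) • b ∧ (x * t) • b ≠ a
      rw [mul_smul, htb]
      exact ⟨fix_of_comm (hF.uGrp_comm hx) h.fix_b,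
        fun e' => h.ne (smul_left_cancel x (e'.trans (hF.uGrp_fix hx).symm))⟩
    have h4 := hF.four_le_card a
    have h5 := hF.two_le_fixCard h.isB
    rw [hi] at h1
    have h6 : Nat.card (hF.eGrp a) * (fixCard Ω u - 1) ≥ 4 * (fixCard Ω u - 1) := Nat.mul_le_mul_right _ h4
    omega
  obtain ⟨g, hgS, hgUT, hgn⟩ := exists_mem_normalizer hS.isPGroup hlt
  have hga : g • a = a := mem_stabilizer_iff.mp (hS.le hgS)
  have hgN : g ∈ hF.nGrp u a := by
    refine hF.mem_nGrp.mpr ⟨hga, mem_normalizer_of_conj fun x hx => ?_⟩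
    obtain ⟨x', hx', t, ht, he⟩ := hdec _ (conj_mem_of_normalizer hgn (Subgroup.mem_sup_left (T := T) hx))
    have htK : t ∈ hF.kGrp a := by
      rw [show t = x'⁻¹ * (g * x * g⁻¹) by rw [← he, inv_mul_cancel_left]]
      exact Subgroup.mul_mem _ (inv_mem (hF.mem_uGrp.mp hx').1) (hF.kGrp_normal hga (hF.mem_uGrp.mp hx).1)
    rw [← he]
    exact Subgroup.mul_mem _ hx' (hF.uKer_le (h.uKer_eq.symm ▸ ⟨ht, htK⟩))
  obtain ⟨y, ⟨hy, hgy⟩, -⟩ := h.exists_maps hgN (one_mem (hF.eGrp a))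
  refine ⟨g, hgN, y, hy, fun e => hgUT ?_, hgy⟩
  subst e
  obtain ⟨x, hx, d, rfl, hd, -, -⟩ := h.exists_mul_two hgN hgy
  refine Subgroup.mul_mem _ (Subgroup.mem_sup_left hx) (Subgroup.mem_sup_right ?_)
  have hdS : d ∈ S := by
    have h1 := S.mul_mem (inv_mem (hleS (Subgroup.mem_sup_left hx))) hgS
    rwa [inv_mul_cancel_left] at h1
  have h2 : T = S ⊓ two a b := (h.maxP.eq_of_le (hS.isPGroup.to_le inf_le_left) inf_le_right
    (le_inf (le_sup_right.trans hleS) h.maxP.le)).symm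
  rw [h2]
  exact ⟨hdS, hd⟩

/-- The action on the kernels is transitive. -/
theorem Std.exists_maps_one {y : G} (hy : y ∈ hF.eGrp a) : ∃ g ∈ hF.nGrp u a, Maps Ω u g 1 y := by
  by_cases hy1 : y = 1
  · exact ⟨1, one_mem _, by rw [hy1]; exact h.maps_uGrp (one_mem _) (one_mem _)⟩
  obtain ⟨g, hg, z, hz, hz1, hgz⟩ := h.exists_move
  obtain ⟨j, hj, rfl⟩ := hF.exists_jGrp_eq h.ne hz hz1 hy hy1
  exact ⟨j * g, Subgroup.mul_mem _ (h.jGrp_le_nGrp hj) hg, hgz.mul (h.maps_jGrp hj)⟩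

/-- An element of the kernel at both points acts through a scalar. -/
theorem Std.exists_scalar {g : G} (hg : g ∈ hF.nGrp u a) (hgK : g ∈ hF.kGrp a) (hgb : g • b = b) :
    ∃ v j : G, v ∈ hF.uKer u a ∧ v ≠ 1 ∧ h.Par v j ∧ g * u * g⁻¹ = v ∧
      ∀ x ∈ hF.eGrp a, Maps Ω u g x (j⁻¹ * x * j) := by
  obtain ⟨hga, hgn⟩ := hF.mem_nGrp.mp hg
  have hv : g * u * g⁻¹ ∈ hF.uKer u a := hF.uKer_of_fix h.isB h.fix_a h.small
    (conj_mem_of_normalizer hgn (hF.uKer_le (hF.self_mem_uKer h.isB h.fix_a))) h.fix_b h.ne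
    (by rw [mul_smul, mul_smul, inv_smul_eq_iff.mpr hgb.symm, h.fix_b, hgb])
  have hv1 : g * u * g⁻¹ ≠ 1 := (h.isB.conj g).1.1
  obtain ⟨j, hj⟩ := h.exists_par hv hv1
  refine ⟨_, j, hv, hv1, hj, rfl, fun x hx => ?_⟩
  have hx' : j⁻¹ * x * j ∈ hF.eGrp a := by
    have h1 := h.conj_eGrp (inv_mem hj.1) hx
    rwa [inv_inv] at h1
  have hgx : g * x * g⁻¹ = x := by rw [← (hF.mem_kGrp.mp hgK).2 x hx, mul_inv_cancel_right]
  have h1 := h.fix_eq hv hv1 hj hx'
  rw [show j * (j⁻¹ * x * j) * j⁻¹ = x by group] at h1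
  rw [Maps, ← conj_mul, hgx]
  exact h1

/-- An element of the kernel fixing the kernels is in the centraliser. -/
theorem Std.mem_uGrp_of_trivial {g : G} (hg : g ∈ hF.nGrp u a) (hgK : g ∈ hF.kGrp a)
    (hall : ∀ x ∈ hF.eGrp a, Maps Ω u g x x) : g ∈ hF.uGrp u a := by
  have h1 := hall 1 (one_mem _)
  obtain ⟨x, hx, d, rfl, hd, hdN, -⟩ := h.exists_mul_two hg h1
  have hdK : d ∈ hF.kGrp a := by
    have h2 := Subgroup.mul_mem _ (inv_mem (hF.mem_uGrp.mp hx).1) hgK
    rwa [inv_mul_cancel_left] at h2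
  obtain ⟨v, j, hv, -, hj, hev, hmap⟩ := h.exists_scalar hdN hdK (mem_two.mp hd).2
  obtain ⟨e, he, he1⟩ := hF.exists_mem_eGrp_ne_one a
  have h3 : Maps Ω u d e e := by
    have h4 := (hall e he).mul (h.maps_uGrp (inv_mem hx) he)
    rwa [inv_mul_cancel_left] at h4
  have hje : j⁻¹ * e * j = e := h.maps_unique (by
    have h4 := h.conj_eGrp (inv_mem hj.1) he
    rwa [inv_inv] at h4) he (hmap e he) h3
  have hj1 := hF.jGrp_free h.ne hj.1 he he1 (by
    calc j * e = j * (j⁻¹ * e * j) := by rw [hje]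
      _ = e * j := by group)
  have hvu : v = u := h.par_inj hv (hF.self_mem_uKer h.isB h.fix_a) hj (hj1.symm ▸ h.par_self)
  rw [hvu, mul_inv_eq_iff_eq_mul] at hev
  exact Subgroup.mul_mem _ hx (hF.mem_uGrp.mpr ⟨hdK, hev.symm⟩)

end FCtx

end CfsgLib.Bender.Q
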