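import Cfsg.Agent.Lib.Bender.Q.Full.UnitaryComm

/-!
No full involution fixes `q ^ 3 + 1` points: a `2`-group of order at least `q ^ 5` times that of a Sylow `2`-subgroup
of the two-point kernel would lie in the kernel at the point.

Blueprint: `blueprint/bender/Q_VII.md` 7.
-/

set_option autoImplicit false
set_option linter.unusedSectionVars false
set_option linter.style.haveILetI false

universe u

namespace CfsgLib.Bender.Q

open MulAction Cfsg CfsgLib.SuzukiRankOne
open scoped Pointwise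
open CfsgLib.Bender.TwoClosed (IsInv two mem_two smul_conj MaxP exists_maxP maxP_of_card mem_normalizer_of_conj
  conj_mem_of_normalizer)

variable {G Ω : Type u} [Group G] [MulAction G Ω] {Z : Set G} [Finite G] [FaithfulSMul G Ω]

/-- The order of a group is that of the stabiliser times that of the orbit. -/
theorem card_eq_orbit_mul_stab (S : Subgroup G) (g : Ω) :
    Nat.card S = (MulAction.orbit S g).ncard * Nat.card ↥(S ⊓ stabilizer G g) := by
  rw [Subgroup.card_eq_card_quotient_mul_card_subgroup (stabilizer S g), ← Nat.card_coe_set_eq,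
    Nat.card_congr (orbitEquivQuotientStabilizer S g)]
  congr 1
  exact Nat.card_congr
    { toFun := fun s => ⟨s.1.1, s.1.2, mem_stabilizer_iff.mpr (mem_stabilizer_iff.mp s.2)⟩
      invFun := fun s => ⟨⟨s.1, s.2.1⟩, mem_stabilizer_iff.mpr (show s.1 • g = g from mem_stabilizer_iff.mp s.2.2)⟩
      left_inv := fun s => rfl
      right_inv := fun s => rfl }

namespace FCtx.UCtx

variable {hF : FCtx G Ω Z} {u : G} {a b : Ω} {A R : Subgroup G} {x : G} (h : hF.UCtx u a b A R x)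
include h

/-- A `2`-subgroup of the kernel at `a` has at most `q ^ 4` times the order of `A`. -/
theorem card_two_le {S : Subgroup G} (hS : IsPGroup 2 S) (hSK : S ≤ hF.kGrp a) :
    Nat.card S ≤ Nat.card (hF.eGrp a) ^ 4 * Nat.card A := by
  classical
  haveI : Fact (Nat.Prime 2) := ⟨Nat.prime_two⟩
  haveI := finite_points hF.ctx.hyp
  obtain ⟨l, hl⟩ := (hF.isPGroup_eGrp a).exists_card_eq
  have hq4 := hF.four_le_card a
  set q := Nat.card (hF.eGrp a) with hq
  obtain ⟨f, -, hfix, hn⟩ := hF.exists_f a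
  have hf : f = q ^ 3 := by
    have h1 := hfix u h.isB
    have h2 := h.big u a h.isB h.fix_a
    rw [← hq] at h2
    omega
  rw [← hq, hf] at hn
  let T : Type u := {g : Ω // g ≠ a}
  letI : MulAction S T :=
    { smul := fun s g => ⟨(s : G) • g.1, fun e => g.2 (smul_left_cancel (s : G)
        (e.trans ((hF.mem_kGrp.mp (hSK s.2)).1).symm))⟩
      one_smul := fun g => Subtype.ext (one_smul G g.1)
      mul_smul := fun s t g => Subtype.ext (mul_smul (s : G) (t : G) g.1) }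
  have hT : Nat.card T = 2 ^ (l * 4) * (q ^ 2 * (q - 1) + 1) := by
    rw [show Nat.card T = ({a}ᶜ : Set Ω).ncard from Nat.card_coe_set_eq _, Set.ncard_compl, Set.ncard_singleton, hn,
      Nat.add_sub_cancel, pow_mul, ← hl]
    ring
  have hndvd : ¬ 2 ^ (l * 4 + 1) ∣ Nat.card T := by
    rw [hT, pow_succ, Nat.mul_dvd_mul_iff_left (by positivity)]
    intro hd
    have he : 2 ∣ q ^ 2 * (q - 1) := by
      refine dvd_mul_of_dvd_left (dvd_pow ?_ two_ne_zero) _
      rw [hl]
      exact dvd_pow_self 2 fun e => by rw [hl, e, pow_zero] at hq4; omega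
    exact absurd ((Nat.dvd_add_right he).mp hd) (by norm_num)
  obtain ⟨⟨g, hga⟩, hg⟩ := exists_small_orbit (μ := l * 4) (H := S) hS hndvd
  have horb : (MulAction.orbit S g).ncard ≤ q ^ 4 := by
    rw [hl, ← pow_mul]
    refine le_of_eq_of_le ?_ hg
    rw [← Set.ncard_image_of_injective (MulAction.orbit S (⟨g, hga⟩ : T)) Subtype.val_injective]
    congr 1
    ext c
    constructor
    · rintro ⟨s, rfl⟩
      exact ⟨_, ⟨s, rfl⟩, rfl⟩
    · rintro ⟨_, ⟨s, rfl⟩, rfl⟩
      exact ⟨s, rfl⟩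
  obtain ⟨k, hka, hkg⟩ := hF.ctx.two_trans hga h.ne
  have hstab : Nat.card ↥(S ⊓ stabilizer G g) ≤ Nat.card A := by
    have hle : (S ⊓ stabilizer G g).map (MulAut.conj k).toMonoidHom ≤ hF.kGrp a ⊓ stabilizer G b := by
      rintro _ ⟨s, hs, rfl⟩
      refine ⟨hF.kGrp_normal hka (hSK hs.1), mem_stabilizer_iff.mpr ?_⟩
      show (k * s * k⁻¹) • b = b
      rw [← hkg]
      exact smul_conj (mem_stabilizer_iff.mp hs.2)
    obtain ⟨Y, hY, hYm⟩ := exists_maxP (p := 2) ((hS.to_le inf_le_left).map _) hle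
    have h1 := Subgroup.card_le_of_le hY
    rwa [Subgroup.card_map_of_injective (MulAut.conj k).injective, hYm.card, ← h.maxP.card] at h1
  rw [card_eq_orbit_mul_stab S g]
  exact Nat.mul_le_mul horb hstab

/-- The conjugates of `u` under `R` number at least `q ^ 2`. -/
theorem sq_le_orb : Nat.card (hF.eGrp a) ^ 2 ≤ (orb R u).ncard := by
  set q := Nat.card (hF.eGrp a) with hq
  have hle : R ⊓ Subgroup.centralizer ({u} : Set G) ≤ hF.eGrp a := by
    rintro r ⟨hr, hru⟩
    rcases h.root_line r hr (fix_of_comm (mem_cent_iff.mp hru) h.fix_b) with hc | ⟨e, he, hc⟩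
    · exact absurd (smul_left_cancel r (hc.trans (h.root_fix hr).symm)) h.ne
    · have h1 := h.root_free (e⁻¹ * r) (R.mul_mem (inv_mem (h.root_E he)) hr)
        (by rw [mul_smul, ← show e • b = r • b from hc, inv_smul_smul])
      rw [inv_mul_eq_one] at h1
      exact h1 ▸ he
  have hc := card_eq_orb_mul R u
  rw [h.root_card, ← hq] at hc
  have h1 : q ^ 3 ≤ (orb R u).ncard * q := hc.trans_le (Nat.mul_le_mul_left _ (Subgroup.card_le_of_le hle))
  have hq4 : 4 ≤ q := hF.four_le_card a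
  rw [pow_succ] at h1
  exact Nat.le_of_mul_le_mul_right h1 (by omega)

theorem conj_conjCent {g : G} (hga : g • a = a)
    (hgu : ∀ r ∈ R, ∃ r' ∈ R, g⁻¹ * (r * u * r⁻¹) * g = r' * u * r'⁻¹) :
    g ∈ Subgroup.normalizer (hF.conjCent u a R : Set G) := mem_normalizer_of_conj fun z hz => by
  obtain ⟨hzK, hzc⟩ := hF.mem_conjCent.mp hz
  refine hF.mem_conjCent.mpr ⟨hF.kGrp_normal hga hzK, fun r hr => ?_⟩
  obtain ⟨r', hr', he⟩ := hgu r hr
  have h1 := hzc r' hr'
  rw [← he] at h1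
  calc r * u * r⁻¹ * (g * z * g⁻¹) = g * (g⁻¹ * (r * u * r⁻¹) * g * z) * g⁻¹ := by group
    _ = g * (z * (g⁻¹ * (r * u * r⁻¹) * g)) * g⁻¹ := by rw [h1]
    _ = g * z * g⁻¹ * (r * u * r⁻¹) := by group

theorem false : False := by
  classical
  haveI : Fact (Nat.Prime 2) := ⟨Nat.prime_two⟩
  haveI := finite_points hF.ctx.hyp
  obtain ⟨l, hl⟩ := (hF.isPGroup_eGrp a).exists_card_eq
  have hq4 := hF.four_le_card a
  set q := Nat.card (hF.eGrp a) with hq
  set U := hF.conjCent u a R with hU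
  have hAK : A ≤ hF.kGrp a := h.maxP.le.trans inf_le_left
  have hAb : ∀ g ∈ A, g • b = b := fun g hg => mem_stabilizer_iff.mp (h.maxP.le hg).2
  have hAa : ∀ g ∈ A, g • a = a := fun g hg => (hF.mem_kGrp.mp (hAK hg)).1
  have hAR : A ≤ Subgroup.normalizer (R : Set G) := fun g hg => mem_normalizer_of_conj (h.root_A g hg)
  have hAU : A ≤ Subgroup.normalizer (U : Set G) := fun g hg => by
    refine h.conj_conjCent (hAa g hg) fun r hr =>
      ⟨g⁻¹ * r * g, by simpa using h.root_A g⁻¹ (inv_mem hg) r hr, ?_⟩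
    calc g⁻¹ * (r * u * r⁻¹) * g = (g⁻¹ * r) * (u * g) * (g⁻¹ * r⁻¹ * g) := by group
      _ = (g⁻¹ * r) * (g * u) * (g⁻¹ * r⁻¹ * g) := by rw [h.A_comm g hg]
      _ = g⁻¹ * r * g * u * (g⁻¹ * r * g)⁻¹ := by group
  have hRU : R ≤ Subgroup.normalizer (U : Set G) := fun g hg =>
    h.conj_conjCent (h.root_fix hg) fun r hr =>
      ⟨g⁻¹ * r, R.mul_mem (inv_mem hg) hr, by group⟩
  set B := A ⊔ R with hB
  have hB2 : IsPGroup 2 B := h.maxP.isPGroup.to_sup_of_normal_right' h.root_two hAR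
  set M := U ⊔ B with hM
  have hUK : U ≤ hF.kGrp a := inf_le_left
  have hMK : M ≤ hF.kGrp a := sup_le hUK (sup_le hAK h.root_K)
  have hMU : M ≤ Subgroup.normalizer (U : Set G) := sup_le Subgroup.le_normalizer (sup_le hAU hRU)
  obtain ⟨Y, hBY, hY⟩ := exists_maxP (p := 2) (K := M) hB2 le_sup_right
  set S := Y ⊓ U with hS
  have hSm : MaxP 2 U S := maxP_inf_normal hY le_sup_left fun g hg o ho => conj_mem_of_normalizer (hMU hg) ho
  set C := Y ⊓ Subgroup.centralizer ({u} : Set G) with hC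
  have hUu : ∀ z ∈ U, u * z = z * u := fun z hz => by simpa using (hF.mem_conjCent.mp hz).2 1 R.one_mem
  have hSC : S ≤ C := fun z hz => ⟨hz.1, mem_cent_iff.mpr (hUu z hz.2)⟩
  have hAC : A ≤ C := fun z hz => ⟨hBY (Subgroup.mem_sup_left hz), mem_cent_iff.mpr (h.A_comm z hz)⟩
  -- the orbit of `b` under a Sylow subgroup of the centraliser of the conjugates
  have hUo : (MulAction.orbit U b).ncard = q ^ 3 := by
    have h1 : MulAction.orbit U b = {c : Ω | u • c = c} \ {a} := by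
      ext c
      constructor
      · rintro ⟨⟨z, hz⟩, rfl⟩
        exact ⟨fix_of_comm (hUu z hz) h.fix_b, fun e => h.ne (smul_left_cancel z
          ((Set.mem_singleton_iff.mp e).trans ((hF.mem_kGrp.mp (hUK hz)).1).symm))⟩
      · rintro ⟨hc, hca⟩
        obtain ⟨y, hy, hyc⟩ := h.exists_conjCent_smul hc hca
        exact ⟨⟨y, hy⟩, hyc⟩
    have h2 := h.big u a h.isB h.fix_a
    rw [fixCard, ← hq] at h2
    rw [h1, Set.ncard_sdiff_singleton_of_mem (show a ∈ {c : Ω | u • c = c} from h.fix_a), h2, Nat.add_sub_cancel]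
  have hSo : q ^ 3 ≤ (MulAction.orbit S b).ncard := by
    have h1 := card_eq_orbit_mul_stab U b
    have h2 := card_eq_orbit_mul_stab S b
    rw [hUo] at h1
    obtain ⟨Y', hY', hY'm⟩ := exists_maxP (p := 2) (K := U ⊓ stabilizer G b)
      (hSm.isPGroup.to_le (inf_le_left : S ⊓ stabilizer G b ≤ S)) (inf_le_inf_right _ hSm.le)
    have h3 := Subgroup.card_le_of_le hY'
    rw [hY'm.card] at h3
    have h4 : (Nat.card U).factorization 2 = l * 3 + (Nat.card ↥(U ⊓ stabilizer G b)).factorization 2 := by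
      rw [h1, Nat.factorization_mul (pow_ne_zero _ (by omega)) Nat.card_pos.ne', Finsupp.add_apply, hl, ← pow_mul,
        Nat.prime_two.factorization_pow, Finsupp.single_eq_same]
    rw [hSm.card, h4, pow_add, pow_mul, ← hl] at h2
    have hpos : 0 < 2 ^ (Nat.card ↥(U ⊓ stabilizer G b)).factorization 2 := by positivity
    refine Nat.le_of_mul_le_mul_right (h2.trans_le (Nat.mul_le_mul_left _ h3)) hpos
  have hCcard : q ^ 3 * Nat.card A ≤ Nat.card C := by
    rw [card_eq_orbit_mul_stab C b]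
    refine Nat.mul_le_mul (hSo.trans (Set.ncard_le_ncard ?_ (Set.toFinite _))) (Subgroup.card_le_of_le fun g hg =>
      ⟨hAC hg, mem_stabilizer_iff.mpr (hAb g hg)⟩)
    rintro _ ⟨⟨z, hz⟩, rfl⟩
    exact ⟨⟨z, hSC hz⟩, rfl⟩
  have hYu : q ^ 2 ≤ (orb Y u).ncard := h.sq_le_orb.trans
    (Set.ncard_le_ncard (orb_mono (le_sup_right.trans hBY) u) (Set.toFinite _))
  have hlow : q ^ 2 * (q ^ 3 * Nat.card A) ≤ Nat.card Y := by
    rw [card_eq_orb_mul Y u]
    exact Nat.mul_le_mul hYu hCcard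
  have hup := h.card_two_le hY.isPGroup (hY.le.trans hMK)
  rw [← hq] at hup
  have hpos : 0 < q ^ 4 * Nat.card A := Nat.mul_pos (pow_pos (by omega) 4) Nat.card_pos
  have : 4 * (q ^ 4 * Nat.card A) ≤ q ^ 4 * Nat.card A :=
    ((Nat.mul_le_mul_right _ hq4).trans (by rw [← mul_assoc, ← pow_succ', ← mul_assoc, ← pow_add])).trans
      (hlow.trans hup)
  omega

end FCtx.UCtx

namespace FCtx

variable (hF : FCtx G Ω Z)
include hF

/-- With `q ^ 3 + 1` fixed points the construction exists. -/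
theorem exists_uctx (hbig : hF.Big) (a : Ω) :
    ∃ (u : G) (b : Ω) (A R : Subgroup G) (x : G), hF.UCtx u a b A R x := by
  classical
  haveI : Fact (Nat.Prime 2) := ⟨Nat.prime_two⟩
  obtain ⟨b, hba⟩ := exists_ne_point hF.ctx.hyp a
  obtain ⟨u₀, hu₀, hu₀a, hu₀b⟩ := hF.exists_isB_fix hba
  have hle : Subgroup.zpowers u₀ ≤ hF.kGrp a ⊓ stabilizer G b :=
    Subgroup.zpowers_le.mpr ⟨hF.isB_mem_kGrp hu₀ hu₀a, mem_stabilizer_iff.mpr hu₀b⟩
  obtain ⟨A, hA0, hA⟩ := exists_maxP (p := 2) (isPGroup_zpowers hu₀.1) hle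
  haveI : Nontrivial A :=
    ⟨⟨⟨u₀, hA0 (Subgroup.mem_zpowers u₀)⟩, 1, fun e => hu₀.1.1 (congrArg Subtype.val e)⟩⟩
  haveI := hA.isPGroup.center_nontrivial
  have h2 : 2 ∣ Nat.card (Subgroup.center A) := by
    obtain ⟨k, hk⟩ := (hA.isPGroup.to_subgroup (Subgroup.center A)).exists_card_eq
    rw [hk]
    refine dvd_pow_self 2 fun e => ?_
    rw [e, pow_zero] at hk
    have := Finite.one_lt_card (α := Subgroup.center A)
    omega
  obtain ⟨z, hz⟩ := exists_prime_orderOf_dvd_card' (G := Subgroup.center A) 2 h2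
  obtain ⟨hz2, hz1⟩ := CfsgLib.Involutions.orderOf_eq_two_iff'.mp hz
  set u : G := ((z : A) : G) with hudef
  have hu : IsInv u := ⟨fun e => hz1 (Subtype.ext (Subtype.ext e)),
    congrArg (fun w : Subgroup.center A => ((w : A) : G)) hz2⟩
  have huA : u ∈ A := (z : A).2
  have hua : u • a = a := (hF.mem_kGrp.mp (hA.le huA).1).1
  have hub : u • b = b := mem_stabilizer_iff.mp (hA.le huA).2
  have huB : IsB Ω u := hF.isB_of_fix_two hu hba.symm hua hub
  have hAK : A ≤ hF.kGrp a := hA.le.trans inf_le_left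
  have hAb : ∀ g ∈ A, g • b = b := fun g hg => mem_stabilizer_iff.mp (hA.le hg).2
  have hAu : ∀ g ∈ A, u * g = g * u := fun g hg =>
    (congrArg (fun w : A => (w : G)) (Subgroup.mem_center_iff.mp z.2 ⟨g, hg⟩)).symm
  obtain ⟨p, hp, hp2, X, hX, hX1, hXK, hXb, hXW, hXA⟩ :=
    hF.exists_inv_sylow hbig huB hua hub hba hA.isPGroup hAK hAb hAu
  haveI : Fact p.Prime := ⟨hp⟩
  have hXu : ∀ y ∈ X, u * y = y * u := fun y hy => wGrp_comm (hXW hy)
  obtain ⟨R, hR2, hRK, hRC, hRc, hRE, hRsq, hRconj, hRcen, hRfree⟩ :=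
    hF.exists_root hbig huB hua hub hba hp2 hX hX1 hXK hXb hXu
  obtain ⟨x, hx, hx1⟩ : ∃ x ∈ X, x ≠ 1 := by
    by_contra hne
    push Not at hne
    exact hX1 ((Subgroup.eq_bot_iff_forall _).mpr hne)
  refine ⟨u, b, A, R, x, ⟨hbig, huB, hua, hub, hba, hA, huA, hAu, hXK hx, hXb x hx, hXW hx,
    CfsgLib.Bender.TwoClosed.odd_orderOf_of_pGroup hp2 hX hx, fun c hc hxc => ?_, hR2, hRK,
    fun r hr => Subgroup.mem_centralizer_iff.mp (hRC hr) x hx, hRc, hRE, hRsq,
    fun g hg r hr => hRconj g (hF.mem_kGrp.mp (hAK hg)).1 (hXA g hg) r hr, fun j hj r hr => ?_,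
    fun r hr hur => hF.centre_mem_line hbig huB hua hub hba hp2 hX hX1 hXK hXb hXu (hRcen r hr) hur, hRfree⟩⟩
  · have hxle : Subgroup.zpowers x ≤ X := Subgroup.zpowers_le.mpr hx
    rw [← (hF.line_count hbig huB hua hub hba hp2 (hX.to_le hxle)
      (fun e => hx1 (Subgroup.zpowers_eq_bot.mp e)) (hxle.trans hXK) (fun y hy => hXb y (hxle hy))
      (fun y hy => hXu y (hxle hy))).2.2]
    exact ⟨hc, fun y hy => fix_of_zpowers hxc y hy⟩
  · obtain ⟨hja, hjb⟩ := hF.jGrp_fix hba hj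
    refine hRconj j hja (mem_normalizer_of_conj fun y hy => ?_) r hr
    rw [← hF.commute_kGrp_jGrp hba (hXK hy) (hXb y hy) hj, mul_inv_cancel_right]
    exact hy

/-- No full involution fixes `q ^ 3 + 1` points. -/
theorem not_big : ¬ hF.Big := fun hbig => by
  obtain ⟨-, a, -, -, -, -⟩ := hF.exists_isB.choose_spec
  obtain ⟨u, b, A, R, x, h⟩ := hF.exists_uctx hbig a
  exact h.false

/-- At most `q ^ 2 + 1` fixed points. -/
theorem small : hF.Small := by
  intro u a hu ha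
  by_contra hlt
  refine hF.not_big fun v c hv hc => ?_
  have h1 := hF.fixCard_eq hv hu
  rw [h1, hF.card_eGrp_eq c a]
  have h4 := hF.four_le_card a
  have h2 : Nat.card (hF.eGrp a) ≤ Nat.card (hF.eGrp a) ^ 2 := Nat.le_self_pow two_ne_zero _
  rcases hF.fixCard_cases hu ha with h | h | h
  · omega
  · omega
  · exact h

end FCtx

end CfsgLib.Bender.Q
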