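import Cfsg.Agent.Lib.Bender.Q.Full.UnitaryIrred

/-!
`q ^ 3 + 1` fixed points: the commutators with the odd element centralise the conjugates of the full involution under
the group regular on the centres, so the centraliser of these is transitive on the other fixed points.

Blueprint: `blueprint/bender/Q_VII.md` 5, 6.
-/

set_option autoImplicit false
set_option linter.unusedSectionVars false
set_option linter.style.haveILetI false

universe u

namespace CfsgLib.Bender.Q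

open MulAction Cfsg CfsgLib.SuzukiRankOne
open scoped Pointwise
open CfsgLib.Bender.TwoClosed (IsInv two mem_two smul_conj MaxP exists_maxP maxP_of_card mem_normalizer_of_conj
  conj_mem_of_normalizer exists_mem_normalizer)

variable {G Ω : Type u} [Group G] [MulAction G Ω] {Z : Set G} [Finite G] [FaithfulSMul G Ω]

namespace FCtx

/-- The elements centralising the members at `a` which move `u` inside `u` times them. -/
def shiftGrp (hF : FCtx G Ω Z) (u : G) (a : Ω) : Subgroup G where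
  carrier := {g | g ∈ hF.kGrp a ∧ ∃ e ∈ hF.eGrp a, g * u * g⁻¹ = u * e}
  one_mem' := ⟨one_mem _, 1, one_mem _, by group⟩
  mul_mem' := by
    rintro g k ⟨hg, e, he, hge⟩ ⟨hk, f, hf, hkf⟩
    refine ⟨Subgroup.mul_mem _ hg hk, e * f, mul_mem he hf, ?_⟩
    calc g * k * u * (g * k)⁻¹ = g * (k * u * k⁻¹) * g⁻¹ := by group
      _ = g * u * (f * g⁻¹) := by rw [hkf]; group
      _ = g * u * (g⁻¹ * f) := by rw [(hF.mem_kGrp.mp (inv_mem hg)).2 f hf]
      _ = u * (e * f) := by rw [← mul_assoc, hge]; group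
  inv_mem' := by
    rintro g ⟨hg, e, he, hge⟩
    refine ⟨inv_mem hg, e⁻¹, inv_mem he, ?_⟩
    have hge' : g⁻¹ * e⁻¹ = e⁻¹ * g⁻¹ := ((hF.mem_kGrp.mp (inv_mem hg)).2 _ (inv_mem he)).symm
    calc g⁻¹ * u * g⁻¹⁻¹ = g⁻¹ * (u * e) * (e⁻¹ * g) := by group
      _ = g⁻¹ * (g * u * g⁻¹) * (e⁻¹ * g) := by rw [hge]
      _ = u * (g⁻¹ * e⁻¹) * g := by group
      _ = u * e⁻¹ := by rw [hge']; group

/-- The elements of the kernel at `a` centralising all conjugates of `u` under `R`. -/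
def conjCent (hF : FCtx G Ω Z) (u : G) (a : Ω) (R : Subgroup G) : Subgroup G :=
  hF.kGrp a ⊓ Subgroup.centralizer (orb R u)

variable (hF : FCtx G Ω Z)
include hF

theorem mem_shiftGrp {u : G} {a : Ω} {g : G} :
    g ∈ hF.shiftGrp u a ↔ g ∈ hF.kGrp a ∧ ∃ e ∈ hF.eGrp a, g * u * g⁻¹ = u * e := Iff.rfl

theorem mem_conjCent {u : G} {a : Ω} {R : Subgroup G} {z : G} :
    z ∈ hF.conjCent u a R ↔ z ∈ hF.kGrp a ∧ ∀ r ∈ R, r * u * r⁻¹ * z = z * (r * u * r⁻¹) := by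
  rw [conjCent, Subgroup.mem_inf, Subgroup.mem_centralizer_iff]
  refine and_congr Iff.rfl ⟨fun h r hr => h _ ⟨r, hr, rfl⟩, ?_⟩
  rintro h _ ⟨r, hr, rfl⟩
  exact h r hr

end FCtx

namespace FCtx.UCtx

variable {hF : FCtx G Ω Z} {u : G} {a b : Ω} {A R : Subgroup G} {x : G} (h : hF.UCtx u a b A R x)
include h

theorem root_fix {r : G} (hr : r ∈ R) : r • a = a := (hF.mem_kGrp.mp (h.root_K hr)).1

theorem shift_normalizer {g : G} (hg : g ∈ hF.shiftGrp u a) :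
    g ∈ Subgroup.normalizer (hF.uGrp u a : Set G) := mem_normalizer_of_conj fun y hy => by
  obtain ⟨hgK, e, he, hge⟩ := hF.mem_shiftGrp.mp hg
  obtain ⟨hyK, hyu⟩ := hF.mem_uGrp.mp hy
  rw [← hF.uGrp_mul h.isB h.fix_a he, hF.mem_uGrp, ← hge]
  exact ⟨hF.kGrp_normal (hF.mem_kGrp.mp hgK).1 hyK, by rw [conj_mul, hyu, conj_mul]⟩

/-- The part of `R` moving `u` inside `u` times the members moves the elements of the group by the part centralising
`x`. -/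
theorem shift_comm : ∀ r ∈ R ⊓ hF.shiftGrp u a, ∀ t ∈ hF.uTwo u a, r * t * r⁻¹ * t⁻¹ ∈ hF.nTwo u a x := by
  haveI : Fact (Nat.Prime 2) := ⟨Nat.prime_two⟩
  set R' := R ⊓ hF.shiftGrp u a with hR'
  set N := hF.nTwo u a x with hN
  set T := hF.uTwo u a with hT
  set Q := hF.qGrp h.isB h.fix_a
  have hRT : ∀ r ∈ R', ∀ t ∈ T, r * t * r⁻¹ ∈ T := fun r hr t ht => hF.uTwo_conj (h.shift_normalizer hr.2) ht
  have hRN : ∀ r ∈ R', r ∈ Subgroup.normalizer (N : Set G) := fun r hr =>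
    h.normalizer_nTwo (h.shift_normalizer hr.2) (h.root_x r hr.1)
  let F : Subgroup G :=
    { carrier := {t | t ∈ T ∧ ∀ r ∈ R', r * t * r⁻¹ * t⁻¹ ∈ N}
      one_mem' := ⟨one_mem _, fun r _ => by simp⟩
      mul_mem' := by
        rintro t s ⟨ht, ht'⟩ ⟨hs, hs'⟩
        refine ⟨Subgroup.mul_mem _ ht hs, fun r hr => ?_⟩
        rw [show r * (t * s) * r⁻¹ * (t * s)⁻¹ = (r * t * r⁻¹ * t⁻¹) * (t * (r * s * r⁻¹ * s⁻¹) * t⁻¹) by group]
        exact Subgroup.mul_mem _ (ht' r hr) (conj_mem_of_normalizer (h.nTwo_normal ht) (hs' r hr))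
      inv_mem' := by
        rintro t ⟨ht, ht'⟩
        refine ⟨inv_mem ht, fun r hr => ?_⟩
        rw [show r * t⁻¹ * r⁻¹ * t⁻¹⁻¹ = t⁻¹ * (r * t * r⁻¹ * t⁻¹)⁻¹ * t⁻¹⁻¹ by group]
        exact conj_mem_of_normalizer (h.nTwo_normal (inv_mem ht)) (inv_mem (ht' r hr)) }
  have hmemF : ∀ {t : G}, t ∈ F ↔ t ∈ T ∧ ∀ r ∈ R', r * t * r⁻¹ * t⁻¹ ∈ N := Iff.rfl
  have hNF : N ≤ F := fun t ht => hmemF.mpr ⟨hF.nTwo_le u a x ht, fun r hr =>
    Subgroup.mul_mem _ (conj_mem_of_normalizer (hRN r hr) ht) (inv_mem ht)⟩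
  -- a normalised element outside
  have hR'T : R' ≤ Subgroup.normalizer (T : Set G) := fun r hr => mem_normalizer_of_conj (hRT r hr)
  have hG2 : IsPGroup 2 (R' ⊔ T : Subgroup G) :=
    (h.root_two.to_le inf_le_left).to_sup_of_normal_right' (hF.isPGroup_uTwo u a) hR'T
  set M := R' ⊔ N with hM
  have hMx : M ≤ Subgroup.centralizer ({x} : Set G) :=
    sup_le (fun r hr => mem_cent_iff.mpr (h.root_x r hr.1)) (fun y hy => hy.2)
  have hMT : ∀ y ∈ M, y ∈ T → y ∈ N := fun y hy hyT => ⟨hyT, hMx hy⟩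
  obtain ⟨t0, ht0, ht0N⟩ := h.exists_off
  obtain ⟨g, hg, hgM, hgn⟩ := exists_mem_normalizer hG2 (X := M)
    (lt_of_le_of_ne (sup_le_sup le_rfl (hF.nTwo_le u a x)) fun e => ht0N
      (hMT t0 (e ▸ Subgroup.mem_sup_right (h.qGrp_le_uTwo ht0)) (h.qGrp_le_uTwo ht0)))
  have hg' : g ∈ ((R' : Set G) * (T : Set G)) := by
    rw [← Subgroup.coe_mul_of_left_le_normalizer_right R' T hR'T]
    exact hg
  obtain ⟨r0, hr0, t, ht, rfl⟩ := Set.mem_mul.mp hg'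
  have hr0M : r0 ∈ M := Subgroup.mem_sup_left hr0
  have htn : t ∈ Subgroup.normalizer (M : Set G) := by
    have h1 := Subgroup.mul_mem _ (Subgroup.le_normalizer (inv_mem hr0M)) hgn
    rwa [inv_mul_cancel_left] at h1
  obtain ⟨q, hq, hqt⟩ := h.exists_qGrp_mul ht
  have hqn : q ∈ Subgroup.normalizer (M : Set G) := by
    have h1 := Subgroup.mul_mem _ htn (inv_mem (Subgroup.le_normalizer (Subgroup.mem_sup_right hqt : q⁻¹ * t ∈ M)))
    rwa [mul_inv_rev, inv_inv, mul_inv_cancel_left] at h1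
  have hqN : q ∉ N := fun e => hgM (by
    have h1 := Subgroup.mul_mem _ hr0M (Subgroup.mem_sup_right (Subgroup.mul_mem _ e hqt) : q * (q⁻¹ * t) ∈ M)
    rwa [mul_inv_cancel_left] at h1)
  have hqF : q ∈ F := hmemF.mpr ⟨h.qGrp_le_uTwo hq, fun r hr => by
    refine hMT _ ?_ (Subgroup.mul_mem _ (hRT r hr q (h.qGrp_le_uTwo hq)) (inv_mem (h.qGrp_le_uTwo hq)))
    rw [show r * q * r⁻¹ * q⁻¹ = r * (q * r⁻¹ * q⁻¹) by group]
    exact Subgroup.mul_mem _ (Subgroup.mem_sup_left hr)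
      (conj_mem_of_normalizer hqn (Subgroup.mem_sup_left (inv_mem hr)))⟩
  have hQF : Q ≤ F ⊓ Q := h.irreducible inf_le_right (fun y hy hyN => ⟨hNF hyN, hy⟩)
    (fun j hj y hy => by
      obtain ⟨hja, hju, hjx, hjn⟩ := h.jGrp_facts hj
      have hjN := h.normalizer_nTwo hjn hjx
      refine ⟨hmemF.mpr ⟨hF.uTwo_conj hjn (hmemF.mp hy.1).1, fun r hr => ?_⟩,
        hF.qGrp_conj h.isB h.fix_a (keeps_of_comm hju) hja hy.2⟩
      have hr' : j⁻¹ * r * j⁻¹⁻¹ ∈ R' := by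
        refine ⟨h.root_J j⁻¹ (inv_mem hj) r hr.1, ?_⟩
        obtain ⟨hrK, e, he, hre⟩ := hF.mem_shiftGrp.mp hr.2
        have hji : j⁻¹ • a = a := inv_smul_eq_iff.mpr hja.symm
        have he' := hF.eGrp_conj (g := j⁻¹) he
        rw [hji] at he'
        refine hF.mem_shiftGrp.mpr ⟨hF.kGrp_normal hji hrK, _, he', ?_⟩
        have hu' : j⁻¹ * u * j⁻¹⁻¹ = u := by rw [mul_assoc, inv_inv, hju, inv_mul_cancel_left]
        calc j⁻¹ * r * j⁻¹⁻¹ * u * (j⁻¹ * r * j⁻¹⁻¹)⁻¹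
            = j⁻¹ * r * j⁻¹⁻¹ * (j⁻¹ * u * j⁻¹⁻¹) * (j⁻¹ * r * j⁻¹⁻¹)⁻¹ := by rw [hu']
          _ = j⁻¹ * (r * u * r⁻¹) * j⁻¹⁻¹ := by group
          _ = (j⁻¹ * u * j⁻¹⁻¹) * (j⁻¹ * e * j⁻¹⁻¹) := by rw [hre]; group
          _ = _ := by rw [hu']
      have h1 := conj_mem_of_normalizer hjN ((hmemF.mp hy.1).2 _ hr')
      rwa [show j * (j⁻¹ * r * j⁻¹⁻¹ * y * (j⁻¹ * r * j⁻¹⁻¹)⁻¹ * y⁻¹) * j⁻¹ =
        r * (j * y * j⁻¹) * r⁻¹ * (j * y * j⁻¹)⁻¹ by group] at h1)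
    (fun y hy => by
      refine ⟨hmemF.mpr ⟨hF.uTwo_conj h.x_normalizer (hmemF.mp hy.1).1, fun r hr => ?_⟩,
        hF.qGrp_conj h.isB h.fix_a (keeps_of_comm h.x_comm) h.x_fix hy.2⟩
      have h1 := conj_mem_of_normalizer (h.normalizer_nTwo h.x_normalizer rfl) ((hmemF.mp hy.1).2 r hr)
      have hc : Commute x r := h.root_x r hr.1
      have h2 : r * (x * y * x⁻¹) * r⁻¹ * (x * y * x⁻¹)⁻¹ = x * (r * y * r⁻¹ * y⁻¹) * x⁻¹ := by
        calc r * (x * y * x⁻¹) * r⁻¹ * (x * y * x⁻¹)⁻¹ = (r * x) * y * (x⁻¹ * r⁻¹) * x * y⁻¹ * x⁻¹ := by group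
          _ = (x * r) * y * (r * x)⁻¹ * x * y⁻¹ * x⁻¹ := by rw [hc.eq]; group
          _ = (x * r) * y * (x * r)⁻¹ * x * y⁻¹ * x⁻¹ := by rw [hc.eq]
          _ = x * (r * y * r⁻¹ * y⁻¹) * x⁻¹ := by group
      rw [h2]
      exact h1)
    ⟨q, ⟨hqF, hq⟩, hqN⟩
  intro r hr t ht
  obtain ⟨q', hq', hqt'⟩ := h.exists_qGrp_mul ht
  have h1 := F.mul_mem (hQF hq').1 (hNF hqt')
  rw [mul_inv_cancel_left] at h1
  exact (hmemF.mp h1).2 r hr

/-- The commutators with `x` centralise the conjugates of `u` under `R`. -/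
theorem comm_mem_conjCent {t : G} (ht : t ∈ hF.uTwo u a) : t * x * t⁻¹ * x⁻¹ ∈ hF.conjCent u a R := by
  have htU := hF.uTwo_le u a ht
  set y := t * x * t⁻¹ * x⁻¹ with hy
  have hyU : y ∈ hF.uGrp u a :=
    Subgroup.mul_mem _ (Subgroup.mul_mem _ (Subgroup.mul_mem _ htU h.x_mem) (inv_mem htU)) (inv_mem h.x_mem)
  refine hF.mem_conjCent.mpr ⟨(hF.mem_uGrp.mp hyU).1, fun ρ hρ => ?_⟩
  have hui := h.isB.1
  set s := u * ρ * u * ρ⁻¹ with hs
  have hρu : ρ * u * ρ⁻¹ = u * s := by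
    rw [hs, ← mul_assoc, ← mul_assoc, ← mul_assoc, hui.2, one_mul]
  have hsR : s ∈ R := by
    have h1 := h.root_A u h.u_mem ρ hρ
    rw [hui.inv] at h1
    exact R.mul_mem h1 (inv_mem hρ)
  have husu : u * s * u = s⁻¹ := by
    have h1 : (u * s) * (u * s) = 1 := by rw [← hρu, conj_mul, hui.2, mul_one, mul_inv_cancel]
    exact eq_inv_of_mul_eq_one_left (by rw [← h1]; group)
  have hsR' : s ∈ R ⊓ hF.shiftGrp u a := by
    refine ⟨hsR, hF.mem_shiftGrp.mpr ⟨h.root_K hsR, (s * s)⁻¹, inv_mem (h.root_sq s hsR), ?_⟩⟩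
    have h2 : s * u = u * s⁻¹ := by rw [← husu, ← mul_assoc, ← mul_assoc, hui.2, one_mul]
    rw [h2, mul_assoc, ← mul_inv_rev]
  -- `s` centralises the commutator
  have hc := h.shift_comm s hsR' t ht
  have hsy : Commute s y := by
    have hc' : t⁻¹ * (s * t * s⁻¹ * t⁻¹) * t⁻¹⁻¹ ∈ hF.nTwo u a x :=
      conj_mem_of_normalizer (h.nTwo_normal (inv_mem ht)) hc
    have hcx : Commute x (t⁻¹ * (s * t * s⁻¹)) := by
      have := (hF.mem_nTwo.mp hc').2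
      rwa [show t⁻¹ * (s * t * s⁻¹ * t⁻¹) * t⁻¹⁻¹ = t⁻¹ * (s * t * s⁻¹) by group] at this
    have hsx : Commute s x := (h.root_x s hsR).symm
    have h1 : s * y * s⁻¹ = y := by
      calc s * y * s⁻¹ = (s * t * s⁻¹) * (s * x * s⁻¹) * (s * t * s⁻¹)⁻¹ * (s * x * s⁻¹)⁻¹ := by rw [hy]; group
        _ = t * ((t⁻¹ * (s * t * s⁻¹)) * x) * (t⁻¹ * (s * t * s⁻¹))⁻¹ * t⁻¹ * x⁻¹ := by
            rw [show s * x * s⁻¹ = x by rw [hsx.eq, mul_inv_cancel_right]]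
            group
        _ = y := by rw [← hcx.eq, hy]; group
    exact mul_inv_eq_iff_eq_mul.mp h1
  have huy : Commute u y := hF.uGrp_comm hyU
  rw [hρu]
  exact (huy.mul_left hsy).eq

theorem eGrp_le_conjCent : hF.eGrp a ≤ hF.conjCent u a R := fun e he => by
  refine hF.mem_conjCent.mpr ⟨hF.eGrp_le_kGrp a he, fun r hr => ?_⟩
  have h1 : Commute e r := (hF.mem_kGrp.mp (h.root_K hr)).2 e he
  have h2 : Commute e u := (hF.commute_eGrp h.isB.1 h.fix_a he).symm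
  exact ((h1.mul_right h2).mul_right h1.inv_right).eq.symm

/-- The centraliser of the conjugates of `u` is transitive on the other fixed points of `u`. -/
theorem exists_conjCent_smul {c : Ω} (hc : u • c = c) (hca : c ≠ a) : ∃ y ∈ hF.conjCent u a R, y • b = c := by
  classical
  haveI : Fact (Nat.Prime 2) := ⟨Nat.prime_two⟩
  set T := hF.uTwo u a with hT
  set N := hF.nTwo u a x with hN
  let N' : Subgroup T := N.subgroupOf T
  have hxT : ∀ t ∈ T, t * x * t⁻¹ * x⁻¹ ∈ T := fun t ht => by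
    rw [show t * x * t⁻¹ * x⁻¹ = t * (x * t⁻¹ * x⁻¹) by group]
    exact Subgroup.mul_mem _ ht (hF.uTwo_conj h.x_normalizer (inv_mem ht))
  let f : (T ⧸ N') × N' → T := fun p =>
    ⟨((p.1.out : T) : G) * x * ((p.1.out : T) : G)⁻¹ * x⁻¹ * ((p.2 : T) : G),
      T.mul_mem (hxT _ p.1.out.2) (p.2 : T).2⟩
  have hf : Function.Injective f := by
    rintro ⟨k, c1⟩ ⟨k', c2⟩ he
    have he' := congrArg Subtype.val he
    simp only [f] at he'
    set t := ((k.out : T) : G) with ht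
    set t' := ((k'.out : T) : G) with ht'
    have htT : t ∈ T := k.out.2
    have ht'T : t' ∈ T := k'.out.2
    have hc1 : ((c1 : T) : G) ∈ N := c1.2
    have hc2 : ((c2 : T) : G) ∈ N := c2.2
    set d := t'⁻¹ * t with hd
    set U := x * t * x⁻¹ with hU
    have hUT : U ∈ T := hF.uTwo_conj h.x_normalizer htT
    have hc3 : U⁻¹ * (((c1 : T) : G) * ((c2 : T) : G)⁻¹) * U⁻¹⁻¹ ∈ N :=
      conj_mem_of_normalizer (h.nTwo_normal (inv_mem hUT)) (Subgroup.mul_mem _ hc1 (inv_mem hc2))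
    have hdx : x * d * x⁻¹ = d * (U⁻¹ * (((c1 : T) : G) * ((c2 : T) : G)⁻¹) * U⁻¹⁻¹) := by
      have e1 : t'⁻¹ * (t * x * t⁻¹ * x⁻¹ * ((c1 : T) : G)) * ((c2 : T) : G)⁻¹ = x * t'⁻¹ * x⁻¹ := by
        rw [he']
        group
      rw [hd, hU, show x * (t'⁻¹ * t) * x⁻¹ = (x * t'⁻¹ * x⁻¹) * (x * t * x⁻¹) by group, ← e1]
      group
    obtain ⟨hmT, hmx⟩ := hF.mem_nTwo.mp hc3
    set m := U⁻¹ * (((c1 : T) : G) * ((c2 : T) : G)⁻¹) * U⁻¹⁻¹ with hm
    have hdT : d ∈ T := T.mul_mem (inv_mem ht'T) htT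
    have hmc : Commute x m := hmx
    have hiter : ∀ n : ℕ, x ^ n * d * (x ^ n)⁻¹ = d * m ^ n := by
      intro n
      induction n with
      | zero => simp
      | succ n ih =>
        calc x ^ (n + 1) * d * (x ^ (n + 1))⁻¹ = x * (x ^ n * d * (x ^ n)⁻¹) * x⁻¹ := by rw [pow_succ']; group
          _ = (x * d * x⁻¹) * (x * m ^ n * x⁻¹) := by rw [ih]; group
          _ = d * m * m ^ n := by rw [hdx, (hmc.pow_right n).eq, mul_inv_cancel_right]
          _ = d * m ^ (n + 1) := by rw [pow_succ', mul_assoc]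
    have h2 := hiter (orderOf x)
    rw [pow_orderOf_eq_one, one_mul, inv_one, mul_one, eq_comm, mul_eq_left] at h2
    obtain ⟨i, hi⟩ := hF.isPGroup_uTwo u a ⟨m, hmT⟩
    have hm1 : m = 1 := orderOf_eq_one_iff.mp (Nat.eq_one_of_dvd_coprimes
      ((Nat.coprime_two_left.mpr h.x_odd).pow_left i)
      (orderOf_dvd_of_pow_eq_one (show m ^ 2 ^ i = 1 from congrArg Subtype.val hi)) (orderOf_dvd_of_pow_eq_one h2))
    rw [hm1, mul_one, mul_inv_eq_iff_eq_mul] at hdx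
    have hdN : (k'.out)⁻¹ * k.out ∈ N' := hF.mem_nTwo.mpr ⟨hdT, hdx⟩
    have hk : k' = k := by
      rw [← QuotientGroup.out_eq' k, ← QuotientGroup.out_eq' k']
      exact QuotientGroup.eq.mpr hdN
    subst hk
    rw [← ht, ← ht'] at *
    exact Prod.ext rfl (Subtype.ext (Subtype.ext (mul_left_cancel he')))
  have hcard : Nat.card ((T ⧸ N') × N') = Nat.card T := by
    rw [Nat.card_prod, ← Subgroup.card_eq_card_quotient_mul_card_subgroup]
  obtain ⟨q, hq, hqb⟩ := hF.exists_qGrp_smul h.isB h.fix_a h.fix_b h.ne hc hca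
  obtain ⟨⟨k, c1⟩, hk⟩ := ((Nat.bijective_iff_injective_and_card f).mpr ⟨hf, hcard⟩).2 ⟨q, h.qGrp_le_uTwo hq⟩
  have hk' := congrArg Subtype.val hk
  simp only [f] at hk'
  obtain ⟨e, he, heb⟩ := h.nTwo_line (t := ((c1 : T) : G)) c1.2
  refine ⟨_, Subgroup.mul_mem _ (h.comm_mem_conjCent (k.out).2) (h.eGrp_le_conjCent he), ?_⟩
  rw [mul_smul, heb, ← mul_smul, hk', hqb]

end FCtx.UCtx

end CfsgLib.Bender.Q
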