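import Cfsg.Agent.Lib.Bender.Q.Full.UnitaryTop
import Cfsg.Agent.Lib.Bender.Q.Full.Small
import Cfsg.Agent.Lib.Bender.Q.Full.Kernel

/-!
`q ^ 3 + 1` fixed points: the largest normal `2`-subgroup of the centraliser of the full involution in the kernel at
the point, the part of it centralising the odd element, and the irreducibility of what lies between them.

Blueprint: `blueprint/bender/Q_VII.md` 4, 5.
-/

set_option autoImplicit false
set_option linter.unusedSectionVars false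
set_option linter.style.haveILetI false

universe u

namespace CfsgLib.Bender.Q

open MulAction Cfsg CfsgLib.SuzukiRankOne
open CfsgLib.Bender.TwoClosed (IsInv two mem_two smul_conj MaxP exists_maxP maxP_of_card mem_normalizer_of_conj
  conj_mem_of_normalizer exists_mem_normalizer)

/-- The order of a group acting freely divides the number of points. -/
theorem card_dvd_of_semiregular {H T : Type u} [Group H] [MulAction H T]
    (hfree : ∀ (h : H) (t : T), h • t = t → h = 1) : Nat.card H ∣ Nat.card T := by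
  rw [Nat.card_congr (MulAction.selfEquivOrbitsQuotientProd fun t : T =>
    (Subgroup.eq_bot_iff_forall _).mpr fun h hh => hfree h t (mem_stabilizer_iff.mp hh)), Nat.card_prod]
  exact dvd_mul_left _ _

/-- A power of two above `q = 2 ^ l`, congruent to `q` modulo `q - 1` and at most `q ^ 3`. -/
theorem two_pow_cases {l n : ℕ} (hl : 1 ≤ l) (h1 : 2 ^ l < 2 ^ n) (h3 : 2 ^ n ≤ (2 ^ l) ^ 3)
    (hd : 2 ^ l - 1 ∣ 2 ^ n - 2 ^ l) : 2 ^ n = (2 ^ l) ^ 2 ∨ 2 ^ n = (2 ^ l) ^ 3 := by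
  rw [← pow_mul] at h3
  have hln : l < n := (Nat.pow_lt_pow_iff_right (by norm_num)).mp h1
  have hn3 : n ≤ l * 3 := (Nat.pow_le_pow_iff_right (by norm_num)).mp h3
  obtain ⟨i, rfl⟩ : ∃ i, n = l + i := ⟨n - l, by omega⟩
  have hq2 : 2 ≤ 2 ^ l := by simpa using Nat.pow_le_pow_right (n := 2) (by norm_num) hl
  have hcop : Nat.Coprime (2 ^ l - 1) (2 ^ l) :=
    (Nat.coprime_self_sub_left (by omega : 1 ≤ 2 ^ l)).mpr (Nat.coprime_one_left _)
  rw [pow_add, show 2 ^ l * 2 ^ i - 2 ^ l = 2 ^ l * (2 ^ i - 1) by rw [Nat.mul_sub, mul_one]] at hd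
  have hd' := hcop.dvd_of_dvd_mul_left hd
  have hiff : l ∣ i := by
    have h := Nat.pow_sub_one_gcd_pow_sub_one 2 l i
    rw [Nat.gcd_eq_left hd'] at h
    have h2 : 2 ^ Nat.gcd l i = 2 ^ l := by
      have h3 : 1 ≤ 2 ^ Nat.gcd l i := Nat.one_le_two_pow
      omega
    exact (Nat.pow_right_injective (le_refl 2) h2) ▸ Nat.gcd_dvd_right l i
  obtain ⟨k, rfl⟩ := hiff
  have hk2 : k ≤ 2 := by
    by_contra h
    have : l * 3 ≤ l * k := Nat.mul_le_mul_left _ (by omega)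
    omega
  have hk0 : k ≠ 0 := fun h => by
    rw [h, mul_zero] at hln
    omega
  rcases (show k = 1 ∨ k = 2 by omega) with rfl | rfl
  · left; rw [← pow_mul]; congr 1; ring
  · right; rw [← pow_mul]; congr 1; ring

variable {G Ω : Type u} [Group G] [MulAction G Ω] {Z : Set G} [Finite G] [FaithfulSMul G Ω]

namespace FCtx

/-- What the construction gives. -/
structure UCtx (hF : FCtx G Ω Z) (u : G) (a b : Ω) (A R : Subgroup G) (x : G) : Prop where
  big : hF.Big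
  isB : IsB Ω u
  fix_a : u • a = a
  fix_b : u • b = b
  ne : b ≠ a
  maxP : MaxP 2 (hF.kGrp a ⊓ stabilizer G b) A
  u_mem : u ∈ A
  A_comm : ∀ g ∈ A, u * g = g * u
  x_K : x ∈ hF.kGrp a
  x_b : x • b = b
  x_W : x ∈ wGrp Z u
  x_odd : Odd (orderOf x)
  x_line : ∀ c : Ω, u • c = c → x • c = c → c ∈ hF.eLine a b
  root_two : IsPGroup 2 R
  root_K : R ≤ hF.kGrp a
  root_x : ∀ r ∈ R, x * r = r * x
  root_card : Nat.card R = Nat.card (hF.eGrp a) ^ 3
  root_E : hF.eGrp a ≤ R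
  root_sq : ∀ r ∈ R, r * r ∈ hF.eGrp a
  root_A : ∀ g ∈ A, ∀ r ∈ R, g * r * g⁻¹ ∈ R
  root_J : ∀ j ∈ jGrp Z a b, ∀ r ∈ R, j * r * j⁻¹ ∈ R
  root_line : ∀ r ∈ R, u • r • b = r • b → r • b ∈ hF.eLine a b
  root_free : ∀ r ∈ R, r • b = b → r = 1

/-- The intersection of the Sylow `2`-subgroups of the centraliser of `u` in the kernel at `a`. -/
def uTwo (hF : FCtx G Ω Z) (u : G) (a : Ω) : Subgroup G := sInf {S | MaxP 2 (hF.uGrp u a) S}

/-- The part of it centralising `x`. -/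
def nTwo (hF : FCtx G Ω Z) (u : G) (a : Ω) (x : G) : Subgroup G :=
  hF.uTwo u a ⊓ Subgroup.centralizer ({x} : Set G)

variable (hF : FCtx G Ω Z)
include hF

theorem exists_maxP_uGrp (u : G) (a : Ω) : ∃ S, MaxP 2 (hF.uGrp u a) S := by
  obtain ⟨S, -, hS⟩ := exists_maxP (p := 2) (K := hF.uGrp u a) (IsPGroup.of_bot (p := 2) (G := G)) bot_le
  exact ⟨S, hS⟩

theorem mem_uTwo {u : G} {a : Ω} {y : G} : y ∈ hF.uTwo u a ↔ ∀ S, MaxP 2 (hF.uGrp u a) S → y ∈ S :=
  Subgroup.mem_sInf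

theorem uTwo_le (u : G) (a : Ω) : hF.uTwo u a ≤ hF.uGrp u a := fun y hy => by
  obtain ⟨S, hS⟩ := hF.exists_maxP_uGrp u a
  exact hS.le (hF.mem_uTwo.mp hy S hS)

theorem isPGroup_uTwo (u : G) (a : Ω) : IsPGroup 2 (hF.uTwo u a) := by
  obtain ⟨S, hS⟩ := hF.exists_maxP_uGrp u a
  exact hS.isPGroup.to_le fun y hy => hF.mem_uTwo.mp hy S hS

theorem uTwo_fix {u : G} {a : Ω} {y : G} (hy : y ∈ hF.uTwo u a) : y • a = a := hF.uGrp_fix (hF.uTwo_le u a hy)

theorem uTwo_comm {u : G} {a : Ω} {y : G} (hy : y ∈ hF.uTwo u a) : u * y = y * u :=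
  hF.uGrp_comm (hF.uTwo_le u a hy)

theorem uTwo_conj {u : G} {a : Ω} {g y : G} (hg : g ∈ Subgroup.normalizer (hF.uGrp u a : Set G))
    (hy : y ∈ hF.uTwo u a) : g * y * g⁻¹ ∈ hF.uTwo u a := by
  haveI : Fact (Nat.Prime 2) := ⟨Nat.prime_two⟩
  refine hF.mem_uTwo.mpr fun S hS => ?_
  have hg' : g⁻¹ ∈ Subgroup.normalizer (hF.uGrp u a : Set G) := inv_mem hg
  have hS' : MaxP 2 (hF.uGrp u a) (S.map (MulAut.conj g⁻¹).toMonoidHom) := by
    refine maxP_of_card (hS.isPGroup.map _) ?_ ?_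
    · rintro _ ⟨s, hs, rfl⟩
      exact conj_mem_of_normalizer hg' (hS.le hs)
    · rw [Subgroup.card_map_of_injective (MulAut.conj g⁻¹).injective, hS.card]
  obtain ⟨s, hs, hsy⟩ := hF.mem_uTwo.mp hy _ hS'
  rw [← hsy]
  simpa [mul_assoc] using hs

theorem mem_nTwo {u : G} {a : Ω} {x y : G} : y ∈ hF.nTwo u a x ↔ y ∈ hF.uTwo u a ∧ x * y = y * x :=
  Iff.trans Subgroup.mem_inf (and_congr Iff.rfl mem_cent_iff)

theorem nTwo_le (u : G) (a : Ω) (x : G) : hF.nTwo u a x ≤ hF.uTwo u a := inf_le_left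

end FCtx

namespace FCtx.UCtx

variable {hF : FCtx G Ω Z} {u : G} {a b : Ω} {A R : Subgroup G} {x : G} (h : hF.UCtx u a b A R x)
include h

theorem x_fix : x • a = a := (hF.mem_kGrp.mp h.x_K).1

theorem x_comm : u * x = x * u := wGrp_comm h.x_W

theorem x_mem : x ∈ hF.uGrp u a := hF.mem_uGrp.mpr ⟨h.x_K, h.x_comm⟩

theorem conj_uGrp {g : G} (hga : g • a = a) (hgu : u * g = g * u) :
    g ∈ Subgroup.normalizer (hF.uGrp u a : Set G) := mem_normalizer_of_conj fun y hy => by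
  obtain ⟨hyK, hyu⟩ := hF.mem_uGrp.mp hy
  refine hF.mem_uGrp.mpr ⟨hF.kGrp_normal hga hyK, ?_⟩
  exact (Commute.mul_right (Commute.mul_right hgu hyu) (Commute.inv_right hgu)).eq

/-- The regular group of the involution is a `2`-group. -/
theorem isPGroup_qGrp : IsPGroup 2 (hF.qGrp h.isB h.fix_a) := fun y => by
  obtain ⟨k, hk⟩ := y.2.2.2
  obtain ⟨i, m, hm, e⟩ := Nat.exists_eq_pow_mul_and_not_dvd (orderOf_pos (y : G)).ne' 2 (by omega)
  refine ⟨i + k, Subtype.ext ?_⟩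
  set z := (y : G) ^ 2 ^ (i + k) with hz
  have hzU : z ∈ hF.uGrp u a := hF.qGrp_le_uGrp h.isB h.fix_a (pow_mem y.2 _)
  show z = 1
  refine hF.eq_one_of_fix_all h.big h.isB h.fix_a (hF.mem_uGrp.mp hzU).1 ?_ (hF.uGrp_comm hzU) ?_
  · have hodd : Odd m := Nat.odd_iff.mpr (Nat.two_dvd_ne_zero.mp hm)
    refine hodd.of_dvd_nat (orderOf_dvd_of_pow_eq_one ?_)
    rw [hz, ← pow_mul, pow_add, mul_assoc, mul_comm (2 ^ k), ← mul_assoc, ← e, pow_mul, pow_orderOf_eq_one, one_pow]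
  · rw [hz, add_comm, pow_add, pow_mul]
    have h1 := hk.pow (y := 1) (by rw [mul_one, one_mul]) (2 ^ i)
    rwa [one_pow] at h1

theorem qGrp_le_uTwo : hF.qGrp h.isB h.fix_a ≤ hF.uTwo u a := fun y hy => by
  haveI : Fact (Nat.Prime 2) := ⟨Nat.prime_two⟩
  refine hF.mem_uTwo.mpr fun S hS => ?_
  set Q := hF.qGrp h.isB h.fix_a
  have hn : S ≤ Subgroup.normalizer (Q : Set G) := fun g hg => mem_normalizer_of_conj fun q hq =>
    hF.qGrp_conj h.isB h.fix_a (keeps_of_comm (hF.uGrp_comm (hS.le hg))) (hF.uGrp_fix (hS.le hg)) hq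
  have hle : S ⊔ Q ≤ hF.uGrp u a := sup_le hS.le (hF.qGrp_le_uGrp h.isB h.fix_a)
  rw [← hS.eq_of_le (hS.isPGroup.to_sup_of_normal_right' h.isPGroup_qGrp hn) hle le_sup_left]
  exact Subgroup.mem_sup_right hy

theorem eGrp_le_uTwo : hF.eGrp a ≤ hF.uTwo u a :=
  (hF.eGrp_le_qGrp h.isB h.fix_a).trans h.qGrp_le_uTwo

theorem x_comm_eGrp {e : G} (he : e ∈ hF.eGrp a) : x * e = e * x := ((hF.mem_kGrp.mp h.x_K).2 e he).symm

theorem eGrp_le_nTwo : hF.eGrp a ≤ hF.nTwo u a x := fun _ he =>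
  hF.mem_nTwo.mpr ⟨h.eGrp_le_uTwo he, h.x_comm_eGrp he⟩

theorem x_normalizer : x ∈ Subgroup.normalizer (hF.uGrp u a : Set G) := h.conj_uGrp h.x_fix h.x_comm

/-- What fixes both points centralises `x`. -/
theorem comm_of_fix {β : G} (hβ : β ∈ hF.uTwo u a) (hβb : β • b = b) : x * β = β * x := by
  have hβa := hF.uTwo_fix hβ
  have hβu := hF.uTwo_comm hβ
  set z := β * x * β⁻¹ * x⁻¹ with hz
  have hzW : z ∈ wGrp Z u :=
    Subgroup.mul_mem _ (hF.wGrp_conj h.isB (keeps_of_comm hβu) h.x_W) (inv_mem h.x_W)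
  have hzT : z ∈ hF.uTwo u a := by
    rw [hz, show β * x * β⁻¹ * x⁻¹ = β * (x * β⁻¹ * x⁻¹) by group]
    exact Subgroup.mul_mem _ hβ (hF.uTwo_conj h.x_normalizer (inv_mem hβ))
  have hzb : z • b = b := by
    simp only [hz, mul_smul, inv_smul_eq_iff.mpr h.x_b.symm, inv_smul_eq_iff.mpr hβb.symm, h.x_b, hβb]
  obtain ⟨k, hk⟩ := hF.isPGroup_uTwo u a ⟨z, hzT⟩
  have hk' : z ^ 2 ^ k = 1 := congrArg Subtype.val hk
  have hag := hF.agree_one_of_two h.big h.isB h.fix_a h.fix_b h.ne hzW (hF.uTwo_fix hzT) hzb (k := k)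
    (by rw [hk']; exact Agree.refl u 1)
  have hzx : Commute z x := hF.commute_w_of_fix_all h.isB hag h.x_W
  have hiter : ∀ n : ℕ, x ^ n * β * (x ^ n)⁻¹ = z⁻¹ ^ n * β := by
    intro n
    induction n with
    | zero => simp
    | succ n ih =>
      have h1 : Commute x (z⁻¹ ^ n) := (hzx.symm.inv_right).pow_right n
      calc x ^ (n + 1) * β * (x ^ (n + 1))⁻¹ = x * (x ^ n * β * (x ^ n)⁻¹) * x⁻¹ := by rw [pow_succ']; group
        _ = x * z⁻¹ ^ n * β * x⁻¹ := by rw [ih]; group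
        _ = z⁻¹ ^ n * (x * β * x⁻¹) := by rw [h1.eq]; group
        _ = z⁻¹ ^ n * (z⁻¹ * β) := by
            have e : x * β⁻¹ * x⁻¹ = β⁻¹ * z := by rw [hz]; group
            rw [show x * β * x⁻¹ = (x * β⁻¹ * x⁻¹)⁻¹ by group, e]
            group
        _ = z⁻¹ ^ (n + 1) * β := by rw [pow_succ]; group
  have h2 := hiter (orderOf x)
  rw [pow_orderOf_eq_one, one_mul, inv_one, mul_one, eq_comm, mul_eq_right, inv_pow, inv_eq_one] at h2
  have hz1 : z = 1 := orderOf_eq_one_iff.mp (Nat.eq_one_of_dvd_coprimes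
    ((Nat.coprime_two_left.mpr h.x_odd).pow_left k) (orderOf_dvd_of_pow_eq_one hk') (orderOf_dvd_of_pow_eq_one h2))
  rw [hz, mul_inv_eq_one, mul_inv_eq_iff_eq_mul] at hz1
  exact hz1.symm

/-- An element centralising `x` maps `b` into the line. -/
theorem nTwo_line {t : G} (ht : t ∈ hF.nTwo u a x) : ∃ e ∈ hF.eGrp a, e • b = t • b := by
  obtain ⟨htT, htx⟩ := hF.mem_nTwo.mp ht
  rcases h.x_line (t • b) (fix_of_comm (hF.uTwo_comm htT) h.fix_b)
    (by rw [← mul_smul, htx, mul_smul, h.x_b]) with hc | hc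
  · exact absurd (smul_left_cancel t (hc.trans (hF.uTwo_fix htT).symm)) h.ne
  · exact hc

theorem mem_nTwo_of_line {t : G} (ht : t ∈ hF.uTwo u a) {e : G} (he : e ∈ hF.eGrp a) (het : e • b = t • b) :
    t ∈ hF.nTwo u a x := by
  have h1 : e⁻¹ * t ∈ hF.uTwo u a := Subgroup.mul_mem _ (inv_mem (h.eGrp_le_uTwo he)) ht
  have h2 := h.comm_of_fix h1 (by rw [mul_smul, ← het, inv_smul_smul])
  have h3 := (Commute.mul_right (h.x_comm_eGrp he) h2).eq
  rw [mul_inv_cancel_left] at h3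
  exact hF.mem_nTwo.mpr ⟨ht, h3⟩

/-- The group is the product of the regular group and the part centralising `x`. -/
theorem exists_qGrp_mul {t : G} (ht : t ∈ hF.uTwo u a) :
    ∃ q ∈ hF.qGrp h.isB h.fix_a, q⁻¹ * t ∈ hF.nTwo u a x := by
  obtain ⟨q, hq, hqb⟩ := hF.exists_qGrp_smul h.isB h.fix_a h.fix_b h.ne (fix_of_comm (hF.uTwo_comm ht) h.fix_b)
    (fun e => h.ne (smul_left_cancel t (e.trans (hF.uTwo_fix ht).symm)))
  exact ⟨q, hq, h.mem_nTwo_of_line (Subgroup.mul_mem _ (inv_mem (h.qGrp_le_uTwo hq)) ht) (one_mem _)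
    (by rw [one_smul, mul_smul, ← hqb, inv_smul_smul])⟩

/-- Squares in the regular group act as members. -/
theorem sq_agree {t : G} (ht : t ∈ hF.qGrp h.isB h.fix_a) : ∃ s ∈ hF.eGrp a, Agree Ω u (t * t) s := by
  refine hF.exists_eGrp_agree h.isB h.fix_a (Subgroup.mul_mem _ ht ht) ?_
  obtain ⟨c, hc, hca, -⟩ := exists_swap hF.ctx.hyp h.ne.symm
  obtain ⟨hcW, Q, hS, hq, h4, hp⟩ := hF.exists_setup h.isB h.fix_a h.fix_b h.ne hc hca
  have hQc : Nat.card Q = qZ (topGrp hF.ctx.hyp (wGrp Z u))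
      (⟨a, hF.mem_centres_w h.isB h.fix_a⟩ : centres Ω Z (wGrp Z u)) ^ 3 := by
    have h1 := CfsgLib.RankOne.card_points hS
    have e := congrArg Set.ncard (hF.centres_w h.isB)
    rw [Nat.card_coe_set_eq] at h1
    have h' := h.big u a h.isB h.fix_a
    rw [fixCard] at h'
    rw [hq]
    omega
  obtain ⟨htW, htQ⟩ := (hF.mem_qGrp_iff h.isB h.fix_a hS hp).mp ht
  have h1 := (cube_facts hS h4 hQc).1 _ htQ
  rw [← map_mul, ← map_mul, ← map_one (img hF.ctx.hyp (wGrp Z u)), hF.img_eq_iff h.isB] at h1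
  exact h1

/-- A subgroup of the regular group containing what centralises `x`, invariant under the torus and `x`, and larger,
is all of it. -/
theorem irreducible {F : Subgroup G} (hFQ : F ≤ hF.qGrp h.isB h.fix_a)
    (hN : ∀ t ∈ hF.qGrp h.isB h.fix_a, t ∈ hF.nTwo u a x → t ∈ F)
    (hJ : ∀ j ∈ jGrp Z a b, ∀ t ∈ F, j * t * j⁻¹ ∈ F) (hx : ∀ t ∈ F, x * t * x⁻¹ ∈ F)
    (hbig : ∃ t ∈ F, t ∉ hF.nTwo u a x) : hF.qGrp h.isB h.fix_a ≤ F := by
  classical
  haveI := finite_points hF.ctx.hyp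
  haveI : Fact (Nat.Prime 2) := ⟨Nat.prime_two⟩
  set Q := hF.qGrp h.isB h.fix_a with hQdef
  obtain ⟨l, hl⟩ := (hF.isPGroup_eGrp a).exists_card_eq
  have hq4 := hF.four_le_card a
  set E := hF.eGrp a with hE
  set O : Set Ω := (fun t : G => t • b) '' (F : Set G) with hO
  set L : Set Ω := (fun t : G => t • b) '' (E : Set G) with hL
  have hEF : E ≤ F := fun e he => hN e (hF.eGrp_le_qGrp h.isB h.fix_a he) (h.eGrp_le_nTwo he)
  have hLO : L ⊆ O := Set.image_mono hEF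
  have hLc : L.ncard = 2 ^ l := by
    rw [hL, Set.InjOn.ncard_image fun e he e' he' hee => (inv_mul_eq_one.mp (hF.eGrp_semiregular
      (mul_mem (inv_mem he') he) (d := b) (by rw [mul_smul, show e • b = e' • b from hee, inv_smul_smul]) h.ne)).symm,
      ← Nat.card_coe_set_eq, ← hl]
    rfl
  have hOfix : ∀ {g : Ω}, g ∈ O → u • g = g ∧ g ≠ a := by
    rintro _ ⟨t, ht, rfl⟩
    exact ⟨fix_of_comm (hF.qGrp_comm h.isB h.fix_a (hFQ ht)) h.fix_b,
      fun e => h.ne (smul_left_cancel t (e.trans (hF.qGrp_fix h.isB h.fix_a (hFQ ht)).symm))⟩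
  have hfree : ∀ j ∈ jGrp Z a b, ∀ g : Ω, g ∈ O → g ∉ L → j • g = g → j = 1 := by
    intro j hj g hg hgL hjg
    by_contra hj1
    rcases hF.jGrp_fix_only h.ne hj hj1 hjg with rfl | rfl
    · exact (hOfix hg).2 rfl
    · exact hgL ⟨1, one_mem _, one_smul G _⟩
  have hJO : ∀ j ∈ jGrp Z a b, ∀ g ∈ O, g ∉ L → j • g ∈ O ∧ j • g ∉ L := by
    intro j hj g hg hgL
    obtain ⟨t, ht, rfl⟩ := hg
    obtain ⟨hja, hjb⟩ := hF.jGrp_fix h.ne hj
    refine ⟨⟨_, hJ j hj t ht, ?_⟩, ?_⟩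
    · show (j * t * j⁻¹) • b = j • t • b
      rw [mul_smul, mul_smul, inv_smul_eq_iff.mpr hjb.symm]
    · rintro ⟨e, he, hej⟩
      refine hgL ⟨j⁻¹ * e * j⁻¹⁻¹, ?_, ?_⟩
      · have := hF.eGrp_conj (g := j⁻¹) he
        rwa [inv_smul_eq_iff.mpr hja.symm] at this
      · show (j⁻¹ * e * j⁻¹⁻¹) • b = t • b
        rw [inv_inv, mul_smul, mul_smul, hjb, show e • b = j • t • b from hej, inv_smul_smul]
  let T : Type u := {g : Ω // g ∈ O ∧ g ∉ L}
  letI : MulAction (jGrp Z a b) T :=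
    { smul := fun j g => ⟨(j : G) • g.1, hJO j j.2 g.1 g.2.1 g.2.2⟩
      one_smul := fun g => Subtype.ext (one_smul G g.1)
      mul_smul := fun i j g => Subtype.ext (mul_smul (i : G) (j : G) g.1) }
  have hTc : Nat.card T = O.ncard - 2 ^ l := by
    rw [show Nat.card T = (O \ L).ncard from Nat.card_coe_set_eq _, Set.ncard_sdiff hLO, hLc]
  have hJc : Nat.card (jGrp Z a b) = 2 ^ l - 1 := by
    have := hF.card_jGrp h.ne
    rw [hl] at this
    omega
  have hdvd : 2 ^ l - 1 ∣ O.ncard - 2 ^ l := by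
    rw [← hJc, ← hTc]
    exact card_dvd_of_semiregular fun j g hjg => Subtype.ext (hfree j j.2 g.1 g.2.1 g.2.2 (congrArg Subtype.val hjg))
  obtain ⟨n, hn⟩ : ∃ n : ℕ, O.ncard = 2 ^ n := by
    have hFp : IsPGroup 2 F := (hF.isPGroup_uTwo u a).to_le (hFQ.trans h.qGrp_le_uTwo)
    obtain ⟨n, hn⟩ := hFp.card_orbit b
    refine ⟨n, ?_⟩
    rw [← hn, Nat.card_coe_set_eq]
    congr 1
    ext g
    constructor
    · rintro ⟨t, ht, rfl⟩
      exact ⟨⟨t, ht⟩, rfl⟩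
    · rintro ⟨t, rfl⟩
      exact ⟨t, t.2, rfl⟩
  obtain ⟨t, htF, htN⟩ := hbig
  have htQ := hFQ htF
  have htL : t • b ∉ L := by
    rintro ⟨e, he, het⟩
    exact htN (h.mem_nTwo_of_line (h.qGrp_le_uTwo htQ) he het)
  have hlt : 2 ^ l < O.ncard := by
    rw [← hLc]
    exact Set.ncard_lt_ncard (hLO.ssubset_of_ne fun e => htL (e ▸ ⟨t, htF, rfl⟩)) (Set.toFinite _)
  have hfix : ({c : Ω | u • c = c} \ {a}).ncard = (2 ^ l) ^ 3 := by
    have h1 := h.big u a h.isB h.fix_a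
    rw [fixCard, ← hE, hl] at h1
    rw [Set.ncard_sdiff_singleton_of_mem (show a ∈ {c : Ω | u • c = c} from h.fix_a), h1, Nat.add_sub_cancel]
  have hOsub : O ⊆ {c : Ω | u • c = c} \ {a} := fun g hg => ⟨(hOfix hg).1, (hOfix hg).2⟩
  have hle : O.ncard ≤ (2 ^ l) ^ 3 := hfix ▸ Set.ncard_le_ncard hOsub (Set.toFinite _)
  have hl1 : 1 ≤ l := Nat.one_le_iff_ne_zero.mpr fun e => by
    rw [hl, e, pow_zero] at hq4
    omega
  rw [hn] at hlt hle hdvd hTc
  rcases two_pow_cases hl1 hlt hle hdvd with hcase | hcase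
  · exfalso
    obtain ⟨s, hs, hts⟩ := h.sq_agree htQ
    have hs1 : s ≠ 1 := fun e => by
      obtain ⟨e', he', h'⟩ := hF.exists_eGrp_agree h.isB h.fix_a htQ (e ▸ hts)
      exact htL ⟨e', he', (h' b h.fix_b).symm⟩
    have hjcomm : ∀ {j : G}, j ∈ jGrp Z a b → u * j = j * u := fun hj =>
      hF.commute_jGrp h.ne h.isB h.fix_a h.fix_b hj
    have hconjE : ∀ {j : G}, j ∈ jGrp Z a b → ∀ {y : G}, y ∈ E → j * y * j⁻¹ ∈ E := fun {j} hj {y} hy => by
      have := hF.eGrp_conj (g := j) hy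
      rwa [(hF.jGrp_fix h.ne hj).1] at this
    -- the squares of the translates
    have hsq : ∀ {y e j : G}, y ∈ Q → e ∈ E → j ∈ jGrp Z a b → y • b = e • j • t • b →
        Agree Ω u (y * y) (j * s * j⁻¹) := by
      intro y e j hy he hj hyb
      obtain ⟨hja, hjb⟩ := hF.jGrp_fix h.ne hj
      have hjt : j * t * j⁻¹ ∈ Q := hF.qGrp_conj h.isB h.fix_a (keeps_of_comm (hjcomm hj)) hja htQ
      have hee : e * (j * t * j⁻¹) ∈ Q := Subgroup.mul_mem _ (hF.eGrp_le_qGrp h.isB h.fix_a he) hjt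
      have h1 : Agree Ω u y (e * (j * t * j⁻¹)) := hF.qGrp_agree h.isB h.fix_a hy hee h.fix_b h.ne
        (by rw [hyb, mul_smul, mul_smul, mul_smul, inv_smul_eq_iff.mpr hjb.symm])
      refine (h1.mul h1 (hF.qGrp_comm h.isB h.fix_a hee)).trans ?_
      have h2 := hF.agree_conj h.isB (keeps_of_comm (hjcomm hj)) hts
      have hc : Commute e (j * t * j⁻¹) := (hF.qGrp_comm_eGrp h.isB h.fix_a hjt he).symm
      rw [show e * (j * t * j⁻¹) * (e * (j * t * j⁻¹)) = (e * e) * ((j * t * j⁻¹) * (j * t * j⁻¹)) from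
        hc.symm.mul_mul_mul_comm _ _, hF.eGrp_sq he, one_mul, conj_mul]
      exact h2
    have hT2 : Nat.card T = Nat.card (↥E × jGrp Z a b) := by
      rw [hTc, hcase, Nat.card_prod, hJc, hl, pow_two, Nat.mul_sub, mul_one]
    have hmemT : ∀ (e : E) (j : jGrp Z a b), (e : G) • (j : G) • t • b ∈ O ∧ (e : G) • (j : G) • t • b ∉ L := by
      intro e j
      obtain ⟨⟨t', ht', ht'e⟩, hnL⟩ := hJO j j.2 (t • b) ⟨t, htF, rfl⟩ htL
      refine ⟨⟨e * t', F.mul_mem (hEF e.2) ht', ?_⟩, ?_⟩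
      · show ((e : G) * t') • b = (e : G) • (j : G) • t • b
        rw [mul_smul, show t' • b = (j : G) • t • b from ht'e]
      · rintro ⟨e', he', hee⟩
        exact hnL ⟨(e : G)⁻¹ * e', mul_mem (inv_mem e.2) he', by
          show ((e : G)⁻¹ * e') • b = _
          rw [mul_smul, show e' • b = (e : G) • (j : G) • t • b from hee, inv_smul_smul]⟩
    let Φ : ↥E × jGrp Z a b → T := fun p => ⟨(p.1 : G) • (p.2 : G) • t • b, hmemT p.1 p.2⟩
    have hΦ : Function.Injective Φ := by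
      rintro ⟨e, j⟩ ⟨e', j'⟩ hp
      have hp' : (e : G) • (j : G) • t • b = (e' : G) • (j' : G) • t • b := congrArg Subtype.val hp
      obtain ⟨t', ht', ht'e⟩ := (hmemT e j).1
      have h1 := hsq (hFQ ht') e.2 j.2 ht'e
      have h2 := hsq (hFQ ht') e'.2 j'.2 ((show t' • b = _ from ht'e).trans hp')
      have h3 := hF.eGrp_eq_of_agree h.isB (hconjE j.2 hs) (hconjE j'.2 hs) (h1.symm.trans h2)
      obtain rfl : j = j' := Subtype.ext (hF.jGrp_conj_inj h.ne j.2 j'.2 hs hs1 h3)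
      have hje : ((e' : G)⁻¹ * e) • (j : G) • t • b = (j : G) • t • b := by
        rw [mul_smul, hp', inv_smul_smul]
      obtain rfl : e = e' := Subtype.ext (inv_mul_eq_one.mp (hF.eGrp_semiregular (mul_mem (inv_mem e'.2) e.2)
        hje (hOfix (hJO j j.2 _ ⟨t, htF, rfl⟩ htL).1).2)).symm
      rfl
    have hxb' : (x * t * x⁻¹) • b = x • t • b := by
      rw [mul_smul, mul_smul, inv_smul_eq_iff.mpr h.x_b.symm]
    have hxL : x • t • b ∉ L := by
      rintro ⟨e, he, hee⟩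
      refine htL ⟨e, he, smul_left_cancel x ?_⟩
      rw [← mul_smul x e, h.x_comm_eGrp he, mul_smul, h.x_b]
      exact hee
    obtain ⟨⟨e, j⟩, hej⟩ := ((Nat.bijective_iff_injective_and_card Φ).mpr ⟨hΦ, hT2.symm⟩).2
      ⟨x • t • b, ⟨_, hx t htF, hxb'⟩, hxL⟩
    have hej' : (e : G) • (j : G) • t • b = x • t • b := congrArg Subtype.val hej
    have h1 := hsq (hFQ (hx t htF)) e.2 j.2 (hxb'.trans hej'.symm)
    have h2 := hF.agree_conj h.isB (keeps_of_comm h.x_comm) hts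
    rw [← conj_mul, h.x_comm_eGrp hs, mul_inv_cancel_right] at h2
    have h3 := hF.eGrp_eq_of_agree h.isB hs (hconjE j.2 hs) (h2.symm.trans h1)
    have hj1 : (j : G) = 1 := hF.jGrp_free h.ne j.2 hs hs1 (mul_inv_eq_iff_eq_mul.mp h3.symm)
    rw [hj1, one_smul] at hej'
    have hpow : ∀ m : ℕ, x ^ m • t • b = (e : G) ^ m • t • b := by
      intro m
      induction m with
      | zero => simp
      | succ m ih =>
        have hc : Commute x ((e : G) ^ m) := (show Commute x (e : G) from h.x_comm_eGrp e.2).pow_right m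
        rw [pow_succ', mul_smul, ih, ← mul_smul, hc.eq, mul_smul, ← hej', ← mul_smul, ← pow_succ]
    have hm := hpow (orderOf x)
    obtain ⟨m, hm'⟩ := h.x_odd
    rw [pow_orderOf_eq_one, one_smul, hm', pow_succ, pow_mul, pow_two, hF.eGrp_sq e.2, one_pow, one_mul] at hm
    rw [← hm] at hej'
    rcases h.x_line (t • b) (hOfix ⟨t, htF, rfl⟩).1 hej'.symm with hc | ⟨e', he', hc⟩
    · exact (hOfix ⟨t, htF, rfl⟩).2 hc
    · exact htL ⟨e', he', hc⟩
  · intro y hy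
    have hOeq : O = {c : Ω | u • c = c} \ {a} :=
      Set.eq_of_subset_of_ncard_le hOsub (by rw [hfix, hn, hcase]) (Set.toFinite _)
    have hyb : y • b ∈ O := hOeq ▸ ⟨fix_of_comm (hF.qGrp_comm h.isB h.fix_a hy) h.fix_b,
      fun e => h.ne (smul_left_cancel y ((Set.mem_singleton_iff.mp e).trans (hF.qGrp_fix h.isB h.fix_a hy).symm))⟩
    obtain ⟨f, hf, hfy⟩ := hyb
    have hq : f⁻¹ * y ∈ Q := Subgroup.mul_mem _ (inv_mem (hFQ hf)) hy
    have := F.mul_mem hf (hN _ hq (h.mem_nTwo_of_line (h.qGrp_le_uTwo hq) (one_mem _)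
      (by rw [one_smul, mul_smul, ← show f • b = y • b from hfy, inv_smul_smul])))
    rwa [mul_inv_cancel_left] at this

/-- Some element of the regular group moves `b` off the line. -/
theorem exists_off : ∃ t ∈ hF.qGrp h.isB h.fix_a, t ∉ hF.nTwo u a x := by
  classical
  haveI := finite_points hF.ctx.hyp
  by_contra hne
  push Not at hne
  have hsub : {c : Ω | u • c = c} ⊆ hF.eLine a b := fun c hc => by
    by_cases hca : c = a
    · exact Or.inl hca
    obtain ⟨t, ht, rfl⟩ := hF.exists_qGrp_smul h.isB h.fix_a h.fix_b h.ne hc hca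
    exact Or.inr (h.nTwo_line (hne t ht))
  have h1 := Set.ncard_le_ncard hsub (Set.toFinite _)
  have h2 := h.big u a h.isB h.fix_a
  rw [fixCard] at h2
  rw [h2, hF.ncard_eLine h.ne] at h1
  have : Nat.card (hF.eGrp a) < Nat.card (hF.eGrp a) ^ 3 :=
    lt_self_pow₀ (by have := hF.four_le_card a; omega) (by norm_num)
  omega

/-- What fixes `a`, commutes with `u` and `x` normalises the part centralising `x`. -/
theorem normalizer_nTwo {g : G} (hg : g ∈ Subgroup.normalizer (hF.uGrp u a : Set G)) (hgx : x * g = g * x) :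
    g ∈ Subgroup.normalizer (hF.nTwo u a x : Set G) := mem_normalizer_of_conj fun y hy => by
  obtain ⟨hyT, hyx⟩ := hF.mem_nTwo.mp hy
  exact hF.mem_nTwo.mpr ⟨hF.uTwo_conj hg hyT,
    (Commute.mul_right (Commute.mul_right hgx hyx) (Commute.inv_right hgx)).eq⟩

theorem jGrp_facts {j : G} (hj : j ∈ jGrp Z a b) :
    j • a = a ∧ u * j = j * u ∧ x * j = j * x ∧ j ∈ Subgroup.normalizer (hF.uGrp u a : Set G) := by
  have hju := hF.commute_jGrp h.ne h.isB h.fix_a h.fix_b hj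
  have hja := (hF.jGrp_fix h.ne hj).1
  exact ⟨hja, hju, hF.commute_kGrp_jGrp h.ne h.x_K h.x_b hj, h.conj_uGrp hja hju⟩

/-- The part centralising `x` is normal. -/
theorem nTwo_normal : hF.uTwo u a ≤ Subgroup.normalizer (hF.nTwo u a x : Set G) := by
  haveI : Fact (Nat.Prime 2) := ⟨Nat.prime_two⟩
  set N := hF.nTwo u a x with hNdef
  set Q := hF.qGrp h.isB h.fix_a
  set F : Subgroup G := Q ⊓ Subgroup.normalizer (N : Set G) with hFdef
  have hxN : x ∈ Subgroup.normalizer (N : Set G) := h.normalizer_nTwo h.x_normalizer rfl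
  obtain ⟨t, ht, htN⟩ := h.exists_off
  obtain ⟨g, hgT, hgN, hgn⟩ := exists_mem_normalizer (hF.isPGroup_uTwo u a)
    ((hF.nTwo_le u a x).lt_of_ne fun e => htN (e ▸ h.qGrp_le_uTwo ht))
  obtain ⟨q, hq, hqg⟩ := h.exists_qGrp_mul hgT
  have hqn : q ∈ Subgroup.normalizer (N : Set G) := by
    have h1 := Subgroup.mul_mem _ hgn (inv_mem (Subgroup.le_normalizer hqg))
    rwa [mul_inv_rev, inv_inv, mul_inv_cancel_left] at h1
  have hQF : Q ≤ F := h.irreducible inf_le_left (fun y hy hyN => ⟨hy, Subgroup.le_normalizer hyN⟩)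
    (fun j hj y hy => by
      obtain ⟨hja, hju, hjx, hjn⟩ := h.jGrp_facts hj
      have hjN := h.normalizer_nTwo hjn hjx
      exact ⟨hF.qGrp_conj h.isB h.fix_a (keeps_of_comm hju) hja hy.1,
        Subgroup.mul_mem _ (Subgroup.mul_mem _ hjN hy.2) (inv_mem hjN)⟩)
    (fun y hy => ⟨hF.qGrp_conj h.isB h.fix_a (keeps_of_comm h.x_comm) h.x_fix hy.1,
      Subgroup.mul_mem _ (Subgroup.mul_mem _ hxN hy.2) (inv_mem hxN)⟩)
    ⟨q, ⟨hq, hqn⟩, fun hqN => hgN (by
      have := Subgroup.mul_mem _ hqN hqg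
      rwa [mul_inv_cancel_left] at this)⟩
  intro y hy
  obtain ⟨q', hq', hqy⟩ := h.exists_qGrp_mul hy
  have h1 := Subgroup.mul_mem _ (hQF hq').2 (Subgroup.le_normalizer hqy)
  rwa [mul_inv_cancel_left] at h1

end FCtx.UCtx

end CfsgLib.Bender.Q
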