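import Cfsg.Agent.Lib.Bender.Q.Full.Str

/-!
`q ^ 3 + 1` fixed points: a subgroup of odd prime power order in the kernel at a point centralising a full involution
fixes exactly a line of its fixed points, and the members it centralises have `q ^ 3 + 1` centres.

Blueprint: `blueprint/bender/Q_VII.md` 1.
-/

set_option autoImplicit false
set_option linter.unusedSectionVars false
set_option linter.style.haveILetI false

universe u

namespace CfsgLib.Bender.Q

open MulAction Cfsg CfsgLib.SuzukiRankOne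
open CfsgLib.Bender.TwoClosed (IsInv InvAt two mem_two smul_conj)

variable {G Ω : Type u} [Group G] [MulAction G Ω] {Z : Set G} [Finite G] [FaithfulSMul G Ω]

namespace FCtx

/-- Every full involution fixes `q ^ 3 + 1` points. -/
def Big (hF : FCtx G Ω Z) : Prop :=
  ∀ (v : G) (a : Ω), IsB Ω v → v • a = a → fixCard Ω v = Nat.card (hF.eGrp a) ^ 3 + 1

/-- `a` and the orbit of `b` under the members at `a`. -/
def eLine (hF : FCtx G Ω Z) (a b : Ω) : Set Ω := insert a ((fun e : G => e • b) '' (hF.eGrp a : Set G))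

variable (hF : FCtx G Ω Z)
include hF

theorem mem_eLine {a b c : Ω} : c ∈ hF.eLine a b ↔ c = a ∨ ∃ e ∈ hF.eGrp a, e • b = c := Iff.rfl

theorem ncard_eLine {a b : Ω} (hba : b ≠ a) : (hF.eLine a b).ncard = Nat.card (hF.eGrp a) + 1 := by
  haveI := finite_points hF.ctx.hyp
  rw [eLine, Set.ncard_insert_of_notMem ?_ (Set.toFinite _), Set.ncard_image_of_injOn ?_]
  · rw [← Nat.card_coe_set_eq]
    rfl
  · intro e he e' he' h
    have h1 : (e'⁻¹ * e) • b = b := by
      rw [mul_smul, show e • b = e' • b from h, inv_smul_smul]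
    exact (inv_mul_eq_one.mp (hF.eGrp_semiregular (mul_mem (inv_mem he') he) h1 hba)).symm
  · rintro ⟨e, he, h⟩
    exact hba (smul_left_cancel e ((show e • b = a from h).trans (hF.eGrp_fix he).symm))

theorem eGrp_card_mem (a c : Ω) : Nat.card (MemAt Z c) + 1 = Nat.card (hF.eGrp a) := by
  rw [hF.card_eGrp_eq a c, hF.card_eGrp c]

/-- An element of the kernel at `a` fixing `b` and centralising a full involution fixing both centralises the
swappers and the members at `b`. -/
theorem commute_of_fix_pair {v : G} (hv : IsB Ω v) {a b : Ω} (hva : v • a = a) (hvb : v • b = b) (hba : b ≠ a)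
    {y : G} (hy : y ∈ hF.kGrp a) (hyb : y • b = b) (hyv : v * y = y * v) :
    (∀ w ∈ Z, w • a = b → y * w = w * y) ∧ y ∈ hF.kGrp b := by
  obtain ⟨hya, hye⟩ := hF.mem_kGrp.mp hy
  obtain ⟨e, he, he1⟩ := hF.exists_mem_eGrp_ne_one a
  obtain ⟨t, r, hm⟩ := hF.exists_match hv hva hvb hba he he1
  have h := hF.match_conj hv hva hvb hba (keeps_of_comm hyv) hya hyb hm
  rw [← hye e he, mul_inv_cancel_right] at h
  have hyt : y * t = t * y := mul_inv_eq_iff_eq_mul.mp (hF.match_swap_unique hv hva hvb hba he he1 h hm)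
  have hsw : ∀ w ∈ Z, w • a = b → y * w = w * y := by
    intro w hw hwa
    obtain ⟨j, hj, rfl⟩ := hF.exists_jGrp_conj hba hm.1 hm.2.1 hw hwa
    have hyj := hF.commute_kGrp_jGrp hba hy hyb hj
    exact (Commute.mul_right (Commute.mul_right hyj hyt) (Commute.inv_right hyj)).eq
  refine ⟨hsw, hF.mem_kGrp.mpr ⟨hyb, fun e' he' => ?_⟩⟩
  have hti := hF.ctx.hyp.inv t hm.1
  have h2 := hF.eGrp_conj (g := t) he'
  rw [hti.swap_back hm.2.1] at h2
  have h3 : Commute y (t * e' * t⁻¹) := (hye _ h2).symm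
  have h4 := (Commute.mul_right (Commute.mul_right (Commute.inv_right hyt) h3) hyt).eq
  rw [show t⁻¹ * (t * e' * t⁻¹) * t = e' by group] at h4
  exact h4.symm

section Cent

variable (hbig : hF.Big) {v : G} (hv : IsB Ω v) {a b : Ω} (hva : v • a = a) (hvb : v • b = b) (hba : b ≠ a)
  {p : ℕ} [Fact p.Prime] (hp2 : p ≠ 2) {X : Subgroup G} (hX : IsPGroup p X) (hX1 : X ≠ ⊥)
  (hXK : X ≤ hF.kGrp a) (hXb : ∀ x ∈ X, x • b = b) (hXv : ∀ x ∈ X, v * x = x * v)
include hbig hv hva hvb hba hp2 hX hX1 hXK hXb hXv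

omit hbig hp2 hX hX1 hXb hba hvb in
/-- The subgroup lies in the kernel at every fixed point of the full involution fixed by it. -/
theorem le_kGrp_of_fix {c : Ω} (hvc : v • c = c) (hXc : ∀ x ∈ X, x • c = c) : X ≤ hF.kGrp c := fun x hx => by
  by_cases hca : c = a
  · exact hca ▸ hXK hx
  · exact (hF.commute_of_fix_pair hv hva hvc hca (hXK hx) (hXc x hx) (hXv x hx)).2

omit hbig hp2 hX hX1 hXb hba hvb hXK in
/-- A fixed point of a full involution fixed by the subgroup is the centre of a member it centralises, when it lies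
in the kernel at another such point. -/
theorem mem_centres_of_fix {c g : Ω} {w : G} (hw : IsB Ω w) (hwc : w • c = c) (hwg : w • g = g)
    (hXc : X ≤ hF.kGrp c) (hXw : ∀ x ∈ X, w * x = x * w) (hXg : ∀ x ∈ X, x • g = g) :
    g ∈ centres Ω Z (Subgroup.centralizer (X : Set G)) := by
  obtain ⟨i, hi, hig⟩ := hF.ctx.hyp.exists_at g
  refine mem_centres (Subgroup.mem_centralizer_iff.mpr fun x hx => ?_) hi hig
  have hk : x ∈ hF.kGrp g := by
    by_cases hgc : g = c
    · exact hgc ▸ hXc hx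
    · exact (hF.commute_of_fix_pair hw hwc hwg hgc (hXc hx) (hXg x hx) (hXw x hx)).2
  exact ((hF.mem_kGrp.mp hk).2 i (hF.mem_eGrp_of hi hig)).symm

theorem isTop_centralizer : IsTop Ω Z (Subgroup.centralizer (X : Set G)) := by
  have hQ := hF.ctx.hyp
  have hac := hF.mem_centres_of_fix hv hva hXv hv hva hva hXK hXv (fun x hx => (hF.mem_kGrp.mp (hXK hx)).1)
  refine ⟨fun e => hX1 ?_, ?_, ⟨a, b, hac, hF.mem_centres_of_fix hv hva hXv hv hva hvb hXK hXv hXb, hba⟩⟩
  · refine (Subgroup.eq_bot_iff_forall _).mpr fun x hx => eq_of_smul_eq_smul fun g : Ω => ?_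
    rw [one_smul]
    obtain ⟨i, hi, hig⟩ := hQ.exists_at g
    exact commute_fix hQ hi hig ((e ▸ Subgroup.mem_top i : i ∈ Subgroup.centralizer (X : Set G)) x hx)
  · have h : 1 < Nat.card (MemAt Z a) := by
      have := hF.ctx.two_le_memAt a
      omega
    obtain ⟨⟨y, hy, hya⟩, ⟨z, hz, hza⟩, hne⟩ := (Finite.one_lt_card_iff_nontrivial.mp h).exists_pair_ne
    have hcent : ∀ w ∈ Z, w • a = a → w ∈ Subgroup.centralizer (X : Set G) := fun w hw hwa =>
      Subgroup.mem_centralizer_iff.mpr fun x hx => ((hF.mem_kGrp.mp (hXK hx)).2 w (hF.mem_eGrp_of hw hwa)).symm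
    exact ⟨y, hcent y hy hya, z, hcent z hz hza, hy, hz, fun e => hne (Subtype.ext e),
      hF.comm y hy z hz a hya hza⟩

/-- The induced involutions at `a` come from the members there. -/
theorem qTop_centralizer_le : qTop hF.ctx.hyp (Subgroup.centralizer (X : Set G)) ≤ Nat.card (hF.eGrp a) := by
  have hQ := hF.ctx.hyp
  have hT := hF.isTop_centralizer hbig hv hva hvb hba hp2 hX hX1 hXK hXb hXv
  have hT0 := isTopOdd_memGrp hT
  set C := Subgroup.centralizer (X : Set G)
  have ha0 : a ∈ centres Ω Z (memGrp Z C) := by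
    rw [centres_memGrp]
    exact hF.mem_centres_of_fix hv hva hXv hv hva hva hXK hXv (fun x hx => (hF.mem_kGrp.mp (hXK hx)).1)
  have h1 := qTop_eq_invAt hQ hF.ctx.below hT0 ha0
  rw [qTop_memGrp] at h1
  rw [h1, hF.card_eGrp a]
  refine Nat.add_le_add_right ?_ 1
  have hlift : ∀ y : InvAt (topGrp hQ (memGrp Z C)) (⟨a, ha0⟩ : centres Ω Z (memGrp Z C)),
      ∃ j : memGrp Z C, (j : G) ∈ Z ∧ img hQ (memGrp Z C) j = y.1 :=
    fun y => exists_inv_lift hQ hF.ctx.below hT0 y.2.1
  choose j hj hje using hlift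
  refine Nat.card_le_card_of_injective (fun y => (⟨(j y : G), hj y, ?_⟩ : MemAt Z a)) fun y y' h => ?_
  · rw [← img_smul (hQ := hQ) (j y) ⟨a, ha0⟩, hje y, y.2.2]
  · have h' : (j y : G) = j y' := congrArg (fun z : MemAt Z a => z.1) h
    exact Subtype.ext (by rw [← hje y, ← hje y', Subtype.ext h'])

/-- The count. -/
theorem line_count :
    Nat.card (centres Ω Z (Subgroup.centralizer (X : Set G))) = Nat.card (hF.eGrp a) ^ 3 + 1 ∧
      qTop hF.ctx.hyp (Subgroup.centralizer (X : Set G)) = Nat.card (hF.eGrp a) ∧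
      {c : Ω | v • c = c ∧ ∀ x ∈ X, x • c = c} = hF.eLine a b := by
  classical
  haveI := finite_points hF.ctx.hyp
  have hQ := hF.ctx.hyp
  set q := Nat.card (hF.eGrp a) with hqdef
  set C := Subgroup.centralizer (X : Set G) with hC
  set F0 : Set Ω := {c : Ω | v • c = c ∧ ∀ x ∈ X, x • c = c} with hF0
  have hT := hF.isTop_centralizer hbig hv hva hvb hba hp2 hX hX1 hXK hXb hXv
  have hqT := hF.qTop_centralizer_le hbig hv hva hvb hba hp2 hX hX1 hXK hXb hXv
  have hKc : ∀ c ∈ F0, X ≤ hF.kGrp c := fun c hc => hF.le_kGrp_of_fix hv hva hXK hXv hc.1 hc.2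
  have hcomm : ∀ {c : Ω}, c ∈ F0 → ∀ d : MemAt Z c, ∀ x ∈ X, v * d.1 * x = x * (v * d.1) := by
    intro c hc d x hx
    have h1 : Commute x v := (hXv x hx).symm
    have h2 : Commute x d.1 := ((hF.mem_kGrp.mp (hKc c hc hx)).2 d.1 (hF.mem_eGrp_of d.2.1 d.2.2)).symm
    exact (h1.mul_right h2).symm.eq
  -- a point of the product with a member fixed by the subgroup
  have hex : ∀ (c : F0) (d : MemAt Z c.1), ∃ g : Ω, (v * d.1) • g = g ∧ g ≠ c.1 ∧ ∀ x ∈ X, x • g = g := by
    intro c d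
    have hB : IsB Ω (v * d.1) := hF.isB_mul_eGrp hv c.2.1 (hF.mem_eGrp_of d.2.1 d.2.2)
    have hBc : (v * d.1) • c.1 = c.1 := by rw [mul_smul, d.2.2, c.2.1]
    let S : Type u := {g : Ω // (v * d.1) • g = g ∧ g ≠ c.1}
    letI : MulAction X S :=
      { smul := fun x g => ⟨(x : G) • g.1, by
          rw [← mul_smul, hcomm c.2 d x x.2, mul_smul, g.2.1], fun e => g.2.2 (smul_left_cancel (x : G)
            (e.trans (c.2.2 x x.2).symm))⟩
        one_smul := fun g => Subtype.ext (one_smul G g.1)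
        mul_smul := fun x y g => Subtype.ext (mul_smul (x : G) (y : G) g.1) }
    have hcard : Nat.card S = q ^ 3 := by
      have h := hbig _ _ hB hBc
      rw [hF.card_eGrp_eq c.1 a, ← hqdef, fixCard] at h
      rw [show Nat.card S = ({g : Ω | (v * d.1) • g = g} \ {c.1}).ncard from Nat.card_coe_set_eq _,
        Set.ncard_sdiff_singleton_of_mem (by exact hBc), h]
      rfl
    obtain ⟨l, hl⟩ := (hF.isPGroup_eGrp a).exists_card_eq
    have hnd : ¬ p ∣ Nat.card S := by
      rw [hcard, hqdef, hl, ← pow_mul]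
      intro h
      exact hp2 ((Nat.prime_dvd_prime_iff_eq Fact.out Nat.prime_two).mp ((Fact.out : p.Prime).dvd_of_dvd_pow h))
    obtain ⟨⟨g, hg⟩, hfix⟩ := hX.nonempty_fixed_point_of_prime_not_dvd_card S hnd
    exact ⟨g, hg.1, hg.2, fun x hx => congrArg Subtype.val (hfix ⟨x, hx⟩)⟩
  choose g hg hgne hgX using hex
  let T : Type u := Σ c : F0, MemAt Z c.1 × hF.eGrp c.1
  let f : F0 ⊕ T → centres Ω Z C :=
    Sum.elim (fun c => ⟨c.1, hF.mem_centres_of_fix hv hva hXv hv c.2.1 c.2.1 (hKc _ c.2) hXv c.2.2⟩)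
      fun s => ⟨(s.2.2 : G) • g s.1 s.2.1, by
        obtain ⟨c, d, e⟩ := s
        have hB : IsB Ω (v * d.1) := hF.isB_mul_eGrp hv c.2.1 (hF.mem_eGrp_of d.2.1 d.2.2)
        have hBc : (v * d.1) • c.1 = c.1 := by rw [mul_smul, d.2.2, c.2.1]
        refine hF.mem_centres_of_fix hv hva hXv hB hBc ?_ (hKc _ c.2) (hcomm c.2 d) fun x hx => ?_
        · rw [← mul_smul, hF.commute_eGrp hB.1 hBc e.2, mul_smul, hg]
        · rw [← mul_smul, ← (hF.mem_kGrp.mp (hKc _ c.2 hx)).2 e e.2, mul_smul, hgX c d x hx]⟩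
  have hoff : ∀ s : T, (v * s.2.1.1) • ((s.2.2 : G) • g s.1 s.2.1) = (s.2.2 : G) • g s.1 s.2.1 ∧
      v • ((s.2.2 : G) • g s.1 s.2.1) ≠ (s.2.2 : G) • g s.1 s.2.1 := by
    rintro ⟨c, d, e⟩
    have hB : IsB Ω (v * d.1) := hF.isB_mul_eGrp hv c.2.1 (hF.mem_eGrp_of d.2.1 d.2.2)
    have hBc : (v * d.1) • c.1 = c.1 := by rw [mul_smul, d.2.2, c.2.1]
    have h1 : (v * d.1) • ((e : G) • g c d) = (e : G) • g c d := by
      rw [← mul_smul, hF.commute_eGrp hB.1 hBc e.2, mul_smul, hg]
    refine ⟨h1, fun h => hgne c d ?_⟩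
    have := hF.eq_of_fix_both (hF.mem_eGrp_of d.2.1 d.2.2) (hQ.inv d.1 d.2.1).1 h h1
    exact smul_left_cancel (e : G) (this.trans (hF.eGrp_fix e.2).symm)
  have hinj : Function.Injective f := by
    rintro (c | s) (c' | s') h <;> have h' := congrArg Subtype.val h <;> simp only [f, Sum.elim_inl, Sum.elim_inr] at h'
    · exact congrArg Sum.inl (Subtype.ext h')
    · exact absurd (h' ▸ c.2.1) (hoff s').2
    · exact absurd (h'.symm ▸ c'.2.1) (hoff s).2
    · obtain ⟨c, d, e⟩ := s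
      obtain ⟨c', d', e'⟩ := s'
      obtain ⟨h1, h2⟩ := hoff ⟨c, d, e⟩
      obtain ⟨h1', -⟩ := hoff ⟨c', d', e'⟩
      simp only at h' h1 h2 h1'
      rw [← h'] at h1'
      obtain ⟨w, -, huniq⟩ := hF.existsUnique_swap hv h2
      have hsw : ∀ {c : F0} (d : MemAt Z c.1) {z : Ω}, (v * d.1) • z = z →
          d.1 ∈ Z ∧ v * d.1 = d.1 * v ∧ d.1 • z = v • z := fun {c} d {z} hz =>
        ⟨d.2.1, hF.full v hv c.1 c.2.1 d.1 d.2.1 d.2.2, by
          conv_rhs => rw [← hz, mul_smul, hv.1.smul_twice]⟩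
      have hdd : d.1 = d'.1 := (huniq _ (hsw d h1)).trans (huniq _ (hsw d' h1')).symm
      obtain rfl : c = c' := Subtype.ext (eq_of_fix hQ d.2.1 d.2.2 (hdd ▸ d'.2.2))
      obtain rfl : d = d' := Subtype.ext hdd
      have h3 : ((e' : G)⁻¹ * e) • g c d = g c d := by rw [mul_smul, h', inv_smul_smul]
      obtain rfl : e = e' := Subtype.ext
        (inv_mul_eq_one.mp (hF.eGrp_semiregular (mul_mem (inv_mem e'.2) e.2) h3 (hgne c d))).symm
      rfl
  have hle := Nat.card_le_card_of_injective f hinj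
  haveI := Fintype.ofFinite F0
  have hTc : Nat.card T = F0.ncard * ((q - 1) * q) := by
    rw [Nat.card_sigma, Finset.sum_congr rfl (fun (c : F0) _ => show Nat.card (MemAt Z c.1 × hF.eGrp c.1) =
      (q - 1) * q by
        rw [Nat.card_prod, hF.card_eGrp_eq c.1 a, ← hqdef]
        have := hF.eGrp_card_mem a c.1
        rw [← hqdef] at this
        congr 1
        omega), Finset.sum_const, Finset.card_univ, smul_eq_mul, ← Nat.card_eq_fintype_card, Nat.card_coe_set_eq]
  rw [Nat.card_sum, hTc, Nat.card_coe_set_eq] at hle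
  have hq4 : 4 ≤ q := hF.four_le_card a
  have hsub : hF.eLine a b ⊆ F0 := by
    rintro c (rfl | ⟨e, he, rfl⟩)
    · exact ⟨hva, fun x hx => (hF.mem_kGrp.mp (hXK hx)).1⟩
    · refine ⟨?_, fun x hx => ?_⟩
      · show v • e • b = e • b
        rw [← mul_smul, hF.commute_eGrp hv.1 hva he, mul_smul, hvb]
      · show x • e • b = e • b
        rw [← mul_smul, ← (hF.mem_kGrp.mp (hXK hx)).2 e he, mul_smul, hXb x hx]
  have hf0 := Set.ncard_le_ncard hsub (Set.toFinite _)
  rw [hF.ncard_eLine hba, ← hqdef] at hf0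
  have hcen : Nat.card (centres Ω Z C) ≤ q ^ 3 + 1 := by
    rcases card_centres_cases hQ hT hF.ctx.below with h | h | h <;> rw [h, Nat.add_le_add_iff_right]
    · exact hqT.trans (Nat.le_self_pow (by norm_num) q)
    · exact (Nat.pow_le_pow_left hqT 2).trans (Nat.pow_le_pow_right (by omega) (by norm_num))
    · exact Nat.pow_le_pow_left hqT 3
  simp only [Nat.card_coe_set_eq] at hle hcen
  have hlow : (q + 1) * (1 + (q - 1) * q) = q ^ 3 + 1 := by
    obtain ⟨k, hk⟩ : ∃ k, q = k + 1 := ⟨q - 1, by omega⟩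
    rw [hk]
    simp only [Nat.add_sub_cancel]
    ring
  have hf0' : F0.ncard = q + 1 := by
    by_contra hne
    have h1 : (q + 2) * (1 + (q - 1) * q) ≤ F0.ncard * (1 + (q - 1) * q) := Nat.mul_le_mul_right _ (by omega)
    nlinarith
  have hcard : Nat.card (centres Ω Z C) = q ^ 3 + 1 := by
    rw [hf0'] at hle
    simp only [Nat.card_coe_set_eq]
    nlinarith
  change qTop hQ C ≤ q at hqT
  refine ⟨hcard, ?_, (Set.eq_of_subset_of_ncard_le hsub (by rw [hf0', hF.ncard_eLine hba]) (Set.toFinite _)).symm⟩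
  show qTop hQ C = q
  rcases card_centres_cases hQ hT hF.ctx.below with h | h | h <;> rw [← hC, hcard, Nat.add_right_cancel_iff] at h
  · have : q < q ^ 3 := lt_self_pow₀ (by omega) (by norm_num)
    omega
  · have h1 : q ^ 2 < q ^ 3 := Nat.pow_lt_pow_right (by omega) (by norm_num)
    have h2 := Nat.pow_le_pow_left hqT 2
    omega
  · exact (Nat.pow_left_injective (by norm_num) h).symm

theorem fix_of_centre {c : Ω} (hc : c ∈ centres Ω Z (Subgroup.centralizer (X : Set G))) {x : G} (hx : x ∈ X) :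
    x • c = c := by
  obtain ⟨i, hiC, hi, hic⟩ := hc
  exact commute_fix hF.ctx.hyp hi hic (Subgroup.mem_centralizer_iff.mp hiC x hx)

/-- The centres fixed by the full involution form the line. -/
theorem centre_mem_line {c : Ω} (hc : c ∈ centres Ω Z (Subgroup.centralizer (X : Set G))) (hvc : v • c = c) :
    c ∈ hF.eLine a b :=
  (hF.line_count hbig hv hva hvb hba hp2 hX hX1 hXK hXb hXv).2.2 ▸
    ⟨hvc, fun _ hx => hF.fix_of_centre hbig hv hva hvb hba hp2 hX hX1 hXK hXb hXv hc hx⟩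

end Cent

variable (hbig : hF.Big) {v : G} (hv : IsB Ω v)
include hbig hv

/-- An element of odd order of the kernel centralising a full involution and fixing all its fixed points is
trivial. -/
theorem eq_one_of_fix_all {a : Ω} (hva : v • a = a) {y : G} (hy : y ∈ hF.kGrp a) (hodd : Odd (orderOf y))
    (hyv : v * y = y * v) (hag : Agree Ω v y 1) : y = 1 := by
  by_contra hy1
  obtain ⟨b, hba, hvb⟩ := hF.exists_other hv a
  set p := (orderOf y).minFac with hp
  have hne : orderOf y ≠ 1 := fun e => hy1 (orderOf_eq_one_iff.mp e)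
  haveI : Fact p.Prime := ⟨Nat.minFac_prime hne⟩
  set x := y ^ (orderOf y / p) with hx
  have hxo : orderOf x = p := orderOf_pow_orderOf_div (orderOf_pos y).ne' (Nat.minFac_dvd _)
  have hp2 : p ≠ 2 := by
    intro e
    have h2 : 2 ∣ orderOf y := e ▸ Nat.minFac_dvd _
    exact Nat.not_even_iff_odd.mpr hodd (even_iff_two_dvd.mpr h2)
  have hfix : ∀ c : Ω, v • c = c → ∀ z ∈ Subgroup.zpowers x, z • c = c := by
    intro c hc
    refine fix_of_zpowers ?_
    have h1 : y • c = c := (hag c hc).trans (one_smul G c)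
    exact mem_stabilizer_iff.mp (pow_mem (mem_stabilizer_iff.mpr h1) _)
  have hxK : Subgroup.zpowers x ≤ hF.kGrp a := Subgroup.zpowers_le.mpr (pow_mem hy _)
  have hxv : ∀ z ∈ Subgroup.zpowers x, v * z = z * v := fun z hz =>
    mem_cent_iff.mp (Subgroup.zpowers_le.mpr (pow_mem (mem_cent_iff.mpr hyv) _) hz)
  have h := (hF.line_count hbig hv hva hvb hba hp2 (X := Subgroup.zpowers x)
    (IsPGroup.of_card (n := 1) (by rw [Nat.card_zpowers, hxo, pow_one]))
    (fun e => (Fact.out : p.Prime).one_lt.ne' (hxo ▸ orderOf_eq_one_iff.mpr (Subgroup.zpowers_eq_bot.mp e)))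
    hxK (hfix b hvb) hxv).2.2
  have h1 : {c : Ω | v • c = c} = hF.eLine a b := by
    rw [← h]
    exact Set.ext fun c => ⟨fun hc => ⟨hc, hfix c hc⟩, fun hc => hc.1⟩
  have h2 := hbig v a hv hva
  rw [fixCard, h1, hF.ncard_eLine hba] at h2
  have : Nat.card (hF.eGrp a) < Nat.card (hF.eGrp a) ^ 3 :=
    lt_self_pow₀ (by have := hF.four_le_card a; omega) (by norm_num)
  omega

end FCtx

end CfsgLib.Bender.Q
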