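import Cfsg.Agent.Lib.Bender.Q.Full.UnitaryLine
import Cfsg.Agent.Lib.SuzukiRankOne.UnitaryTorus

/-!
`q ^ 3 + 1` fixed points: the odd element of the two-point kernel inside the group of a full involution, a prime power
subgroup of it normalised by a given `2`-subgroup, and the `2`-group regular on the centres of what it centralises.

Blueprint: `blueprint/bender/Q_VII.md` 2, 3.
-/

set_option autoImplicit false
set_option linter.unusedSectionVars false
set_option linter.style.haveILetI false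

universe u v

namespace CfsgLib.Bender.Q

open MulAction Cfsg CfsgLib.SuzukiRankOne
open CfsgLib.Bender.TwoClosed (IsInv InvAt two mem_two smul_conj MaxP exists_maxP maxP_of_card
  mem_normalizer_of_conj conj_mem_of_normalizer)

/-- With `q ^ 3` as its order the regular group has exponent four and the structure root squares to one. -/
theorem cube_facts {K : Type u} {Δ : Type v} [Group K] [Finite K] [MulAction K Δ] [FaithfulSMul K Δ] {a : Δ}
    {t : K} {Q : Subgroup K} (hS : IsRankOneSetup K Δ a t Q) (h2 : Four K) (hQ : Nat.card Q = qZ K a ^ 3) :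
    (∀ x ∈ Q, x * x * (x * x) = 1) ∧ Rsq a t Q := by
  obtain ⟨f, hf, hq⟩ := Ext.qZ_two_pow hS h2
  have h4 : 4 ≤ qZ K a := by
    rw [hq]
    calc 4 = 2 ^ 2 := by norm_num
      _ ≤ 2 ^ f := Nat.pow_le_pow_right (by norm_num) hf
  have h13 : qZ K a < qZ K a ^ 3 := lt_self_pow₀ (by omega) (by norm_num)
  have h23 : qZ K a ^ 2 < qZ K a ^ 3 := Nat.pow_lt_pow_right (by omega) (by norm_num)
  have hne : ¬ ∀ x ∈ Q, x * x = 1 := fun h => by
    have h1 := card_sq_one hS
    have h2 : Nat.card {x : Q // x * x = 1} = Nat.card Q :=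
      Nat.card_congr (Equiv.subtypeUnivEquiv fun x : Q => Subtype.ext (h x x.2))
    omega
  have hC := concl hS h2
  refine ⟨?_, ?_⟩
  · have hna : ∃ x ∈ Q, ∃ y ∈ Q, x * y ≠ y * x := (hC.2.1.resolve_left hne).1
    rcases card_cases hS hC.1 h2 (fun h => by
        obtain ⟨x, hx, y, hy, hxy⟩ := hna
        exact absurd (h x hx y hy) hxy) hne with h | ⟨-, h, -⟩
    · omega
    · exact h
  · rcases Ext.shape_cases hS h2 with ⟨h, -⟩ | ⟨-, h⟩
    · exact h
    · omega

variable {G Ω : Type u} [Group G] [MulAction G Ω] {Z : Set G} [Finite G] [FaithfulSMul G Ω]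

namespace FCtx

variable (hF : FCtx G Ω Z) (hbig : hF.Big)
include hF hbig

section Elt

variable {u : G} (hu : IsB Ω u) {a b : Ω} (hua : u • a = a) (hub : u • b = b) (hba : b ≠ a)
include hu hua hub hba

/-- In the group of a full involution an element of the kernel at `a` fixing `b` moves a fixed point of it. -/
theorem exists_kernel_elt : ∃ x ∈ wGrp Z u, x ∈ hF.kGrp a ∧ x • b = b ∧ ¬ Agree Ω u x 1 := by
  obtain ⟨c, hc, hca, -⟩ := exists_swap hF.ctx.hyp hba.symm
  obtain ⟨hcW, Q, hS, hq, h4, -⟩ := hF.exists_setup hu hua hub hba hc hca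
  have hQc : Nat.card Q = qZ (topGrp hF.ctx.hyp (wGrp Z u))
      (⟨a, hF.mem_centres_w hu hua⟩ : centres Ω Z (wGrp Z u)) ^ 3 := by
    have h := CfsgLib.RankOne.card_points hS
    have e := congrArg Set.ncard (hF.centres_w hu)
    rw [Nat.card_coe_set_eq] at h
    have h' := hbig u a hu hua
    rw [fixCard] at h'
    rw [hq]
    omega
  obtain ⟨hsq, hr⟩ := cube_facts hS h4 hQc
  have hW := exists_torus_cent hS h4 hsq hr hQc
  rw [NoW] at hW
  push Not at hW
  obtain ⟨d, hd, hcomm, hd1⟩ := hW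
  obtain ⟨⟨x, hxW⟩, rfl⟩ := img_surjective (hQ := hF.ctx.hyp) (X := wGrp Z u) d
  obtain ⟨hda, hdb⟩ := (CfsgLib.RankOne.mem_D hS).mp hd
  have hxa : x • a = a := congrArg Subtype.val hda
  have hxb : x • b = b := by
    have h : x • c • a = c • a := congrArg Subtype.val hdb
    rwa [hca] at h
  refine ⟨x, hxW, hF.mem_kGrp.mpr ⟨hxa, fun e he => ?_⟩, hxb, fun h => hd1 ?_⟩
  · by_cases he1 : e = 1
    · rw [he1, one_mul, mul_one]
    have heW := hF.eGrp_le_wGrp hu hua he
    have h := hcomm (img hF.ctx.hyp (wGrp Z u) ⟨e, heW⟩) ⟨Subtype.ext (hF.eGrp_fix he),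
      img_isInv hF.ctx.hyp (hF.isTopOdd_w hu).toIsTop (x := ⟨e, heW⟩) (hF.mem_of_mem_eGrp he he1).1⟩
    rw [← map_mul, ← map_mul, hF.img_eq_iff hu] at h
    have h2 := hF.eGrp_conj (g := x) he
    rw [hxa] at h2
    have h3 := h.mul_right (z := x⁻¹) (wGrp_comm (inv_mem hxW))
    have h4 := hF.eGrp_eq_of_agree hu h2 he (by simpa [mul_assoc] using h3)
    exact (mul_inv_eq_iff_eq_mul.mp h4).symm
  · rw [← map_one (img hF.ctx.hyp (wGrp Z u)), hF.img_eq_iff hu]
    exact h

/-- Elements of two power order fixing both points fix all fixed points of the involution. -/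
theorem agree_one_of_two {y : G} (hy : y ∈ wGrp Z u) (hya : y • a = a) (hyb : y • b = b) {k : ℕ}
    (hk : Agree Ω u (y ^ 2 ^ k) 1) : Agree Ω u y 1 :=
  hF.qGrp_agree_one hu hua ⟨hy, hya, k, hk⟩ hub hba hyb

/-- A subgroup of odd prime power order of the two-point kernel in the group of the involution, normalised by a given
`2`-subgroup centralising it. -/
theorem exists_inv_sylow {A : Subgroup G} (hA : IsPGroup 2 A) (hAK : A ≤ hF.kGrp a) (hAb : ∀ g ∈ A, g • b = b)
    (hAu : ∀ g ∈ A, u * g = g * u) :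
    ∃ p : ℕ, p.Prime ∧ p ≠ 2 ∧ ∃ X : Subgroup G, IsPGroup p X ∧ X ≠ ⊥ ∧ X ≤ hF.kGrp a ∧ (∀ x ∈ X, x • b = b) ∧
      X ≤ wGrp Z u ∧ ∀ g ∈ A, g ∈ Subgroup.normalizer (X : Set G) := by
  classical
  haveI : Fact (Nat.Prime 2) := ⟨Nat.prime_two⟩
  set H : Subgroup G := wGrp Z u ⊓ (hF.kGrp a ⊓ stabilizer G b) with hH
  set Kf : Subgroup H := (fixingSubgroup G {c : Ω | u • c = c}).subgroupOf H with hKf
  have hmem : ∀ {y : H}, y ∈ Kf ↔ Agree Ω u (y : G) 1 := fun {y} => by
    rw [hKf, Subgroup.mem_subgroupOf, mem_fixingSubgroup_iff]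
    simp [Agree]
  have hKn : Kf ≤ Subgroup.center H := fun k hk => Subgroup.mem_center_iff.mpr fun y => Subtype.ext
    (hF.commute_w_of_fix_all hu (hmem.mp hk) y.2.1).symm
  haveI : Kf.Normal := ⟨fun k hk g => by
    rw [Subgroup.mem_center_iff.mp (hKn hk) g, mul_inv_cancel_right]
    exact hk⟩
  obtain ⟨x, hxW, hxK, hxb, hxne⟩ := hF.exists_kernel_elt hbig hu hua hub hba
  set xH : H := ⟨x, hxW, hxK, mem_stabilizer_iff.mpr hxb⟩
  have hodd : ¬ 2 ∣ Kf.index := by
    intro h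
    obtain ⟨T⟩ : Nonempty (Sylow 2 H) := inferInstance
    have hle : (T : Subgroup H) ≤ Kf := fun y hy => hmem.mpr (by
      obtain ⟨k, hk⟩ := T.isPGroup' ⟨y, hy⟩
      have hk' : (y : G) ^ 2 ^ k = 1 := by
        have := congrArg (fun z : (T : Subgroup H) => ((z : H) : G)) hk
        simpa using this
      exact hF.agree_one_of_two hbig hu hua hub hba y.2.1 (hF.mem_kGrp.mp y.2.2.1).1
        (mem_stabilizer_iff.mp y.2.2.2) (k := k) (by rw [hk']; exact Agree.refl u 1))
    exact T.not_dvd_index (h.trans (Subgroup.index_dvd_of_le hle))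
  have hne : Kf.index ≠ 1 := fun h => hxne (hmem.mp (by
    rw [Subgroup.index_eq_one.mp h]
    exact Subgroup.mem_top xH))
  set p := Kf.index.minFac with hpdef
  haveI : Fact p.Prime := ⟨Nat.minFac_prime hne⟩
  have hp2 : p ≠ 2 := fun e => hodd (e ▸ Nat.minFac_dvd _)
  have hdvd : p ∣ Nat.card H := (Nat.minFac_dvd _).trans Kf.index_dvd_card
  -- the `2`-group acts on the Sylow subgroups, of which there is an odd number
  have hAn : A ≤ Subgroup.normalizer (H : Set G) := fun g hg => mem_normalizer_of_conj fun y hy =>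
    ⟨hF.wGrp_conj hu (keeps_of_comm (hAu g hg)) hy.1,
      hF.kGrp_normal (hF.mem_kGrp.mp (hAK hg)).1 hy.2.1, mem_stabilizer_iff.mpr (by
        rw [mul_smul, mul_smul, inv_smul_eq_iff.mpr (hAb g hg).symm, mem_stabilizer_iff.mp hy.2.2, hAb g hg])⟩
  let φ : A →* MulAut H := H.normalizerMonoidHom.comp (Subgroup.inclusion hAn)
  letI : MulDistribMulAction A H := MulDistribMulAction.compHom H φ
  have hcount : ¬ 2 ∣ Nat.card (Sylow p H) := fun h => hodd (h.trans (by
    rw [Sylow.card_eq_index_normalizer (default : Sylow p H)]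
    exact Subgroup.index_dvd_of_le fun k hk => Subgroup.center_le_normalizer _ (hKn hk)))
  obtain ⟨T, hT⟩ := hA.nonempty_fixed_point_of_prime_not_dvd_card (Sylow p H) hcount
  refine ⟨p, Fact.out, hp2, (T : Subgroup H).map H.subtype, T.isPGroup'.map _, fun h => ?_, ?_, ?_, ?_, ?_⟩
  · have h1 := T.card_eq_multiplicity
    rw [← Subgroup.card_map_of_injective H.subtype_injective (K := (T : Subgroup H)), h, Subgroup.card_bot] at h1
    have h2 : 0 < (Nat.card H).factorization p := Nat.Prime.factorization_pos_of_dvd Fact.out Nat.card_pos.ne' hdvd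
    exact (Nat.one_lt_pow h2.ne' (Fact.out : p.Prime).one_lt).ne h1
  · exact (Subgroup.map_subtype_le _).trans (inf_le_right.trans inf_le_left)
  · exact fun y hy => mem_stabilizer_iff.mp ((Subgroup.map_subtype_le _ hy).2.2)
  · exact (Subgroup.map_subtype_le _).trans inf_le_left
  · intro g hg
    refine mem_normalizer_of_conj ?_
    rintro _ ⟨k, hk, rfl⟩
    refine ⟨(⟨g, hg⟩ : A) • k, ?_, rfl⟩
    have h1 : (⟨g, hg⟩ : A) • T = T := hT ⟨g, hg⟩
    have h2 := Subgroup.smul_mem_pointwise_smul k (⟨g, hg⟩ : A) (T : Subgroup H) hk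
    rwa [← Sylow.pointwise_smul_def, h1] at h2

end Elt

section Root

variable {v : G} (hv : IsB Ω v) {a b : Ω} (hva : v • a = a) (hvb : v • b = b) (hba : b ≠ a)
  {p : ℕ} [Fact p.Prime] (hp2 : p ≠ 2) {X : Subgroup G} (hX : IsPGroup p X) (hX1 : X ≠ ⊥)
  (hXK : X ≤ hF.kGrp a) (hXb : ∀ x ∈ X, x • b = b) (hXv : ∀ x ∈ X, v * x = x * v)
include hv hva hvb hba hp2 hX hX1 hXK hXb hXv

/-- The `2`-group regular on the centres at `a`. -/
theorem exists_root : ∃ R : Subgroup G, IsPGroup 2 R ∧ R ≤ hF.kGrp a ∧ R ≤ Subgroup.centralizer (X : Set G) ∧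
    Nat.card R = Nat.card (hF.eGrp a) ^ 3 ∧ hF.eGrp a ≤ R ∧ (∀ r ∈ R, r * r ∈ hF.eGrp a) ∧
    (∀ g : G, g • a = a → g ∈ Subgroup.normalizer (X : Set G) → ∀ r ∈ R, g * r * g⁻¹ ∈ R) ∧
    (∀ r ∈ R, r • b ∈ centres Ω Z (Subgroup.centralizer (X : Set G))) ∧ ∀ r ∈ R, r • b = b → r = 1 := by
  classical
  haveI : Fact (Nat.Prime 2) := ⟨Nat.prime_two⟩
  have hQ := hF.ctx.hyp
  have hB := hF.ctx.below
  have hT := hF.isTop_centralizer hbig hv hva hvb hba hp2 hX hX1 hXK hXb hXv
  obtain ⟨hcount, hqT, hline⟩ := hF.line_count hbig hv hva hvb hba hp2 hX hX1 hXK hXb hXv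
  set C := Subgroup.centralizer (X : Set G) with hC
  have hac : a ∈ centres Ω Z C := hF.mem_centres_of_fix hv hva hXv hv hva hva hXK hXv
    (fun x hx => (hF.mem_kGrp.mp (hXK hx)).1)
  have hbc : b ∈ centres Ω Z C := hF.mem_centres_of_fix hv hva hXv hv hva hvb hXK hXv hXb
  obtain ⟨w, hw0, ha0, Q, hwZ, hwa, hS⟩ := hT.exists_setup hQ hB hac hbc hba
  have hT0 := isTopOdd_memGrp hT
  have hcen : centres Ω Z (memGrp Z C) = centres Ω Z C := centres_memGrp C
  have h4 := hT0.fourTop hQ hB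
  have hqZ : qZ (topGrp hQ (memGrp Z C)) (⟨a, ha0⟩ : centres Ω Z (memGrp Z C)) = Nat.card (hF.eGrp a) := by
    rw [qTop_eq hQ hB hT0 ha0, qTop_memGrp, hqT]
  have hQc : Nat.card Q = Nat.card (hF.eGrp a) ^ 3 := by
    have h := CfsgLib.RankOne.card_points hS
    rw [show Nat.card (centres Ω Z (memGrp Z C)) = Nat.card (centres Ω Z C) by rw [hcen], hcount] at h
    omega
  have hsq := (cube_facts hS h4 (by rw [hqZ, hQc])).1
  have hQp : IsPGroup 2 Q := (concl hS h4).1
  -- the kernel on the centres has no involution and is central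
  have hnoinv : ∀ n ∈ C, IsInv n → ¬ ∀ c ∈ centres Ω Z C, n • c = c := by
    intro n hn hni hfix
    haveI := finite_points hQ
    have hB' : IsB Ω n := ⟨hni, a, b, hba.symm, hfix a hac, hfix b hbc⟩
    have hsub : centres Ω Z C = {c : Ω | n • c = c} := by
      refine Set.eq_of_subset_of_ncard_le (fun c hc => hfix c hc) ?_ (Set.toFinite _)
      have h := hbig n a hB' (hfix a hac)
      rw [fixCard] at h
      rw [h, ← Nat.card_coe_set_eq, hcount]
    refine hX1 ((Subgroup.eq_bot_iff_forall _).mpr fun x hx => ?_)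
    refine hF.eq_one_of_fix_all hbig hB' (hfix a hac) (hXK hx) ?_
      (Subgroup.mem_centralizer_iff.mp hn x hx).symm fun c hc => ?_
    · exact CfsgLib.Bender.TwoClosed.odd_orderOf_of_pGroup hp2 hX hx
    · rw [one_smul]
      exact hF.fix_of_centre hbig hv hva hvb hba hp2 hX hX1 hXK hXb hXv (hsub ▸ hc : c ∈ centres Ω Z C) hx
  have htriv : ∀ (y : (memGrp Z C)) (k : ℕ), img hQ (memGrp Z C) y = 1 → y ^ 2 ^ k = 1 → y = 1 := by
    intro y k hy hk
    induction k generalizing y with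
    | zero => rwa [pow_zero, pow_one] at hk
    | succ k ih =>
      have h2 : y ^ 2 = 1 := ih (y ^ 2) (by rw [map_pow, hy, one_pow]) (by rwa [← pow_mul, ← pow_succ'])
      by_contra hne
      refine hnoinv (y : G) (memGrp_le y.2) ⟨fun e => hne (Subtype.ext e), ?_⟩
        fun c hc => img_eq_one_iff.mp hy c (hcen ▸ hc)
      rw [← Subgroup.coe_mul, ← pow_two, h2]
      rfl
  have hcentral : ∀ k : (memGrp Z C), img hQ (memGrp Z C) k = 1 → ∀ y : (memGrp Z C), k * y = y * k := by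
    intro k hk y
    have hle : (memGrp Z C) ≤ Subgroup.centralizer ({(k : G)} : Set G) := by
      refine (Subgroup.closure_le _).mpr fun z hz => mem_cent_iff.mpr ?_
      obtain ⟨c, hc⟩ := exists_fix hQ hz.1
      have hzW : z ∈ (memGrp Z C) := mem_memGrp hz.1 hz.2
      have hcW : c ∈ centres Ω Z (memGrp Z C) := mem_centres hzW hz.1 hc
      have hkc : (k : G) • c = c := img_eq_one_iff.mp hk c hcW
      have hz' : (k : G) * z * (k : G)⁻¹ ∈ Z := hQ.conj z hz.1 _
      have hz'c : ((k : G) * z * (k : G)⁻¹) • c = c := by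
        have := smul_conj (g := (k : G)) hc
        rwa [hkc] at this
      have hodd := odd_mul_of_img_eq hQ hT0.toIsTop (x := k * ⟨z, hzW⟩ * k⁻¹) (y := ⟨z, hzW⟩) hz' hz.1 (by
        rw [map_mul, map_mul, map_inv, hk]
        group)
      exact mul_inv_eq_iff_eq_mul.mp (eq_of_commute_odd (hQ.inv _ hz') (hQ.inv z hz.1)
        (hF.comm _ hz' z hz.1 c hz'c hc) hodd)
    exact Subtype.ext (mem_cent_iff.mp (hle y.2))
  -- a Sylow subgroup of the preimage of the regular group
  set Pt : Subgroup (memGrp Z C) := Q.comap (img hQ (memGrp Z C)) with hPt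
  obtain ⟨S, -, hSm⟩ := exists_maxP (p := 2) (K := Pt) (IsPGroup.of_bot (p := 2) (G := (memGrp Z C))) bot_le
  have hinj : ∀ y ∈ S, ∀ y' ∈ S, img hQ (memGrp Z C) y = img hQ (memGrp Z C) y' → y = y' := by
    intro y hy y' hy' h
    obtain ⟨k, hk⟩ := hSm.isPGroup ⟨y'⁻¹ * y, mul_mem (inv_mem hy') hy⟩
    refine (inv_mul_eq_one.mp (htriv (y'⁻¹ * y) k ?_ (by simpa using congrArg Subtype.val hk))).symm
    rw [map_mul, map_inv, h, inv_mul_cancel]
  let f : S → Q := fun y => ⟨img hQ (memGrp Z C) y, hSm.le y.2⟩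
  have hf : Function.Injective f := fun y y' h => Subtype.ext (hinj y y.2 y' y'.2 (congrArg Subtype.val h))
  have hScard : Nat.card S = Nat.card (hF.eGrp a) ^ 3 := by
    refine le_antisymm (hQc ▸ Nat.card_le_card_of_injective f hf) ?_
    rw [hSm.card, ← hQc]
    obtain ⟨l, hl⟩ := hQp.exists_card_eq
    have hdvd : Nat.card Q ∣ Nat.card Pt := by
      have h := Subgroup.card_map_dvd Pt (img hQ (memGrp Z C))
      rwa [hPt, Subgroup.map_comap_eq_self_of_surjective img_surjective] at h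
    rw [hl] at hdvd ⊢
    exact Nat.pow_le_pow_right (by norm_num)
      ((Nat.prime_two.pow_dvd_iff_le_factorization Nat.card_pos.ne').mp hdvd)
  have hsurj : Function.Surjective f :=
    ((Nat.bijective_iff_injective_and_card f).mpr ⟨hf, by rw [hScard, hQc]⟩).2
  have hmemS : ∀ y : (memGrp Z C), (y : G) • a = a → ∀ k : ℕ, (y : G) ^ 2 ^ k = 1 → y ∈ S := by
    intro y hya k hk
    have hk' : y ^ 2 ^ k = 1 := Subtype.ext (by rw [SubgroupClass.coe_pow, hk]; rfl)
    have hyQ : img hQ (memGrp Z C) y ∈ Q := by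
      refine mem_Q_of_pow hF hS (Subtype.ext hya) (k := k) ?_
      rw [← map_pow, hk', map_one]
    obtain ⟨⟨s, hs⟩, he⟩ := hsurj ⟨_, hyQ⟩
    have he' : img hQ (memGrp Z C) s = img hQ (memGrp Z C) y := congrArg Subtype.val he
    set z := s⁻¹ * y with hz
    have hzimg : img hQ (memGrp Z C) z = 1 := by rw [hz, map_mul, map_inv, he', inv_mul_cancel]
    obtain ⟨j, hj⟩ := hSm.isPGroup ⟨s, hs⟩
    have hsj : s ^ 2 ^ j = 1 := by simpa using congrArg Subtype.val hj
    have hz1 : z = 1 := by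
      refine htriv z (k + j) hzimg ?_
      have hcomm : Commute z s := hcentral z hzimg s
      have hy' : s * z = y := by rw [hz, mul_inv_cancel_left]
      have h1 : y ^ 2 ^ (k + j) = 1 := by rw [pow_add, pow_mul, hk', one_pow]
      have h2 : s ^ 2 ^ (k + j) = 1 := by rw [add_comm k, pow_add, pow_mul, hsj, one_pow]
      rwa [← hy', hcomm.symm.mul_pow, h2, one_mul] at h1
    rw [hz, inv_mul_eq_one] at hz1
    exact hz1 ▸ hs
  have hSfix : ∀ y ∈ S, (y : G) • a = a := fun y hy =>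
    congrArg Subtype.val (CfsgLib.RankOne.mem_Q_a hS (hSm.le hy))
  have hE : ∀ e ∈ hF.eGrp a, ∃ h : e ∈ (memGrp Z C), (⟨e, h⟩ : (memGrp Z C)) ∈ S := by
    intro e he
    have heC : e ∈ C := Subgroup.mem_centralizer_iff.mpr fun x hx => ((hF.mem_kGrp.mp (hXK hx)).2 e he).symm
    have heW : e ∈ (memGrp Z C) := by
      rcases hF.mem_eGrp.mp he with rfl | ⟨heZ, -⟩
      · exact one_mem _
      · exact mem_memGrp heZ heC
    exact ⟨heW, hmemS ⟨e, heW⟩ (hF.eGrp_fix he) 1 (by rw [pow_one, pow_two]; exact hF.eGrp_sq he)⟩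
  refine ⟨S.map (memGrp Z C).subtype, hSm.isPGroup.map _, ?_, ?_, ?_, ?_, ?_, ?_, ?_, ?_⟩
  · rintro _ ⟨y, hy, rfl⟩
    refine hF.mem_kGrp.mpr ⟨hSfix y hy, fun e he => ?_⟩
    by_cases he1 : e = 1
    · show e * (y : G) = (y : G) * e
      rw [he1, one_mul, mul_one]
    obtain ⟨heW, heS⟩ := hE e he
    have hei := img_isInv hQ hT0.toIsTop (x := ⟨e, heW⟩) (hF.mem_of_mem_eGrp he he1).1
    have h := CfsgLib.RankOne.invol_central hS h4 (s := img hQ (memGrp Z C) ⟨e, heW⟩)
      ⟨Subtype.ext (hF.eGrp_fix he), hei.1, hei.2⟩ (hSm.le hy)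
    rw [← map_mul, ← map_mul] at h
    exact congrArg Subtype.val (hinj _ (mul_mem heS hy) _ (mul_mem hy heS) h)
  · rintro _ ⟨y, -, rfl⟩
    exact memGrp_le y.2
  · rw [Subgroup.card_map_of_injective (memGrp Z C).subtype_injective, hScard]
  · exact fun e he => ⟨⟨e, (hE e he).1⟩, (hE e he).2, rfl⟩
  · rintro _ ⟨y, hy, rfl⟩
    show (y : G) * y ∈ hF.eGrp a
    by_cases h1 : img hQ (memGrp Z C) (y * y) = 1
    · have : y * y = 1 := hinj _ (mul_mem hy hy) _ (one_mem _) (by rw [h1, map_one])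
      rw [show (y : G) * y = ((y * y : (memGrp Z C)) : G) from rfl, this]
      exact one_mem _
    have hi : IsInv (img hQ (memGrp Z C) (y * y)) := ⟨h1, by rw [map_mul]; exact hsq _ (hSm.le hy)⟩
    obtain ⟨z, hz, hze⟩ := exists_inv_lift hQ hB hT0 hi
    have hza : (z : G) • a = a := by
      rw [← img_smul (hQ := hQ) z ⟨a, ha0⟩, hze, img_smul, Subgroup.coe_mul, mul_smul, hSfix y hy, hSfix y hy]
    have hzS := hmemS z hza 1 (by rw [pow_one, pow_two]; exact (hQ.inv _ hz).2)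
    rw [show (y : G) * y = ((y * y : (memGrp Z C)) : G) from rfl, ← hinj _ hzS _ (mul_mem hy hy) hze]
    exact hF.mem_eGrp_of hz hza
  · intro g hga hgX r hr
    obtain ⟨y, hy, rfl⟩ := hr
    have hgC : g ∈ Subgroup.normalizer (C : Set G) := Ext.normalizer_le_centralizer hgX
    have hW : g * (y : G) * g⁻¹ ∈ (memGrp Z C) := conj_memGrp hQ hgC y.2
    obtain ⟨k, hk⟩ := hSm.isPGroup ⟨y, hy⟩
    have hk' : (y : G) ^ 2 ^ k = 1 := by
      simpa using congrArg (fun z : S => ((z : (memGrp Z C)) : G)) hk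
    refine ⟨⟨_, hW⟩, hmemS ⟨_, hW⟩ ?_ k ?_, rfl⟩
    · show (g * (y : G) * g⁻¹) • a = a
      rw [mul_smul, mul_smul, inv_smul_eq_iff.mpr hga.symm, hSfix y hy, hga]
    · show (g * (y : G) * g⁻¹) ^ 2 ^ k = 1
      rw [conj_pow, hk', mul_one, mul_inv_cancel]
  · rintro _ ⟨y, -, rfl⟩
    exact centres_smul hQ (memGrp_le y.2) hbc
  · rintro _ ⟨y, hy, rfl⟩ hyb
    have h1 := CfsgLib.RankOne.eq_one_of_fix hS (hSm.le hy) (c := ⟨b, hcen ▸ hbc⟩)
      (fun e => hba (congrArg Subtype.val e)) (Subtype.ext hyb)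
    exact congrArg Subtype.val (hinj y hy 1 (one_mem _) (by rw [h1, map_one]))

end Root

end FCtx

end CfsgLib.Bender.Q
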